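import Mathlib

/-!
The space of `ℂ`-points of a finite type `ℂ`-algebra, with the topology of pointwise convergence.
-/

set_option autoImplicit false

open scoped Topology

namespace Groth.Agent.AnLib

noncomputable section

variable {A : Type*} [CommRing A] [Algebra ℂ A]

/-- The topology of pointwise convergence on `ℂ`-points. -/
scoped instance algPtsTopology : TopologicalSpace (A →ₐ[ℂ] ℂ) :=
  TopologicalSpace.induced (fun φ : A →ₐ[ℂ] ℂ => (φ : A → ℂ)) inferInstance

lemma isEmbedding_coe : Topology.IsEmbedding (fun φ : A →ₐ[ℂ] ℂ => (φ : A → ℂ)) :=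
  ⟨⟨rfl⟩, DFunLike.coe_injective⟩

lemma continuous_eval (a : A) : Continuous fun φ : A →ₐ[ℂ] ℂ => φ a :=
  (continuous_apply a).comp continuous_induced_dom

lemma continuous_rng {T : Type*} [TopologicalSpace T] {F : T → (A →ₐ[ℂ] ℂ)}
    (h : ∀ a, Continuous fun t => F t a) : Continuous F :=
  continuous_induced_rng.mpr (continuous_pi h)

scoped instance : T2Space (A →ₐ[ℂ] ℂ) := isEmbedding_coe.t2Space

lemma continuous_comp {B : Type*} [CommRing B] [Algebra ℂ B] (g : B →ₐ[ℂ] A) :
    Continuous fun φ : A →ₐ[ℂ] ℂ => φ.comp g :=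
  continuous_rng fun b => continuous_eval (g b)

lemma apply_aeval {n : ℕ} (s : Fin n → A) (φ : A →ₐ[ℂ] ℂ) (p : MvPolynomial (Fin n) ℂ) :
    φ (MvPolynomial.aeval s p) = MvPolynomial.eval (fun i => φ (s i)) p := by
  rw [← AlgHom.comp_apply, MvPolynomial.comp_aeval, ← MvPolynomial.aeval_eq_eval]

/-- Generators give a closed embedding into `ℂⁿ`. -/
lemma isClosedEmbedding_gens {n : ℕ} (s : Fin n → A)
    (hs : Function.Surjective (MvPolynomial.aeval (R := ℂ) s)) :
    Topology.IsClosedEmbedding (fun (φ : A →ₐ[ℂ] ℂ) (i : Fin n) => φ (s i)) := by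
  refine ⟨⟨⟨le_antisymm ?_ ?_⟩, ?_⟩, ?_⟩
  · exact (continuous_pi fun i => continuous_eval (s i)).le_induced
  · let t : TopologicalSpace (A →ₐ[ℂ] ℂ) :=
      TopologicalSpace.induced (fun φ i => φ (s i)) inferInstance
    have h : @Continuous _ _ t _ (fun φ : A →ₐ[ℂ] ℂ => (φ : A → ℂ)) := by
      refine @continuous_pi _ _ _ t _ _ fun a => ?_
      obtain ⟨p, rfl⟩ := hs a
      simp only [apply_aeval]
      exact (MvPolynomial.continuous_eval p).comp continuous_induced_dom
    exact h.le_induced
  · intro φ ψ h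
    refine AlgHom.ext fun a => ?_
    obtain ⟨p, rfl⟩ := hs a
    simp only [apply_aeval]
    simp only at h
    rw [h]
  · have e : Set.range (fun (φ : A →ₐ[ℂ] ℂ) (i : Fin n) => φ (s i)) =
        ⋂ p ∈ RingHom.ker (MvPolynomial.aeval (R := ℂ) s), {z | MvPolynomial.eval z p = 0} := by
      ext z
      simp only [Set.mem_range, Set.mem_iInter, Set.mem_ofPred_eq]
      constructor
      · rintro ⟨φ, rfl⟩ p hp
        rw [← apply_aeval, RingHom.mem_ker.mp hp, map_zero]
      · intro hz
        refine ⟨AlgHom.liftOfSurjective (MvPolynomial.aeval (R := ℂ) s) hs (MvPolynomial.aeval z)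
          (fun p hp => ?_), funext fun i => ?_⟩
        · rw [RingHom.mem_ker]
          change MvPolynomial.aeval z p = 0
          rw [MvPolynomial.aeval_eq_eval]; exact hz p hp
        · have h := AlgHom.liftOfSurjective_apply (MvPolynomial.aeval (R := ℂ) s) hs
            (MvPolynomial.aeval z) (fun p hp => by
              rw [RingHom.mem_ker]
              change MvPolynomial.aeval z p = 0
              rw [MvPolynomial.aeval_eq_eval]; exact hz p hp) (MvPolynomial.X i)
          simpa using h
    rw [e]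
    exact isClosed_biInter fun p _ => isClosed_eq (MvPolynomial.continuous_eval p) continuous_const

lemma exists_gens [h : Algebra.FiniteType ℂ A] :
    ∃ (n : ℕ) (s : Fin n → A), Function.Surjective (MvPolynomial.aeval (R := ℂ) s) := by
  obtain ⟨n, f, hf⟩ := Algebra.FiniteType.iff_quotient_mvPolynomial''.mp h
  refine ⟨n, fun i => f (MvPolynomial.X i), ?_⟩
  have : MvPolynomial.aeval (fun i => f (MvPolynomial.X i)) = f :=
    MvPolynomial.algHom_ext fun i => by simp
  rw [this]; exact hf

scoped instance [Algebra.FiniteType ℂ A] : LocallyCompactSpace (A →ₐ[ℂ] ℂ) :=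
  let ⟨_, _, hs⟩ := exists_gens (A := A)
  (isClosedEmbedding_gens _ hs).locallyCompactSpace

scoped instance [Algebra.FiniteType ℂ A] : FirstCountableTopology (A →ₐ[ℂ] ℂ) :=
  let ⟨_, _, hs⟩ := exists_gens (A := A)
  (isClosedEmbedding_gens _ hs).isInducing.firstCountableTopology

end

end Groth.Agent.AnLib
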