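import Groth.Prelude.Def_AnPts
import Groth.Agent.AnLib.AlgPts

/-!
`ℂ`-points of schemes: evaluation calculus and affine charts.
-/

set_option autoImplicit false
set_option backward.isDefEq.respectTransparency false

open CategoryTheory AlgebraicGeometry TopologicalSpace

namespace Groth.Agent.AnLib

noncomputable section

open An

variable {X Y : Scheme.{0}} [X.Over SC] [Y.Over SC]

/-- The constants inside the sections over an open. -/
def strU (U : X.Opens) : ℂ →+* Γ(X, U) :=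
  ((X ↘ SC).appLE ⊤ U le_top).hom.comp (Scheme.ΓSpecIso (CommRingCat.of ℂ)).inv.hom

scoped instance secAlgebra (U : X.Opens) : Algebra ℂ Γ(X, U) := (strU U).toAlgebra

lemma algebraMap_sec (U : X.Opens) (c : ℂ) : algebraMap ℂ Γ(X, U) c = strU U c := rfl

lemma map_strU {U V : X.Opens} (h : V ≤ U) (c : ℂ) :
    X.presheaf.map (homOfLE h).op (strU U c) = strU V c := by
  simp only [strU, RingHom.comp_apply]
  rw [← CommRingCat.comp_apply, Scheme.Hom.appLE_map]

lemma strHom_eq (c : ℂ) : An.strHom X c = strU ⊤ c := by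
  simp only [An.strHom, strU, RingHom.comp_apply, Scheme.Hom.appTop]
  rw [Scheme.Hom.app_eq_appLE]
  rfl

/-- Restriction as an algebra map. -/
def resAlg {U V : X.Opens} (h : V ≤ U) : Γ(X, U) →ₐ[ℂ] Γ(X, V) :=
  { (X.presheaf.map (homOfLE h).op).hom with commutes' := fun c => map_strU h c }

/-- Pullback of sections as an algebra map. -/
def pullAlg (f : X ⟶ Y) [f.IsOver SC] (V : Y.Opens) (U : X.Opens) (h : U ≤ f ⁻¹ᵁ V) :
    Γ(Y, V) →ₐ[ℂ] Γ(X, U) :=
  { (f.appLE V U h).hom with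
    commutes' := fun c => by
      change f.appLE V U h (strU V c) = strU U c
      simp only [strU, RingHom.comp_apply]
      rw [← CommRingCat.comp_apply, Scheme.Hom.appLE_comp_appLE]
      congr 3
      simp only [comp_over f] }

lemma pullAlg_apply (f : X ⟶ Y) [f.IsOver SC] (V : Y.Opens) (U : X.Opens) (h : U ≤ f ⁻¹ᵁ V)
    (g : Γ(Y, V)) : pullAlg f V U h g = f.appLE V U h g := rfl

lemma finiteType_sec [LocallyOfFiniteType (X ↘ SC)] {U : X.Opens} (hU : IsAffineOpen U) :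
    Algebra.FiniteType ℂ Γ(X, U) :=
  RingHom.FiniteType.comp ((X ↘ SC).finiteType_appLE (isAffineOpen_top _) hU le_top)
    (RingHom.FiniteType.of_surjective _
      (Scheme.ΓSpecIso (CommRingCat.of ℂ)).commRingCatIsoToRingEquiv.symm.surjective)

/-- Evaluation at a point as an algebra map. -/
def toHom (x : Pts X) (U : X.Opens) (h : x.pt ∈ U) : Γ(X, U) →ₐ[ℂ] ℂ :=
  { ((x.1.appLE U ⊤ (x.top_le_preimage h)) ≫ (Scheme.ΓSpecIso (CommRingCat.of ℂ)).hom).hom with
    commutes' := fun c => by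
      change ((x.1.appLE U ⊤ (x.top_le_preimage h)) ≫ (Scheme.ΓSpecIso (CommRingCat.of ℂ)).hom)
        (strU U c) = c
      simp only [strU, RingHom.comp_apply]
      rw [← CommRingCat.comp_apply, ← CommRingCat.comp_apply, Scheme.Hom.appLE_comp_appLE_assoc]
      have e : ∀ (k : SC ⟶ SC) (hk : k = 𝟙 SC) (hle), (Scheme.ΓSpecIso (CommRingCat.of ℂ)).inv ≫
          k.appLE ⊤ ⊤ hle ≫ (Scheme.ΓSpecIso (CommRingCat.of ℂ)).hom = 𝟙 _ := by
        rintro k rfl hle
        simp [Scheme.Hom.appLE]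
      rw [e _ x.2]
      rfl }

lemma toHom_apply (x : Pts X) (U : X.Opens) (h : x.pt ∈ U) (f : Γ(X, U)) :
    toHom x U h f = x.ev U h f := rfl

lemma ev_res (x : Pts X) {U V : X.Opens} (hVU : V ≤ U) (h : x.pt ∈ V) (f : Γ(X, U)) :
    x.ev V h (X.presheaf.map (homOfLE hVU).op f) = x.ev U (hVU h) f := by
  unfold An.Pts.ev
  have e := Scheme.Hom.map_appLE x.1 (x.top_le_preimage h) (homOfLE hVU).op
  exact congrArg (Scheme.ΓSpecIso (CommRingCat.of ℂ)).hom (congr($e f))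

lemma toHom_comp_resAlg (x : Pts X) {U V : X.Opens} (hVU : V ≤ U) (h : x.pt ∈ V) :
    (toHom x V h).comp (resAlg hVU) = toHom x U (hVU h) :=
  AlgHom.ext fun f => ev_res x hVU h f

lemma toHom_map (f : X ⟶ Y) [f.IsOver SC] (x : Pts X) {V : Y.Opens} {U : X.Opens}
    (hle : U ≤ f ⁻¹ᵁ V) (h : x.pt ∈ U) (h' : (x.map f).pt ∈ V) :
    toHom (x.map f) V h' = (toHom x U h).comp (pullAlg f V U hle) := by
  refine AlgHom.ext fun g => ?_
  change (x.map f).ev V h' g = x.ev U h (f.appLE V U hle g)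
  unfold An.Pts.ev
  rw [← CommRingCat.comp_apply (f.appLE V U hle), Scheme.Hom.appLE_comp_appLE]
  rfl

lemma mem_basicOpen_iff (x : Pts X) {U : X.Opens} (h : x.pt ∈ U) (f : Γ(X, U)) :
    x.pt ∈ X.basicOpen f ↔ x.ev U h f ≠ 0 := by
  have key := Scheme.basicOpen_appLE x.1 ⊤ U (x.top_le_preimage h) f
  have hu : x.ev U h f ≠ 0 ↔ IsUnit (x.1.appLE U ⊤ (x.top_le_preimage h) f) := by
    rw [← isUnit_iff_ne_zero]
    exact isUnit_map_iff (Scheme.ΓSpecIso (CommRingCat.of ℂ)).commRingCatIsoToRingEquiv _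
  rw [hu]
  constructor
  · intro hx
    have hm : (An.cpt : SC) ∈ SC.basicOpen (x.1.appLE U ⊤ (x.top_le_preimage h) f) := by
      rw [key]; exact ⟨trivial, hx⟩
    refine RingedSpace.isUnit_of_isUnit_germ SC.toRingedSpace ⊤ _ fun p hp => ?_
    rw [An.eq_cpt p] at hp ⊢
    exact (RingedSpace.mem_basicOpen _ _ _ hp).mp hm
  · intro hu
    have hm : (An.cpt : SC) ∈ SC.basicOpen (x.1.appLE U ⊤ (x.top_le_preimage h) f) := by
      rw [Scheme.basicOpen_of_isUnit _ hu]; trivial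
    rw [key] at hm
    exact hm.2

/-- The point attached to a `ℂ`-algebra map on an affine open. -/
def ofHom {U : X.Opens} (hU : IsAffineOpen U) (φ : Γ(X, U) →ₐ[ℂ] ℂ) : Pts X :=
  ⟨Spec.map (CommRingCat.ofHom φ.toRingHom) ≫ hU.fromSpec, by
    rw [Category.assoc, ← IsAffineOpen.SpecMap_appLE_fromSpec (X ↘ SC) (isAffineOpen_top _) hU
      le_top, IsAffineOpen.fromSpec_top, Scheme.isoSpec_Spec_inv, ← Spec.map_comp,
      ← Spec.map_comp, ← Spec.map_id]
    congr 1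
    ext c
    exact φ.commutes c⟩

lemma pt_ofHom {U : X.Opens} (hU : IsAffineOpen U) (φ : Γ(X, U) →ₐ[ℂ] ℂ) :
    (ofHom hU φ).pt ∈ U := by
  have : (ofHom hU φ).pt ∈ Set.range hU.fromSpec :=
    ⟨(Spec.map (CommRingCat.ofHom φ.toRingHom)) An.cpt, (Scheme.Hom.comp_apply _ _ _).symm⟩
  rwa [hU.range_fromSpec] at this

lemma pts_eq_toHom (x : Pts X) {U : X.Opens} (hU : IsAffineOpen U) (h : x.pt ∈ U) :
    x.1 = Spec.map (CommRingCat.ofHom (toHom x U h).toRingHom) ≫ hU.fromSpec := by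
  have e := IsAffineOpen.SpecMap_appLE_fromSpec x.1 hU (isAffineOpen_top _) (x.top_le_preimage h)
  rw [IsAffineOpen.fromSpec_top, Scheme.isoSpec_Spec_inv] at e
  have e2 : CommRingCat.ofHom (toHom x U h).toRingHom =
      x.1.appLE U ⊤ (x.top_le_preimage h) ≫ (Scheme.ΓSpecIso (CommRingCat.of ℂ)).hom := rfl
  rw [e2, Spec.map_comp, Category.assoc, e, ← Category.assoc, ← Spec.map_comp,
    Iso.inv_hom_id, Spec.map_id, Category.id_comp]

lemma ofHom_toHom (x : Pts X) {U : X.Opens} (hU : IsAffineOpen U) (h : x.pt ∈ U) :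
    ofHom hU (toHom x U h) = x :=
  Subtype.ext (pts_eq_toHom x hU h).symm

lemma toHom_ofHom {U : X.Opens} (hU : IsAffineOpen U) (φ : Γ(X, U) →ₐ[ℂ] ℂ) :
    toHom (ofHom hU φ) U (pt_ofHom hU φ) = φ := by
  have h := pts_eq_toHom (ofHom hU φ) hU (pt_ofHom hU φ)
  have h2 : CommRingCat.ofHom φ.toRingHom =
      CommRingCat.ofHom (toHom (ofHom hU φ) U (pt_ofHom hU φ)).toRingHom :=
    Spec.map_injective ((cancel_mono hU.fromSpec).mp h)
  exact (AlgHom.ext fun a => congr($h2 a)).symm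

lemma continuous_toHom (U : X.Opens) :
    Continuous fun x : {x : Pts X // x.pt ∈ U} => toHom x.1 U x.2 := by
  refine continuous_rng fun f => continuous_def.mpr fun V hV => ?_
  have : (fun x : {x : Pts X // x.pt ∈ U} => toHom x.1 U x.2 f) ⁻¹' V =
      Subtype.val ⁻¹' An.Pts.basicSet U f V := by
    ext x
    exact ⟨fun hx => ⟨x.2, hx⟩, fun ⟨_, hx⟩ => hx⟩
  rw [this]
  exact (An.Pts.isOpen_basicSet U f hV).preimage continuous_subtype_val

lemma continuous_ofHom {U : X.Opens} (hU : IsAffineOpen U) :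
    Continuous (ofHom hU : (Γ(X, U) →ₐ[ℂ] ℂ) → Pts X) := by
  refine continuous_generateFrom_iff.mpr ?_
  rintro _ ⟨W, f, V, hV, rfl⟩
  rw [isOpen_iff_forall_mem_open]
  rintro φ ⟨hW, hev⟩
  obtain ⟨g, hgW, hxg⟩ := hU.exists_basicOpen_le (V := W) ⟨_, hW⟩ (pt_ofHom hU φ)
  have := hU.isLocalization_basicOpen g
  obtain ⟨⟨a, ⟨_, n, rfl⟩⟩, ha⟩ :=
    IsLocalization.surj (Submonoid.powers g) (X.presheaf.map (homOfLE hgW).op f)
  simp only [RingHom.algebraMap_toAlgebra] at ha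
  have key : ∀ (ψ : Γ(X, U) →ₐ[ℂ] ℂ) (hg : ψ g ≠ 0), ∃ h : (ofHom hU ψ).pt ∈ W,
      (ofHom hU ψ).ev W h f = ψ a / ψ g ^ n := by
    intro ψ hg
    have e0 : ∀ b, ψ b = (ofHom hU ψ).ev U (pt_ofHom hU ψ) b := fun b => by
      rw [← toHom_apply, toHom_ofHom]
    have hD : (ofHom hU ψ).pt ∈ X.basicOpen g :=
      (mem_basicOpen_iff _ (pt_ofHom hU ψ) g).mpr (e0 g ▸ hg)
    refine ⟨hgW hD, ?_⟩
    have h' := congr(toHom (ofHom hU ψ) _ hD $ha)
    simp only [map_mul, map_pow] at h'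
    rw [eq_div_iff (pow_ne_zero _ hg), e0, e0, ← ev_res _ hgW hD f,
      ← ev_res (ofHom hU ψ) (X.basicOpen_le g) hD g, ← ev_res (ofHom hU ψ) (X.basicOpen_le g) hD a]
    exact h'
  refine ⟨{ψ | ψ g ≠ 0} ∩ {ψ | ψ g ≠ 0 ∧ ψ a / ψ g ^ n ∈ V}, ?_, ?_, ?_⟩
  · rintro ψ ⟨hg, -, hv⟩
    obtain ⟨h, e⟩ := key ψ hg
    exact ⟨h, e ▸ hv⟩
  · refine (isOpen_ne_fun (continuous_eval g) continuous_const).inter ?_
    exact ((continuous_eval a).continuousOn.div ((continuous_eval g).pow n).continuousOn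
      (fun ψ (hψ : ψ g ≠ 0) => pow_ne_zero _ hψ)).isOpen_inter_preimage
        (isOpen_ne_fun (continuous_eval g) continuous_const) hV
  · have hg : φ g ≠ 0 := by
      have := (mem_basicOpen_iff _ (pt_ofHom hU φ) g).mp hxg
      rwa [← toHom_apply, toHom_ofHom] at this
    obtain ⟨h, e⟩ := key φ hg
    exact ⟨hg, hg, e ▸ hev⟩

/-- The chart of an affine open. -/
def chart {U : X.Opens} (hU : IsAffineOpen U) :
    {x : Pts X // x.pt ∈ U} ≃ₜ (Γ(X, U) →ₐ[ℂ] ℂ) where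
  toFun x := toHom x.1 U x.2
  invFun φ := ⟨ofHom hU φ, pt_ofHom hU φ⟩
  left_inv x := Subtype.ext (ofHom_toHom x.1 hU x.2)
  right_inv φ := toHom_ofHom hU φ
  continuous_toFun := continuous_toHom U
  continuous_invFun := (continuous_ofHom hU).subtype_mk _

end

end Groth.Agent.AnLib
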