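import Groth.Agent.AnLib.Maps
import Groth.Prelude.Def_AnEps
import Mathlib.AlgebraicGeometry.Morphisms.Etale
import Mathlib.RingTheory.Unramified.LocalStructure

/-!
Étale morphisms induce local homeomorphisms on `ℂ`-points.
-/

set_option autoImplicit false
set_option backward.isDefEq.respectTransparency false

open CategoryTheory AlgebraicGeometry TopologicalSpace Topology Filter Polynomial

namespace Groth.Agent.AnLib

noncomputable section

/-- A simple root of a monic polynomial with continuous coefficients is locally a unique continuous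
function of the parameter. -/
lemma exists_unique_root_near {T : Type*} [TopologicalSpace T] (p : T → ℂ[X]) (d : ℕ)
    (hmon : ∀ t, (p t).Monic) (hdeg : ∀ t, (p t).natDegree = d)
    (hcont : ∀ i, Continuous fun t => (p t).coeff i) {t₀ : T} {c₀ : ℂ}
    (hroot : (p t₀).IsRoot c₀) (hsimple : (derivative (p t₀)).eval c₀ ≠ 0) :
    ∃ (W : Set T) (δ : ℝ) (s : T → ℂ), IsOpen W ∧ t₀ ∈ W ∧ 0 < δ ∧ ContinuousOn s W ∧
      ∀ t ∈ W, ‖s t - c₀‖ < δ ∧ (p t).IsRoot (s t) ∧
        ∀ c, (p t).IsRoot c → ‖c - c₀‖ < δ → c = s t := by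
  classical
  have hd : 0 < d := by
    rcases Nat.eq_zero_or_pos d with rfl | h
    · exfalso
      rw [(hmon t₀).natDegree_eq_zero.mp (hdeg t₀)] at hroot
      simp [Polynomial.IsRoot] at hroot
    · exact h
  let q : T × ℂ × ℂ → ℂ := fun u =>
    ∑ k ∈ Finset.range (d + 1), (p u.1).coeff k *
      ∑ i ∈ Finset.range k, u.2.1 ^ i * u.2.2 ^ (k - 1 - i)
  have hq : Continuous q :=
    continuous_finsetSum _ fun k _ => ((hcont k).comp continuous_fst).mul
      (continuous_finsetSum _ fun i _ =>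
        ((continuous_fst.comp continuous_snd).pow i).mul
          ((continuous_snd.comp continuous_snd).pow _))
  have hdiff : ∀ t c c', (p t).eval c - (p t).eval c' = q (t, c, c') * (c - c') := by
    intro t c c'
    have h1 := fun x => eval_eq_sum_range' (p := p t) (n := d + 1) (by rw [hdeg]; omega) x
    rw [h1, h1, ← Finset.sum_sub_distrib, Finset.sum_mul]
    refine Finset.sum_congr rfl fun k _ => ?_
    rw [← mul_sub, mul_assoc, geom_sum₂_mul]
  have hq0 : q (t₀, c₀, c₀) ≠ 0 := by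
    convert hsimple using 1
    rw [derivative_eval, Polynomial.sum_over_range' _ (fun n => by simp) (d + 1) (by rw [hdeg]; omega)]
    refine Finset.sum_congr rfl fun k _ => ?_
    have : ∀ i ∈ Finset.range k, c₀ ^ i * c₀ ^ (k - 1 - i) = c₀ ^ (k - 1) := fun i hi => by
      rw [← pow_add]; congr 1; have := Finset.mem_range.mp hi; omega
    rw [Finset.sum_congr rfl this, Finset.sum_const, Finset.card_range, nsmul_eq_mul, mul_assoc]
  obtain ⟨W₀, hW₀, V, hV, hWV⟩ := mem_nhds_prod_iff.mp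
    ((isOpen_ne_fun hq continuous_const).mem_nhds hq0)
  obtain ⟨V₁, hV₁, V₂, hV₂, hV₁₂⟩ := mem_nhds_prod_iff.mp hV
  obtain ⟨δ, hδ, hδV⟩ := Metric.mem_nhds_iff.mp (Filter.inter_mem hV₁ hV₂)
  have huniq : ∀ t ∈ W₀, ∀ c c', (p t).IsRoot c → (p t).IsRoot c' → ‖c - c₀‖ < δ →
      ‖c' - c₀‖ < δ → c = c' := by
    intro t ht c c' hc hc' h h'
    have hne : q (t, c, c') ≠ 0 := hWV ⟨ht, hV₁₂
      ⟨(hδV (by simpa [dist_eq_norm] using h)).1, (hδV (by simpa [dist_eq_norm] using h')).2⟩⟩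
    have := hdiff t c c'
    rw [hc.eq_zero, hc'.eq_zero, sub_zero] at this
    exact sub_eq_zero.mp ((mul_eq_zero.mp this.symm).resolve_left hne)
  have near : ∀ (t₁ : T) (r : ℂ), (p t₁).IsRoot r → ∀ ε > 0,
      ∀ᶠ t in 𝓝 t₁, ∃ c, (p t).IsRoot c ∧ ‖c - r‖ < ε := by
    intro t₁ r hr ε hε
    have hc : Continuous fun t => ‖(p t).eval r‖ := by
      simp_rw [fun t => eval_eq_sum_range' (p := p t) (n := d + 1) (by rw [hdeg]; omega) r]
      exact (continuous_finsetSum _ fun k _ => (hcont k).mul continuous_const).norm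
    have : ∀ᶠ t in 𝓝 t₁, ‖(p t).eval r‖ < ε ^ d :=
      hc.continuousAt.eventually_lt continuousAt_const (by
        simp only [hr.eq_zero, norm_zero]; positivity)
    filter_upwards [this] with t ht
    obtain ⟨c, hc, hle⟩ := exists_root_near _ (hmon t) ((hdeg t).symm ▸ hd) r
    rw [hdeg] at hle
    exact ⟨c, hc, by
      rw [norm_sub_rev]; exact lt_of_pow_lt_pow_left₀ _ hε.le (lt_of_le_of_lt hle ht)⟩
  obtain ⟨W, hW, hWo, htW⟩ := eventually_nhds_iff.mp
    ((near t₀ c₀ hroot δ hδ).and (eventually_mem_nhds_iff.mpr hW₀))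
  choose! s hs using fun t (ht : t ∈ W) => (hW t ht).1
  refine ⟨W, δ, s, hWo, htW, hδ, fun t₁ ht₁ => ?_, fun t ht => ⟨(hs t ht).2, (hs t ht).1,
    fun c hc hcc => huniq t (mem_of_mem_nhds (hW t ht).2) c (s t) hc (hs t ht).1 hcc (hs t ht).2⟩⟩
  refine ContinuousAt.continuousWithinAt (Metric.continuousAt_iff'.mpr fun ε hε => ?_)
  have hgap : 0 < δ - ‖s t₁ - c₀‖ := by linarith [(hs t₁ ht₁).2]
  filter_upwards [near t₁ _ (hs t₁ ht₁).1 (min ε (δ - ‖s t₁ - c₀‖)) (lt_min hε hgap),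
    hWo.mem_nhds ht₁] with t ⟨c, hc, hlt⟩ ht
  have hcs : c = s t := by
    refine huniq t (mem_of_mem_nhds (hW t ht).2) c (s t) hc (hs t ht).1 ?_ (hs t ht).2
    have := norm_sub_le_norm_sub_add_norm_sub c (s t₁) c₀
    linarith [lt_of_lt_of_le hlt (min_le_right _ _)]
  rw [dist_eq_norm, ← hcs]
  exact lt_of_lt_of_le hlt (min_le_left _ _)

/-- A standard étale algebra is a local homeomorphism on `ℂ`-points. -/
theorem isLocalHomeomorph_comp {A B : Type} [CommRing A] [CommRing B] [Algebra ℂ A] [Algebra ℂ B]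
    [Algebra A B] [IsScalarTower ℂ A B] [Algebra.IsStandardEtale A B] :
    IsLocalHomeomorph fun ψ : B →ₐ[ℂ] ℂ => ψ.comp (IsScalarTower.toAlgHom ℂ A B) := by
  classical
  let S : StandardEtalePresentation A B :=
    Algebra.IsStandardEtale.nonempty_standardEtalePresentation.some
  let π : (B →ₐ[ℂ] ℂ) → (A →ₐ[ℂ] ℂ) := fun ψ => ψ.comp (IsScalarTower.toAlgHom ℂ A B)
  have hπ : Continuous π := continuous_comp _
  let p : (A →ₐ[ℂ] ℂ) → ℂ[X] := fun φ => S.f.map φ.toRingHom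
  have hev : ∀ (ψ : B →ₐ[ℂ] ℂ) (r : A[X]),
      ψ (aeval S.x r) = (r.map (π ψ).toRingHom).eval (ψ S.x) := by
    intro ψ r
    rw [aeval_def, Polynomial.eval_map]
    exact Polynomial.hom_eval₂ r (algebraMap A B) ψ.toRingHom S.x
  have hg : ∀ ψ : B →ₐ[ℂ] ℂ, (S.g.map (π ψ).toRingHom).eval (ψ S.x) ≠ 0 := fun ψ => by
    rw [← hev]; exact (S.hasMap.2.map ψ).ne_zero
  have hext : ∀ (ψ : B →ₐ[ℂ] ℂ) (b : B) (r : A[X]) (n : ℕ),
      b * aeval S.x S.g ^ n = aeval S.x r →
      ψ b = (r.map (π ψ).toRingHom).eval (ψ S.x) / (S.g.map (π ψ).toRingHom).eval (ψ S.x) ^ n := by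
    intro ψ b r n h
    rw [eq_div_iff (pow_ne_zero _ (hg ψ)), ← hev, ← hev, ← map_pow, ← map_mul, h]
  have hover : ∀ (φ : A →ₐ[ℂ] ℂ) (c : ℂ), (p φ).IsRoot c →
      (S.g.map φ.toRingHom).eval c ≠ 0 → ∃ ψ : B →ₐ[ℂ] ℂ, π ψ = φ ∧ ψ S.x = c := by
    intro φ c hc hc'
    let : Algebra A ℂ := φ.toRingHom.toAlgebra
    have hm : S.P.HasMap c := by
      refine ⟨?_, isUnit_iff_ne_zero.mpr ?_⟩
      · rw [aeval_def, ← Polynomial.eval_map]; exact hc
      · rw [aeval_def, ← Polynomial.eval_map]; exact hc'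
    let L : B →ₐ[A] ℂ := (S.lift c hm).comp S.equivRing.toAlgHom
    let ψ : B →ₐ[ℂ] ℂ :=
      { L.toRingHom with
        commutes' := fun z => by
          change L (algebraMap ℂ B z) = _
          rw [IsScalarTower.algebraMap_apply ℂ A B, L.commutes]
          exact φ.commutes z }
    refine ⟨ψ, AlgHom.ext fun a => ?_, ?_⟩
    · change L (algebraMap A B a) = φ a
      exact L.commutes a
    · change L S.x = c
      simp [L]
  refine isLocalHomeomorph_iff_isOpenEmbedding_restrict.mpr fun ψ₀ => ?_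
  have hd : ∀ φ, (p φ).natDegree = S.f.natDegree := fun φ => S.monic_f.natDegree_map _
  obtain ⟨W, δ, s, hW, htW, hδ, hsc, hs⟩ := exists_unique_root_near p S.f.natDegree
    (fun φ => S.monic_f.map _) hd
    (fun i => by simp only [p, coeff_map]; exact continuous_eval (S.f.coeff i))
    (t₀ := π ψ₀) (c₀ := ψ₀ S.x)
    (by change (S.f.map _).eval _ = 0; rw [← hev, S.hasMap.1, map_zero])
    (by rw [derivative_map, ← hev]; exact (S.hasMap.isUnit_derivative_f.map ψ₀).ne_zero)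
  have hcev : ∀ r : A[X], ContinuousOn (fun φ : A →ₐ[ℂ] ℂ => (r.map φ.toRingHom).eval (s φ)) W := by
    intro r
    simp only [Polynomial.eval_map, eval₂_eq_sum_range]
    exact continuousOn_finsetSum _ fun i _ =>
      (continuous_eval (r.coeff i)).continuousOn.mul (hsc.pow i)
  let N : Set (B →ₐ[ℂ] ℂ) := {ψ | π ψ ∈ W ∧ ‖ψ S.x - ψ₀ S.x‖ < δ}
  have hN : IsOpen N := (hW.preimage hπ).inter
    (isOpen_lt ((continuous_eval _).sub continuous_const).norm continuous_const)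
  let W' : Set (A →ₐ[ℂ] ℂ) := W ∩ {φ | (S.g.map φ.toRingHom).eval (s φ) ≠ 0}
  have hW' : IsOpen W' := (hcev S.g).isOpen_inter_preimage hW isOpen_ne
  have hval : ∀ ψ ∈ N, ψ S.x = s (π ψ) := fun ψ h => (hs _ h.1).2.2 _
    (by change (S.f.map _).eval _ = 0; rw [← hev, S.hasMap.1, map_zero]) h.2
  have hmem : ∀ ψ ∈ N, π ψ ∈ W' := fun ψ h =>
    ⟨h.1, show (S.g.map _).eval (s (π ψ)) ≠ 0 by rw [← hval ψ h]; exact hg ψ⟩
  choose inv hinv₁ hinv₂ using fun φ : W' => hover φ.1 (s φ.1) (hs φ.1 φ.2.1).2.1 φ.2.2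
  have hinvN : ∀ φ, inv φ ∈ N := fun φ =>
    ⟨(hinv₁ φ).symm ▸ φ.2.1, (hinv₂ φ).symm ▸ (hs φ.1 φ.2.1).1⟩
  have hinvc : Continuous inv := by
    refine continuous_rng fun b => ?_
    obtain ⟨r, n, h⟩ := S.exists_mul_aeval_x_g_pow_eq_aeval_x b
    simp only [fun φ => hext (inv φ) b r n h, hinv₁, hinv₂]
    have : ∀ r : A[X], Continuous fun φ : W' => (r.map φ.1.toRingHom).eval (s φ.1) := fun r =>
      continuousOn_iff_continuous_domRestrict.mp ((hcev r).mono Set.inter_subset_left)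
    exact (this r).div ((this S.g).pow n) fun φ => pow_ne_zero _ φ.2.2
  let e : N ≃ₜ W' :=
    { toFun := fun ψ => ⟨π ψ.1, hmem ψ.1 ψ.2⟩
      invFun := fun φ => ⟨inv φ, hinvN φ⟩
      left_inv := fun ψ => by
        apply Subtype.ext
        ext b
        obtain ⟨r, n, h⟩ := S.exists_mul_aeval_x_g_pow_eq_aeval_x b
        rw [hext _ b r n h, hext _ b r n h, hinv₁, hinv₂, ← hval ψ.1 ψ.2]
      right_inv := fun φ => Subtype.ext (hinv₁ φ)
      continuous_toFun := (hπ.comp continuous_subtype_val).subtype_mk _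
      continuous_invFun := hinvc.subtype_mk _ }
  exact ⟨N, hN.mem_nhds ⟨htW, by simpa using hδ⟩,
    hW'.isOpenEmbedding_subtypeVal.comp e.isOpenEmbedding⟩

/-- Étale morphisms over `ℂ` induce local homeomorphisms on `ℂ`-points. -/
theorem etaleLH : An.EtaleLH := by
  intro X Y _ _ _ g _ _
  have : LocallyOfFiniteType (X ↘ An.SC) := by rw [← comp_over g]; infer_instance
  intro x
  obtain ⟨V, hV, hyV, -⟩ := Opens.isBasis_iff_nbhd.mp Y.isBasis_affineOpens
    (show (An.Pts.map g x).pt ∈ (⊤ : Y.Opens) from trivial)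
  let V' : Y.Opens := V
  have hV' : IsAffineOpen V' := hV
  obtain ⟨U, hU, hxU, hle⟩ := Opens.isBasis_iff_nbhd.mp X.isBasis_affineOpens
    (show x.pt ∈ g ⁻¹ᵁ V' by change g x.pt ∈ V'; rw [← An.Pts.pt_map]; exact hyV)
  let U' : X.Opens := U
  have hU' : IsAffineOpen U' := hU
  have hle' : U' ≤ g ⁻¹ᵁ V' := hle
  let : Algebra Γ(Y, V') Γ(X, U') := (g.appLE V' U' hle').hom.toAlgebra
  have : Algebra.Etale Γ(Y, V') Γ(X, U') := g.etale_appLE hV' hU' hle'
  let Q : Ideal Γ(X, U') := primeAt x.pt hxU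
  have : Q.IsPrime := inferInstanceAs (primeAt x.pt hxU).IsPrime
  obtain ⟨f, hf, hst⟩ := Algebra.IsEtaleAt.exists_isStandardEtale (R := Γ(Y, V')) Q
  rw [mem_primeAt, not_not] at hf
  let D : X.Opens := X.basicOpen f
  have hD : IsAffineOpen D := hU'.basicOpen f
  have hDU : D ≤ U' := X.basicOpen_le f
  let : Algebra Γ(Y, V') Γ(X, D) := (g.appLE V' D (hDU.trans hle')).hom.toAlgebra
  have := hU'.isLocalization_basicOpen f
  have : IsScalarTower Γ(Y, V') Γ(X, U') Γ(X, D) := .of_algebraMap_eq' (by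
    change (g.appLE V' D (hDU.trans hle')).hom =
      (X.presheaf.map (homOfLE hDU).op).hom.comp (g.appLE V' U' hle').hom
    rw [← CommRingCat.hom_comp, Scheme.Hom.appLE_map])
  have : IsScalarTower ℂ Γ(Y, V') Γ(X, D) :=
    .of_algebraMap_eq fun c => ((pullAlg g V' D (hDU.trans hle')).commutes c).symm
  have : Algebra.IsStandardEtale Γ(Y, V') Γ(X, D) :=
    .of_equiv ((IsLocalization.algEquiv (Submonoid.powers f) (Localization.Away f)
      Γ(X, D)).restrictScalars Γ(Y, V'))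
  have hmaps : ∀ z : {z : An.Pts X // z.pt ∈ D}, (An.Pts.map g z.1).pt ∈ V' := fun z => by
    rw [An.Pts.pt_map]; exact hle' (hDU z.2)
  have key : An.Pts.map g ∘ Subtype.val = Subtype.val ∘ (chart hV').symm ∘
      (fun φ : Γ(X, D) →ₐ[ℂ] ℂ => φ.comp (IsScalarTower.toAlgHom ℂ Γ(Y, V') Γ(X, D))) ∘
        chart hD := by
    funext z
    have h : toHom (An.Pts.map g z.1) V' (hmaps z) =
        (toHom z.1 D z.2).comp (IsScalarTower.toAlgHom ℂ Γ(Y, V') Γ(X, D)) := by
      rw [toHom_map g z.1 (hDU.trans hle') z.2 (hmaps z)]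
      rfl
    change An.Pts.map g z.1 = ofHom hV' ((toHom z.1 D z.2).comp _)
    rw [← h, ofHom_toHom]
  have hval : IsLocalHomeomorph (Subtype.val : {z : An.Pts X // z.pt ∈ D} → An.Pts X) :=
    (An.Pts.isOpen_preimage_pt D).isOpenEmbedding_subtypeVal.isLocalHomeomorph
  have hcomp : IsLocalHomeomorph (An.Pts.map g ∘ (Subtype.val : {z : An.Pts X // z.pt ∈ D} → _)) :=
    key ▸ (An.Pts.isOpen_preimage_pt V').isOpenEmbedding_subtypeVal.isLocalHomeomorph.comp
      ((chart hV').symm.isLocalHomeomorph.comp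
        (isLocalHomeomorph_comp.comp (chart hD).isLocalHomeomorph))
  exact (hcomp.isLocalHomeomorphOn.of_comp_right hval.isLocalHomeomorphOn) x
    ⟨⟨x, hf⟩, Set.mem_univ _, rfl⟩

end

end Groth.Agent.AnLib
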