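import Groth.Agent.AnLib.Maps
import Mathlib.AlgebraicGeometry.AffineSpace

/-!
`ℂ`-points of affine schemes and of affine space.
-/

set_option autoImplicit false
set_option backward.isDefEq.respectTransparency false

open CategoryTheory Limits AlgebraicGeometry TopologicalSpace Topology

namespace Groth.Agent.AnLib

noncomputable section

open An

/-- Generators of the global sections of an affine scheme give a closed embedding. -/
theorem isClosedEmbedding_evTop (X : Scheme.{0}) [X.Over SC] [IsAffine X] (n : ℕ)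
    (s : Fin n → Γ(X, ⊤)) (hs : Function.Surjective (MvPolynomial.eval₂Hom (An.strHom X) s)) :
    IsClosedEmbedding (fun (x : An.Pts X) (i : Fin n) => x.evTop (s i)) := by
  have hA : Function.Surjective (MvPolynomial.aeval (R := ℂ) (S₁ := Γ(X, (⊤ : X.Opens))) s) := by
    intro g
    obtain ⟨p, hp⟩ := hs g
    refine ⟨p, ?_⟩
    rw [MvPolynomial.aeval_def, ← MvPolynomial.coe_eval₂Hom]
    convert hp using 3
    exact RingHom.ext fun c => (strHom_eq c).symm
  have htop : IsAffineOpen (⊤ : X.Opens) := isAffineOpen_top X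
  let e : An.Pts X ≃ₜ {x : An.Pts X // x.pt ∈ (⊤ : X.Opens)} :=
    { toFun := fun x => ⟨x, trivial⟩
      invFun := Subtype.val
      left_inv := fun _ => rfl
      right_inv := fun _ => rfl
      continuous_toFun := continuous_id.subtype_mk _
      continuous_invFun := continuous_subtype_val }
  exact (isClosedEmbedding_gens s hA).comp ((chart htop).isClosedEmbedding.comp e.isClosedEmbedding)

/-- `𝔸ⁿ(ℂ) = ℂⁿ`. -/
theorem isHomeomorph_affineSpace (n : ℕ) :
    IsHomeomorph (fun (x : An.Pts (𝔸(Fin n; An.SC))) (i : Fin n) =>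
      x.evTop (AffineSpace.coord An.SC i)) := by
  have hs : Function.Surjective (MvPolynomial.eval₂Hom (An.strHom (𝔸(Fin n; An.SC)))
      (AffineSpace.coord An.SC)) := by
    have h : Function.Surjective ((AffineSpace.SpecIso (Fin n) (CommRingCat.of ℂ)).hom.appTop) :=
      (ConcreteCategory.bijective_of_isIso _).2
    rw [AffineSpace.SpecIso_hom_appTop] at h
    intro g
    obtain ⟨w, hw⟩ := h g
    exact ⟨_, hw⟩
  have hc := isClosedEmbedding_evTop _ n _ hs
  rw [isHomeomorph_iff_isEmbedding_surjective]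
  refine ⟨hc.isEmbedding, fun v => ?_⟩
  refine ⟨⟨AffineSpace.homOfVector (𝟙 An.SC)
    (fun i => (Scheme.ΓSpecIso (CommRingCat.of ℂ)).inv (v i)),
    AffineSpace.homOfVector_over _ _⟩, funext fun i => ?_⟩
  simp only [An.Pts.evTop, An.Pts.ev]
  rw [show ∀ (f : An.SC ⟶ 𝔸(Fin n; An.SC)) h, f.appLE ⊤ ⊤ h = f.appTop from
    fun f h => (Scheme.Hom.app_eq_appLE f).symm]
  change (Scheme.ΓSpecIso (CommRingCat.of ℂ)).hom ((AffineSpace.homOfVector _ _).appTop _) = _
  rw [AffineSpace.homOfVector_appTop_coord, ← CommRingCat.comp_apply, Iso.inv_hom_id]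
  rfl

end

end Groth.Agent.AnLib
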