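import Groth.Agent.AnLib.Model

/-!
Connectedness of the points of a domain, and nonexistence of logarithms of nonconstant functions.
-/

set_option autoImplicit false

open Polynomial Filter Topology

namespace Groth.Agent.AnLib

noncomputable section

/-- A function polynomial of bounded degree along each axis of a box is a polynomial on the box. -/
lemma exists_mvPolynomial_of_lines (N : ℕ) : ∀ (r : ℕ) (S : Fin r → Set ℂ),
    (∀ i, (S i).Infinite) → ∀ f : (Fin r → ℂ) → ℂ,
    (∀ z ∈ Set.univ.pi S, ∀ i, ∃ p : ℂ[X], p.natDegree ≤ N ∧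
      ∀ t ∈ S i, f (Function.update z i t) = p.eval t) →
    ∃ G : MvPolynomial (Fin r) ℂ, ∀ z ∈ Set.univ.pi S, f z = MvPolynomial.eval z G := by
  intro r
  induction r with
  | zero =>
    intro S _ f _
    exact ⟨MvPolynomial.C (f fun i => i.elim0), fun z _ => by
      rw [MvPolynomial.eval_C]; exact congrArg f (funext fun i => i.elim0)⟩
  | succ r ih =>
    intro S hS f hf
    obtain ⟨T, hTS, hTcard⟩ := (hS 0).exists_subset_card_eq (N + 1)
    have hcons : ∀ a ∈ S 0, ∀ z ∈ Set.univ.pi (fun i : Fin r => S i.succ),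
        Fin.cons a z ∈ Set.univ.pi S := by
      intro a ha z hz i _
      refine Fin.cases ?_ ?_ i
      · simpa using ha
      · intro j; simpa using hz j trivial
    have hG : ∀ a : T, ∃ G : MvPolynomial (Fin r) ℂ, ∀ z ∈ Set.univ.pi (fun i : Fin r => S i.succ),
        f (Fin.cons a.1 z) = MvPolynomial.eval z G := by
      intro a
      refine ih (fun i => S i.succ) (fun i => hS i.succ) (fun z => f (Fin.cons a.1 z))
        fun z hz i => ?_
      obtain ⟨p, hp, hpt⟩ := hf _ (hcons a.1 (hTS a.2) z hz) i.succ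
      refine ⟨p, hp, fun t ht => ?_⟩
      rw [← hpt t ht, Fin.cons_update]
    choose G hG using hG
    refine ⟨∑ a : T, MvPolynomial.rename Fin.succ (G a) *
      Polynomial.aeval (MvPolynomial.X 0) (Lagrange.basis T id a.1), fun z hz => ?_⟩
    obtain ⟨p, hp, hpt⟩ := hf z hz 0
    have h0 : f z = p.eval (z 0) := by
      rw [← hpt (z 0) (hz 0 trivial), Function.update_eq_self]
    have hdeg : p.degree < (T.card : WithBot ℕ) := by
      refine lt_of_le_of_lt Polynomial.degree_le_natDegree ?_
      rw [hTcard]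
      exact_mod_cast Nat.lt_succ_of_le hp
    rw [h0, Lagrange.eq_interpolate (s := T) (v := id) (f := p) (Set.injOn_id _) hdeg,
      Lagrange.interpolate_apply, Polynomial.eval_finsetSum, map_sum, ← Finset.sum_coe_sort T]
    refine Finset.sum_congr rfl fun a _ => ?_
    rw [Polynomial.eval_mul, Polynomial.eval_C, map_mul, MvPolynomial.eval_rename]
    congr 1
    · have htail : (z ∘ Fin.succ) ∈ Set.univ.pi (fun i : Fin r => S i.succ) :=
        fun i _ => hz i.succ trivial
      rw [← hG a _ htail]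
      change p.eval a.1 = _
      rw [← hpt a.1 (hTS a.2)]
      congr 1
      funext i
      refine Fin.cases ?_ ?_ i
      · simp
      · intro j; simp
    · rw [Polynomial.aeval_def, Polynomial.hom_eval₂, MvPolynomial.eval_X]
      have : (MvPolynomial.eval z).comp (algebraMap ℂ (MvPolynomial (Fin (r + 1)) ℂ)) = RingHom.id ℂ :=
        RingHom.ext fun c => MvPolynomial.eval_C c
      rw [this, Polynomial.eval₂_id]

variable {r : ℕ}

lemma differentiable_eval_update (z : Fin r → ℂ) (i : Fin r) (p : MvPolynomial (Fin r) ℂ) :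
    Differentiable ℂ fun t => MvPolynomial.eval (Function.update z i t) p := by
  induction p using MvPolynomial.induction_on with
  | C c => simp only [MvPolynomial.eval_C]; exact differentiable_const _
  | add p q hp hq => simp only [map_add]; exact hp.add hq
  | mul_X p j hp =>
    simp only [map_mul, MvPolynomial.eval_X]
    refine hp.mul ?_
    by_cases h : j = i
    · subst h; simp only [Function.update_self]; exact differentiable_id
    · simp only [Function.update_of_ne h]; exact differentiable_const _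

lemma exists_growth (p : MvPolynomial (Fin r) ℂ) :
    ∃ n : ℕ, ∀ (z : Fin r → ℂ) (i : Fin r), ∃ C : ℝ, 0 ≤ C ∧
      ∀ t, ‖MvPolynomial.eval (Function.update z i t) p‖ ≤ C * (1 + ‖t‖) ^ n := by
  induction p using MvPolynomial.induction_on with
  | C c => exact ⟨0, fun z i => ⟨‖c‖, norm_nonneg _, fun t => by simp⟩⟩
  | add p q hp hq =>
    obtain ⟨n, hn⟩ := hp
    obtain ⟨n', hn'⟩ := hq
    refine ⟨max n n', fun z i => ?_⟩
    obtain ⟨C, hC, h⟩ := hn z i
    obtain ⟨C', hC', h'⟩ := hn' z i
    refine ⟨C + C', by positivity, fun t => ?_⟩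
    have h1 : (1 : ℝ) ≤ 1 + ‖t‖ := by linarith [norm_nonneg t]
    rw [map_add, add_mul]
    exact (norm_add_le _ _).trans (add_le_add
      ((h t).trans (mul_le_mul_of_nonneg_left (pow_le_pow_right₀ h1 (le_max_left _ _)) hC))
      ((h' t).trans (mul_le_mul_of_nonneg_left (pow_le_pow_right₀ h1 (le_max_right _ _)) hC')))
  | mul_X p j hp =>
    obtain ⟨n, hn⟩ := hp
    refine ⟨n + 1, fun z i => ?_⟩
    obtain ⟨C, hC, h⟩ := hn z i
    refine ⟨C * (1 + ‖z j‖), by positivity, fun t => ?_⟩
    rw [map_mul, MvPolynomial.eval_X, norm_mul]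
    have h1 : ‖Function.update z i t j‖ ≤ (1 + ‖z j‖) * (1 + ‖t‖) := by
      by_cases hj : j = i
      · subst hj; rw [Function.update_self]; nlinarith [norm_nonneg (z j), norm_nonneg t]
      · rw [Function.update_of_ne hj]; nlinarith [norm_nonneg (z j), norm_nonneg t]
    exact (mul_le_mul (h t) h1 (norm_nonneg _) (by positivity)).trans_eq (by ring)

lemma finite_line_zeros {h : MvPolynomial (Fin r) ℂ} (z : Fin r → ℂ) (i : Fin r)
    (hne : ∃ t, MvPolynomial.eval (Function.update z i t) h ≠ 0) :
    {t : ℂ | MvPolynomial.eval (Function.update z i t) h = 0}.Finite := by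
  let q : ℂ[X] := MvPolynomial.eval₂ Polynomial.C (Function.update (fun j => Polynomial.C (z j)) i Polynomial.X) h
  have hq : ∀ t, q.eval t = MvPolynomial.eval (Function.update z i t) h := by
    intro t
    change Polynomial.evalRingHom t q = _
    simp only [q, MvPolynomial.eval₂_comp_left]
    change MvPolynomial.eval₂ _ _ h = MvPolynomial.eval₂ _ _ h
    congr 1
    · ext c; simp
    · funext j
      by_cases hj : j = i
      · subst hj; simp
      · simp [Function.update_of_ne hj]
  obtain ⟨t, ht⟩ := hne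
  have : q ≠ 0 := fun h0 => ht (by rw [← hq, h0, Polynomial.eval_zero])
  exact (Polynomial.finite_setOfPred_isRoot this).subset fun t (ht : _ = 0) =>
    show q.eval t = 0 by rw [hq]; exact ht

lemma isPreconnected_ne_zero (h : MvPolynomial (Fin r) ℂ) :
    IsPreconnected {z : Fin r → ℂ | MvPolynomial.eval z h ≠ 0} := by
  refine isPreconnected_of_forall_pair fun a ha b hb => ?_
  let q : ℂ[X] := MvPolynomial.eval₂ Polynomial.C
    (fun j => Polynomial.C (a j) + Polynomial.X * Polynomial.C (b j - a j)) h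
  have hq : ∀ t, q.eval t = MvPolynomial.eval (fun j => a j + t * (b j - a j)) h := by
    intro t
    change Polynomial.evalRingHom t q = _
    simp only [q, MvPolynomial.eval₂_comp_left]
    change MvPolynomial.eval₂ _ _ h = MvPolynomial.eval₂ _ _ h
    congr 1
    · ext c; simp
    · funext j; simp
  have h0 : q.eval 0 ≠ 0 := by rw [hq]; simpa using ha
  have h1 : q.eval 1 ≠ 0 := by rw [hq]; simpa using hb
  have hne : q ≠ 0 := fun e => h0 (by rw [e, Polynomial.eval_zero])
  have hpc : IsPreconnected ({t : ℂ | q.IsRoot t}ᶜ) :=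
    ((Polynomial.finite_setOfPred_isRoot hne).countable.isConnected_compl_of_one_lt_rank
      (by simp)).isPreconnected
  refine ⟨(fun t => fun j => a j + t * (b j - a j)) '' {t : ℂ | q.IsRoot t}ᶜ, ?_, ⟨0, h0, ?_⟩,
    ⟨1, h1, ?_⟩, hpc.image _ (by fun_prop : Continuous _).continuousOn⟩
  · rintro _ ⟨t, ht, rfl⟩
    change MvPolynomial.eval _ h ≠ 0
    rw [← hq]; exact ht
  · funext j; simp
  · funext j; simp

variable {A : Type} [CommRing A] [Algebra ℂ A]

namespace Model

variable (M : Model A)

lemma natDegree_atPt (z : Fin M.r → ℂ) : (atPt z M.m).natDegree = M.m.natDegree :=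
  M.monic.natDegree_map _

lemma card_roots {z : Fin M.r → ℂ} (hz : z ∈ M.base) :
    (atPt z M.m).roots.toFinset.card = M.m.natDegree := by
  rw [Multiset.toFinset_card_of_nodup (M.nodup hz), ← M.natDegree_atPt z]
  exact (IsAlgClosed.splits _).natDegree_eq_card_roots.symm

lemma mem_roots {z : Fin M.r → ℂ} {c : ℂ} :
    c ∈ (atPt z M.m).roots.toFinset ↔ (atPt z M.m).IsRoot c := by
  rw [Multiset.mem_toFinset, Polynomial.mem_roots']
  exact ⟨fun h => h.2, fun h => ⟨(M.monic.map _).ne_zero, h⟩⟩

lemma exists_sections {z₀ : Fin M.r → ℂ} (hz₀ : z₀ ∈ M.base) :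
    ∃ (W : Set (Fin M.r → ℂ)) (s : ℂ → (Fin M.r → ℂ) → ℂ), IsOpen W ∧ z₀ ∈ W ∧ W ⊆ M.base ∧
      (∀ c ∈ (atPt z₀ M.m).roots.toFinset, ContinuousOn (s c) W ∧ s c z₀ = c) ∧
      ∀ z ∈ W, Set.InjOn (fun c => s c z) ↑(atPt z₀ M.m).roots.toFinset ∧
        (atPt z₀ M.m).roots.toFinset.image (fun c => s c z) = (atPt z M.m).roots.toFinset := by
  obtain ⟨W, s, hW, hz, h1, h2⟩ := exists_local_sections M.m M.monic (M.nodup hz₀)
  exact ⟨W ∩ M.base, s, hW.inter M.isOpen_base, ⟨hz, hz₀⟩, Set.inter_subset_right,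
    fun c hc => ⟨(h1 c hc).1.mono Set.inter_subset_left, (h1 c hc).2⟩, fun z hz => h2 z hz.1⟩

lemma section_root {z₀ z : Fin M.r → ℂ} {s : ℂ → (Fin M.r → ℂ) → ℂ}
    (himg : (atPt z₀ M.m).roots.toFinset.image (fun c => s c z) = (atPt z M.m).roots.toFinset)
    {c : ℂ} (hc : c ∈ (atPt z₀ M.m).roots.toFinset) : (atPt z M.m).IsRoot (s c z) :=
  M.mem_roots.mp (himg ▸ Finset.mem_image_of_mem _ hc)

/-- The points over the good locus. -/
def good : Set (A →ₐ[ℂ] ℂ) := {φ | M.proj φ ∈ M.base}

lemma good_eq : M.good = {φ | φ (M.g M.h) ≠ 0} := by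
  ext φ
  simp only [good, base, Set.mem_ofPred_eq, Groth.Agent.AnLib.apply_g]

open scoped Classical in
theorem isPreconnected_good [IsDomain A] : IsPreconnected M.good := by
  intro U V hU hV hsub hDU hDV
  by_contra hempty
  rw [Set.not_nonempty_iff_eq_empty] at hempty
  obtain ⟨φ₁, hφ₁, hφ₁U⟩ := hDU
  obtain ⟨φ₂, hφ₂, hφ₂V⟩ := hDV
  have hdisj : ∀ φ ∈ M.good, φ ∈ U → φ ∉ V := fun φ hφ hu hv =>
    (hempty.le ⟨hφ, hu, hv⟩ : φ ∈ (∅ : Set _))
  have hor : ∀ φ ∈ M.good, φ ∈ U ∨ φ ∈ V := fun φ hφ => hsub hφ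
  -- local constancy of the side along sections
  let S : Set ((Fin M.r → ℂ) × ℂ) := {q | M.ptD φ₁ q ∈ U}
  let k : (Fin M.r → ℂ) → Finset ℂ := fun z =>
    (atPt z M.m).roots.toFinset.filter fun c => (z, c) ∈ S
  let F : (Fin M.r → ℂ) → ℕ → ℂ := fun z j => (∏ c ∈ k z, (X - C c)).coeff j
  have hloc : ∀ z₀ ∈ M.base, ∃ (W : Set (Fin M.r → ℂ)) (s : ℂ → (Fin M.r → ℂ) → ℂ),
      IsOpen W ∧ z₀ ∈ W ∧ W ⊆ M.base ∧ (∀ c ∈ k z₀, ContinuousOn (s c) W ∧
        ∀ z ∈ W, (atPt z M.m).IsRoot (s c z)) ∧
      ∀ z ∈ W, Set.InjOn (fun c => s c z) ↑(k z₀) ∧ (k z₀).image (fun c => s c z) = k z := by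
    intro z₀ hz₀
    obtain ⟨W, s, hW, hz₀W, hWb, hs, himg⟩ := M.exists_sections hz₀
    have hmaps : ∀ c ∈ (atPt z₀ M.m).roots.toFinset,
        ContinuousOn (fun z => M.ptD φ₁ (z, s c z)) W := by
      intro c hc
      exact (M.continuousOn_ptD φ₁).comp (continuousOn_id.prodMk (hs c hc).1)
        fun z hz => ⟨hWb hz, M.section_root (himg z hz).2 hc⟩
    have hgood : ∀ c ∈ (atPt z₀ M.m).roots.toFinset, ∀ z ∈ W,
        M.ptD φ₁ (z, s c z) ∈ M.good := by
      intro c hc z hz
      rw [M.ptD_eq φ₁ (hWb hz) (M.section_root (himg z hz).2 hc)]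
      change M.proj _ ∈ M.base
      rw [M.proj_pt]; exact hWb hz
    have hev : ∀ c ∈ (atPt z₀ M.m).roots.toFinset,
        ∀ᶠ z in 𝓝 z₀, ((z, s c z) ∈ S ↔ (z₀, c) ∈ S) := by
      intro c hc
      have hc0 : s c z₀ = c := (hs c hc).2
      have hat := (hmaps c hc).continuousAt (hW.mem_nhds hz₀W)
      rcases hor _ (hgood c hc z₀ hz₀W) with h | h
      · filter_upwards [hat.eventually (hU.mem_nhds h)] with z hz
        exact iff_of_true hz (by simpa [S, hc0] using h)
      · filter_upwards [hat.eventually (hV.mem_nhds h), hW.mem_nhds hz₀W] with z hz hzW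
        refine iff_of_false (fun hu => hdisj _ (hgood c hc z hzW) hu hz) fun hu => ?_
        refine hdisj _ (hgood c hc z₀ hz₀W) ?_ h
        simpa [S, hc0] using hu
    obtain ⟨W', hW', hW'o, hz₀W'⟩ := eventually_nhds_iff.mp
      ((eventually_all_finset _).mpr hev)
    refine ⟨W ∩ W', s, hW.inter hW'o, ⟨hz₀W, hz₀W'⟩, fun z hz => hWb hz.1, fun c hc => ?_,
      fun z hz => ⟨(himg z hz.1).1.mono (fun c hc => (Finset.mem_filter.mp hc).1), ?_⟩⟩
    · have hc' := (Finset.mem_filter.mp hc).1
      exact ⟨(hs c hc').1.mono Set.inter_subset_left,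
        fun z hz => M.section_root (himg z hz.1).2 hc'⟩
    · ext e
      simp only [k, Finset.mem_image, Finset.mem_filter]
      constructor
      · rintro ⟨c, ⟨hc, hcS⟩, rfl⟩
        exact ⟨(himg z hz.1).2 ▸ Finset.mem_image_of_mem _ hc, (hW' z hz.2 c hc).mpr hcS⟩
      · rintro ⟨he, heS⟩
        rw [← (himg z hz.1).2, Finset.mem_image] at he
        obtain ⟨c, hc, rfl⟩ := he
        exact ⟨c, ⟨hc, (hW' z hz.2 c hc).mp heS⟩, rfl⟩
  -- no fibre is mixed
  have hpure : ∀ z ∈ M.base, (k z).card = 0 ∨ (k z).card = M.m.natDegree := by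
    intro z₀ hz₀
    obtain ⟨W, s, hW, hz₀W, hWb, hs, himg⟩ := hloc z₀ hz₀
    set n := (k z₀).card with hn
    obtain ⟨ε, hε, hball⟩ := Metric.isOpen_iff.mp hW z₀ hz₀W
    let B : Fin M.r → Set ℂ := fun i => Metric.ball (z₀ i) ε
    have hBW : Set.univ.pi B ⊆ W := fun z hz => hball (by rw [ball_pi z₀ hε]; exact hz)
    -- uniform growth exponent
    choose e he using fun l => exists_growth (M.m.coeff l)
    let E := (Finset.range M.m.natDegree).sup e
    have hF : ∀ j, ∃ G : MvPolynomial (Fin M.r) ℂ,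
        ∀ z ∈ Set.univ.pi B, F z j = MvPolynomial.eval z G := by
      intro j
      refine exists_mvPolynomial_of_lines (E * M.m.natDegree) _ B
        (fun i => infinite_of_mem_nhds _ (Metric.ball_mem_nhds _ hε)) (fun z => F z j) fun z hz i => ?_
      have hzb : z ∈ M.base := hWb (hBW hz)
      have hfin := finite_line_zeros (h := M.h) z i ⟨z i, by rw [Function.update_eq_self]; exact hzb⟩
      have hnot : ∀ t, t ∉ hfin.toFinset → Function.update z i t ∈ M.base := fun t ht => by
        simpa [Set.Finite.mem_toFinset, base] using ht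
      -- differentiability
      have hd : ∀ t ∉ hfin.toFinset,
          DifferentiableAt ℂ (fun u => F (Function.update z i u) j) t := by
        intro t ht
        obtain ⟨W₁, s₁, hW₁, htW₁, hW₁b, hs₁, himg₁⟩ := hloc _ (hnot t ht)
        have hcont : Continuous fun u : ℂ => Function.update z i u :=
          continuous_const.update i continuous_id
        have hnb : ∀ᶠ u in 𝓝 t, Function.update z i u ∈ W₁ :=
          hcont.continuousAt.preimage_mem_nhds (hW₁.mem_nhds htW₁)
        have hdp := differentiableAt_coeff_prod (k (Function.update z i t))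
          (fun c u => s₁ c (Function.update z i u)) (t := t) (fun c hc => ?_) j
        · refine hdp.congr_of_eventuallyEq ?_
          filter_upwards [hnb] with u hu
          simp only [F]
          rw [← (himg₁ _ hu).2, Finset.prod_image (himg₁ _ hu).1]
        · refine differentiableAt_root (M.m.natDegree + 1)
            (fun l u => MvPolynomial.eval (Function.update z i u) (M.m.coeff l)) _ t
            (fun l => (differentiable_eval_update z i _).differentiableAt)
            (((hs₁ c hc).1.continuousAt (hW₁.mem_nhds htW₁)).comp hcont.continuousAt) ?_ ?_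
          · filter_upwards [hnb] with u hu
            have hr : (atPt (Function.update z i u) M.m).eval (s₁ c (Function.update z i u)) = 0 :=
              (hs₁ c hc).2 _ hu
            rw [Polynomial.eval_eq_sum_range, M.natDegree_atPt] at hr
            simpa [Polynomial.coeff_map] using hr
          · have hsimp := M.simple (hnot t ht) ((hs₁ c hc).2 _ htW₁)
            rw [Polynomial.derivative_eval, Polynomial.sum_over_range' _ (fun _ => by simp)
              (M.m.natDegree + 1) (by rw [M.natDegree_atPt]; omega)] at hsimp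
            simpa [Polynomial.coeff_map, mul_assoc, mul_comm, mul_left_comm] using hsimp
      -- bound
      choose C hC0 hC using fun l => he l z i
      let K := 2 * (1 + ∑ l ∈ Finset.range M.m.natDegree, C l)
      have hsum : 0 ≤ ∑ l ∈ Finset.range M.m.natDegree, C l := Finset.sum_nonneg fun l _ => hC0 l
      have hb : ∀ t ∉ hfin.toFinset,
          ‖F (Function.update z i t) j‖ ≤ K ^ M.m.natDegree * (1 + ‖t‖) ^ (E * M.m.natDegree) := by
        intro t ht
        have h1 : (1 : ℝ) ≤ (1 + ‖t‖) ^ E := one_le_pow₀ (by linarith [norm_nonneg t])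
        let b : ℝ := (1 + ∑ l ∈ Finset.range M.m.natDegree, C l) * (1 + ‖t‖) ^ E
        have hb1 : 1 ≤ b := by
          simp only [b]; nlinarith
        have hroot : ∀ c ∈ k (Function.update z i t), ‖c‖ ≤ b := by
          intro c hc
          have hc' := M.mem_roots.mp (Finset.mem_filter.mp hc).1
          refine (norm_root_le (atPt (Function.update z i t) M.m) (M.monic.map _) hc').trans ?_
          rw [M.natDegree_atPt]
          simp only [b, add_mul, one_mul, Finset.sum_mul]
          refine add_le_add h1 (Finset.sum_le_sum fun l hl => ?_)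
          simp only [coe_mapRingHom, Polynomial.coeff_map]
          exact (hC l t).trans (mul_le_mul_of_nonneg_left
            (pow_le_pow_right₀ (by linarith [norm_nonneg t]) (Finset.le_sup hl)) (hC0 l))
        refine (norm_coeff_prod_le _ id hb1 hroot j).trans ?_
        have hb2 : 1 ≤ 2 * b := by linarith
        refine (pow_le_pow_right₀ (n := M.m.natDegree) hb2 ?_).trans_eq ?_
        · exact (Finset.card_le_card (Finset.filter_subset _ _)).trans (M.card_roots (hnot t ht)).le
        · simp only [b, K, pow_mul, mul_pow]; ring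
      obtain ⟨g, hg, hgf, hgB⟩ := exists_entire_extension hfin.toFinset _ hd _ (by fun_prop) hb
      obtain ⟨p, hp, hpg⟩ := exists_polynomial_of_growth _ g hg _ hgB
      refine ⟨p, hp, fun t ht => ?_⟩
      rw [← hpg, hgf t]
      rw [Set.Finite.mem_toFinset]
      intro h0
      have hz' : Function.update z i t ∈ Set.univ.pi B := fun l _ => by
        by_cases hl : l = i
        · subst hl; simpa using ht
        · simpa [Function.update_of_ne hl] using hz l trivial
      exact hWb (hBW hz') h0
    choose G hG using hF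
    let M1 : (MvPolynomial (Fin M.r) ℂ)[X] :=
      X ^ n + ∑ l ∈ Finset.range n, Polynomial.C (G l) * X ^ l
    have hcard : ∀ z ∈ Set.univ.pi B, (k z).card = n := fun z hz => by
      rw [← (himg z (hBW hz)).2, Finset.card_image_of_injOn (himg z (hBW hz)).1]
    have hM1deg : (∑ l ∈ Finset.range n, Polynomial.C (G l) * X ^ l).degree < (n : WithBot ℕ) := by
      rw [Polynomial.degree_lt_iff_coeff_zero]
      intro l hl
      simp only [Polynomial.finsetSum_coeff, Polynomial.coeff_C_mul, Polynomial.coeff_X_pow]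
      refine Finset.sum_eq_zero fun l' hl' => ?_
      have := Finset.mem_range.mp hl'
      have hne : ¬ l = l' := by omega
      simp [hne]
    have hM1 : M1.Monic := Polynomial.monic_X_pow_add hM1deg
    have hM1n : M1.natDegree = n := by
      refine Polynomial.natDegree_eq_of_degree_eq_some ?_
      rw [Polynomial.degree_add_eq_left_of_degree_lt, Polynomial.degree_X_pow]
      rw [Polynomial.degree_X_pow]; exact hM1deg
    have hM1z : ∀ z ∈ Set.univ.pi B, atPt z M1 = ∏ c ∈ k z, (X - C c) := by
      intro z hz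
      have hmon : (∏ c ∈ k z, (X - C c)).Monic := Polynomial.monic_prod_X_sub_C _ _
      have hdeg : (∏ c ∈ k z, (X - C c)).natDegree = n := by
        rw [Polynomial.natDegree_finsetProd_X_sub_C_eq_card, hcard z hz]
      conv_rhs => rw [hmon.as_sum, hdeg]
      simp only [M1, coe_mapRingHom, Polynomial.map_add, Polynomial.map_pow, Polynomial.map_X,
        Polynomial.map_sum, Polynomial.map_mul, Polynomial.map_C]
      congr 1
      refine Finset.sum_congr rfl fun l _ => ?_
      rw [← hG l z hz]
    have hdvd : M1 ∣ M.m := by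
      rw [← Polynomial.modByMonic_eq_zero_iff_dvd hM1]
      ext1 l
      rw [Polynomial.coeff_zero]
      refine MvPolynomial.funext_set B
        (fun i => infinite_of_mem_nhds _ (Metric.ball_mem_nhds _ hε)) fun z hz => ?_
      rw [map_zero, ← Polynomial.coeff_map, Polynomial.map_modByMonic _ hM1]
      suffices (M1.map (MvPolynomial.eval z)) ∣ M.m.map (MvPolynomial.eval z) by
        rw [(Polynomial.modByMonic_eq_zero_iff_dvd (hM1.map _)).mpr this, Polynomial.coeff_zero]
      rw [show M1.map (MvPolynomial.eval z) = ∏ c ∈ k z, (X - C c) from hM1z z hz]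
      calc (∏ c ∈ k z, (X - C c)) ∣ ∏ c ∈ (atPt z M.m).roots.toFinset, (X - C c) :=
            Finset.prod_dvd_prod_of_subset _ _ _ (Finset.filter_subset _ _)
        _ = ((atPt z M.m).roots.map fun c => X - C c).prod := by
            rw [Finset.prod_eq_multiset_prod, Multiset.toFinset_val,
              (M.nodup (hWb (hBW hz))).dedup]
        _ ∣ _ := Polynomial.prod_multiset_X_sub_C_dvd _
    rcases M.irred.dvd_iff.mp hdvd with h | h
    rotate_left
    · right; rw [← hM1n, Polynomial.eq_of_monic_of_associated M.monic hM1 h]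
    have h := hM1.isUnit_iff.mp h
    left; rw [← hM1n, h, Polynomial.natDegree_one]
  -- the two kinds of fibres are open and disjoint
  have hconst : ∀ z ∈ M.base, ∀ᶠ z' in 𝓝 z, (k z').card = (k z).card := by
    intro z hz
    obtain ⟨W, s, hW, hzW, -, -, himg⟩ := hloc z hz
    filter_upwards [hW.mem_nhds hzW] with z' hz'
    rw [← (himg z' hz').2, Finset.card_image_of_injOn (himg z' hz').1]
  have heq : ∀ a ∈ M.base, ∀ b ∈ M.base, (k a).card = (k b).card := by
    intro a ha b hb
    have hpre : IsPreconnected M.base := isPreconnected_ne_zero M.h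
    refine hpre.induction₂ (fun x y => (k x).card = (k y).card) (fun x hx => ?_)
      (fun x y z _ _ _ => Eq.trans) (fun x y _ _ => Eq.symm) ha hb
    exact eventually_nhdsWithin_of_eventually_nhds ((hconst x hx).mono fun y hy => hy.symm)
  have hmem : ∀ φ ∈ M.good, (φ.toRingHom M.y ∈ k (M.proj φ) ↔ φ ∈ U) := by
    intro φ hφ
    simp only [k, Finset.mem_filter, S, Set.mem_ofPred_eq]
    have hr := M.isRoot_apply_y φ
    rw [show φ.toRingHom M.y = φ M.y from rfl, M.ptD_eq φ₁ hφ hr,
      ← M.pt_unique hφ hr φ rfl rfl]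
    exact ⟨fun h => h.2, fun h => ⟨M.mem_roots.mpr hr, h⟩⟩
  have h1 : (k (M.proj φ₁)).card ≠ 0 := Finset.card_ne_zero_of_mem ((hmem φ₁ hφ₁).mpr hφ₁U)
  have h2 : (k (M.proj φ₂)).card ≠ M.m.natDegree := by
    intro hc
    have hfull : k (M.proj φ₂) = (atPt (M.proj φ₂) M.m).roots.toFinset :=
      Finset.eq_of_subset_of_card_le (Finset.filter_subset _ _)
        (by rw [M.card_roots hφ₂]; exact hc.ge)
    have : φ₂.toRingHom M.y ∈ k (M.proj φ₂) := by
      rw [hfull]; exact M.mem_roots.mpr (M.isRoot_apply_y φ₂)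
    exact hdisj φ₂ hφ₂ ((hmem φ₂ hφ₂).mp this) hφ₂V
  rcases hpure _ hφ₁ with h | h
  · exact h1 h
  · exact h2 ((heq _ hφ₂ _ hφ₁).trans h)

end Model

/-- The points of a domain are preconnected. -/
theorem preconnectedSpace_pts [IsDomain A] [Algebra.FiniteType ℂ A] :
    PreconnectedSpace (A →ₐ[ℂ] ℂ) := by
  obtain ⟨M, -⟩ := exists_model (A := A) ∅ (by
    rw [Finset.coe_empty]
    exact (algebraicIndependent_empty_iff ..).mpr (algebraMap ℂ A).injective)
  refine ⟨IsPreconnected.subset_closure M.isPreconnected_good (Set.subset_univ _) fun φ _ => ?_⟩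
  rw [M.good_eq]
  exact dense_ne_zero (fun h => M.h0 (M.inj (by rw [h, map_zero]))) φ

/-- A nonconstant invertible function on a domain has no logarithm. -/
theorem no_log [IsDomain A] [Algebra.FiniteType ℂ A] (u : A)
    (hu : ∀ c : ℂ, algebraMap ℂ A c ≠ u) (L : (A →ₐ[ℂ] ℂ) → ℂ) (hL : Continuous L)
    (hexp : ∀ φ, Complex.exp (L φ) = φ u) : False := by
  classical
  have htr : Transcendental ℂ u := fun halg => by
    have hi : IsIntegral ℂ u := halg.isIntegral
    have := IsAlgClosed.degree_eq_one_of_irreducible ℂ (minpoly.irreducible hi)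
    obtain ⟨c, hc⟩ := minpoly.mem_range_of_degree_eq_one ℂ u this
    exact hu c hc
  obtain ⟨M, hM⟩ := exists_model (A := A) {u} (by
    rw [Finset.coe_singleton]
    exact algebraicIndependent_unique_type_iff.mpr htr)
  obtain ⟨i, hi⟩ := hM u (Finset.mem_singleton_self u)
  obtain ⟨z₀, hz₀⟩ : ∃ z, z ∈ M.base := (dense_eval_ne_zero M.h0).nonempty
  have hd0 : 0 < M.m.natDegree := by
    by_contra h
    have := M.monic.natDegree_eq_zero.mp (by omega : M.m.natDegree = 0)
    exact M.irred.ne_one this
  obtain ⟨c₀, hc₀⟩ := IsAlgClosed.exists_root (atPt z₀ M.m) (fun h => by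
    have := Polynomial.natDegree_eq_zero_iff_degree_le_zero.mpr h.le
    rw [M.natDegree_atPt] at this
    omega)
  let φ₀ := M.pt hz₀ hc₀
  let G : (Fin M.r → ℂ) → ℂ := fun z => ∑ c ∈ (atPt z M.m).roots.toFinset, L (M.ptD φ₀ (z, c))
  have hG : ContinuousOn G M.base := by
    intro z₁ hz₁
    obtain ⟨W, s, hW, hzW, hWb, hs, himg⟩ := M.exists_sections hz₁
    have : ContinuousOn (fun z => ∑ c ∈ (atPt z₁ M.m).roots.toFinset, L (M.ptD φ₀ (z, s c z))) W :=
      continuousOn_finsetSum _ fun c hc => hL.comp_continuousOn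
        ((M.continuousOn_ptD φ₀).comp (continuousOn_id.prodMk (hs c hc).1)
          fun z hz => ⟨hWb hz, M.section_root (himg z hz).2 hc⟩)
    refine ((this.continuousAt (hW.mem_nhds hzW)).congr ?_).continuousWithinAt
    filter_upwards [hW.mem_nhds hzW] with z hz
    simp only [G]
    rw [← (himg z hz).2, Finset.sum_image (himg z hz).1]
  have hexpG : ∀ z ∈ M.base, Complex.exp (G z) = z i ^ M.m.natDegree := by
    intro z hz
    simp only [G, Complex.exp_sum, hexp]
    rw [← M.card_roots hz, ← Finset.prod_const]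
    refine Finset.prod_congr rfl fun c hc => ?_
    rw [M.ptD_eq φ₀ hz (M.mem_roots.mp hc), ← hi]
    exact congr_fun (M.proj_pt hz (M.mem_roots.mp hc)) i
  have hfin := finite_line_zeros (h := M.h) z₀ i
    ⟨z₀ i, by rw [Function.update_eq_self]; exact hz₀⟩
  obtain ⟨ρ, hρpos, hρ⟩ : ∃ ρ : ℝ, ρ ∈ Set.Ioi (0 : ℝ) ∧
      ρ ∉ (fun t : ℂ => ‖t‖) '' {t : ℂ | MvPolynomial.eval (Function.update z₀ i t) M.h = 0} :=
    (Set.Ioi_infinite (0 : ℝ)).exists_notMem_finite (hfin.image _)
  let t : ℝ → ℂ := fun θ => (ρ : ℂ) * Complex.exp (θ * Complex.I)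
  have ht : ∀ θ, Function.update z₀ i (t θ) ∈ M.base := fun θ h0 => hρ ⟨t θ, h0, by
    simp [t, Complex.norm_exp_ofReal_mul_I, abs_of_pos (Set.mem_Ioi.mp hρpos)]⟩
  let f : ℝ → ℝ := fun θ => ((G (Function.update z₀ i (t θ))).im - M.m.natDegree * θ) / (2 * Real.pi)
  have hcont : Continuous f := by
    have h1 : Continuous fun θ => G (Function.update z₀ i (t θ)) :=
      hG.comp_continuous (continuous_const.update i (by fun_prop)) ht
    exact ((Complex.continuous_im.comp h1).sub (continuous_const.mul continuous_id)).div_const _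
  have hint : ∀ θ, ∃ n : ℤ, f θ = n := by
    intro θ
    have h := hexpG _ (ht θ)
    rw [Function.update_self] at h
    have he : (ρ : ℂ) = Complex.exp (Real.log ρ) := by
      rw [← Complex.ofReal_exp, Real.exp_log (Set.mem_Ioi.mp hρpos)]
    simp only [t] at h
    rw [he, ← Complex.exp_add, ← Complex.exp_nat_mul] at h
    obtain ⟨n, hn⟩ := Complex.exp_eq_exp_iff_exists_int.mp h
    refine ⟨n, ?_⟩
    have := congr(Complex.im $hn)
    simp at this
    simp only [f, t]
    rw [he, ← Complex.exp_add]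
    rw [div_eq_iff (by positivity), this]
    ring
  have hper : f (2 * Real.pi) = f 0 - M.m.natDegree := by
    have : t (2 * Real.pi) = t 0 := by
      simp [t, Complex.exp_two_pi_mul_I]
    simp only [f, this]
    field_simp
    ring
  obtain ⟨n₀, hn₀⟩ := hint 0
  have hd1 : (1 : ℝ) ≤ M.m.natDegree := by exact_mod_cast hd0
  obtain ⟨θ, -, hθ⟩ := intermediate_value_uIcc (a := 2 * Real.pi) (b := 0) hcont.continuousOn
    (show f 0 - 1 / 2 ∈ Set.uIcc (f (2 * Real.pi)) (f 0) by
      rw [hper, Set.mem_uIcc]; left; constructor <;> linarith)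
  obtain ⟨n, hn⟩ := hint θ
  rw [hn, hn₀] at hθ
  have : ((2 * (n₀ - n) : ℤ) : ℝ) = 1 := by push_cast; linarith
  have h2 : (2 * (n₀ - n) : ℤ) = 1 := by exact_mod_cast this
  omega

end

end Groth.Agent.AnLib
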