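import Groth.Agent.AnLib.Top
import Groth.Agent.AnLib.Connected
import Mathlib.Analysis.Complex.CoveringMap

/-!
Relations propagated along irreducible closed subsets; connected components; logarithms.
-/

set_option autoImplicit false
set_option backward.isDefEq.respectTransparency false

open CategoryTheory AlgebraicGeometry TopologicalSpace Topology

namespace Groth.Agent.AnLib

noncomputable section

open An

variable {X : Scheme.{0}} [X.Over SC] [LocallyOfFiniteType (X ↘ SC)]

omit [X.Over SC] [LocallyOfFiniteType (X ↘ SC)] in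
lemma exists_affine_mem (p : X) : ∃ U : X.Opens, IsAffineOpen U ∧ p ∈ U := by
  obtain ⟨U, hU, hpU, -⟩ := Opens.isBasis_iff_nbhd.mp X.isBasis_affineOpens
    (show p ∈ (⊤ : X.Opens) from trivial)
  exact ⟨U, hU, hpU⟩

/-- A subset stable under specialisation and generalisation is clopen. -/
lemma isClopen_of_stable {W : Set X} (h : ∀ p q : X, p ⤳ q → (p ∈ W ↔ q ∈ W)) : IsClopen W := by
  suffices H : ∀ V : Set X, (∀ p q : X, p ⤳ q → (p ∈ V ↔ q ∈ V)) → IsClosed V by
    exact ⟨H W h, isClosed_compl_iff.mp (H Wᶜ fun p q hpq => not_congr (h p q hpq))⟩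
  intro V hV
  rw [← closure_subset_iff_isClosed]
  intro p hp
  obtain ⟨U, hU, hpU⟩ := exists_affine_mem p
  have := noetherianSpace_affine hU
  have hp' : (⟨p, hpU⟩ : U) ∈ closure (Subtype.val ⁻¹' V) :=
    (U.2.isOpenMap_subtype_val.preimage_closure_eq_closure_preimage
      continuous_subtype_val V).le hp
  have hfin := NoetherianSpace.finite_irreducibleComponents (α := U)
  let K : Set U := ⋃ Z ∈ {Z ∈ irreducibleComponents U | (Z ∩ Subtype.val ⁻¹' V).Nonempty}, Z
  have hK : IsClosed K := (hfin.subset fun Z hZ => hZ.1).isClosed_biUnion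
    fun Z hZ => isClosed_of_mem_irreducibleComponents Z hZ.1
  have hVK : (Subtype.val ⁻¹' V : Set U) ⊆ K := fun q hq => Set.mem_biUnion
    (x := irreducibleComponent q)
    ⟨irreducibleComponent_mem_irreducibleComponents q, q, mem_irreducibleComponent, hq⟩
    mem_irreducibleComponent
  obtain ⟨Z, ⟨hZ, q, hqZ, hqV⟩, hpZ⟩ := Set.mem_iUnion₂.mp (closure_minimal hVK hK hp')
  obtain ⟨η, hη⟩ := QuasiSober.sober hZ.1 (isClosed_of_mem_irreducibleComponents Z hZ)
  have hq : η.1 ⤳ q.1 := (hη.specializes hqZ).map continuous_subtype_val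
  have hp2 : η.1 ⤳ p := (hη.specializes hpZ).map continuous_subtype_val
  exact (hV _ _ hp2).mp ((hV _ _ hq).mpr hqV)

/-- Propagation of a relation along irreducible closed subsets. -/
theorem rel_of_mem_connectedComponent (R : Pts X → Pts X → Prop) (hR : Equivalence R)
    (hloc : ∀ (U : X.Opens), IsAffineOpen U → ∀ ξ ∈ U, ∀ a b : Pts X,
      a.pt ∈ U → b.pt ∈ U → a.pt ∈ closure {ξ} → b.pt ∈ closure {ξ} → R a b)
    {x y : Pts X} (h : y.pt ∈ connectedComponent x.pt) : R x y := by
  have hcl : ∀ (ξ : X) (a b : Pts X), a.pt ∈ closure {ξ} → b.pt ∈ closure {ξ} → R a b := by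
    intro ξ a b ha hb
    obtain ⟨U, hU, haU⟩ := exists_affine_mem a.pt
    obtain ⟨U', hU', hbU⟩ := exists_affine_mem b.pt
    have hξU : ξ ∈ U := by obtain ⟨p, hp, rfl : p = ξ⟩ := mem_closure_iff.mp ha _ U.2 haU; exact hp
    have hξU' : ξ ∈ U' := by obtain ⟨p, hp, rfl : p = ξ⟩ := mem_closure_iff.mp hb _ U'.2 hbU; exact hp
    obtain ⟨c, ⟨hcU, hcU'⟩, hc⟩ := exists_pt_mem (X := X) (Z := ((U : Set X) ∩ U') ∩ closure {ξ})
      ⟨ξ, ⟨hξU, hξU'⟩, subset_closure rfl⟩
      ((U.2.inter U'.2).isLocallyClosed.inter isClosed_closure.isLocallyClosed)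
    exact hR.trans (hloc U hU ξ hξU a c haU hcU ha hc) (hloc U' hU' ξ hξU' c b hcU' hbU hc hb)
  have hsub : ∀ {p q : X}, p ⤳ q → ∀ z : Pts X, z.pt ∈ closure {q} → z.pt ∈ closure {p} :=
    fun hpq z hz => closure_minimal (Set.singleton_subset_iff.mpr hpq.mem_closure) isClosed_closure hz
  let W : Set X := {p | ∀ z : Pts X, z.pt ∈ closure {p} → R x z}
  have hW : IsClopen W := isClopen_of_stable fun p q hpq => by
    refine ⟨fun hp z hz => hp z (hsub hpq z hz), fun hq z hz => ?_⟩
    obtain ⟨c, hc⟩ := exists_pt_mem (X := X) (Z := closure ({q} : Set X))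
      ⟨q, subset_closure rfl⟩ isClosed_closure.isLocallyClosed
    exact hR.trans (hq c hc) (hcl p c z (hsub hpq c hc) hz)
  have hxW : x.pt ∈ W := fun z hz => hcl x.pt x z (subset_closure rfl) hz
  exact hW.connectedComponent_subset hxW h y (subset_closure rfl)

lemma pts_connected_affine {U : X.Opens} (hU : IsAffineOpen U) {ξ : X} (hξ : ξ ∈ U) (a b : Pts X)
    (ha : a.pt ∈ U) (hb : b.pt ∈ U) (ha' : a.pt ∈ closure {ξ}) (hb' : b.pt ∈ closure {ξ}) :
    b ∈ connectedComponent a := by
  have := finiteType_sec hU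
  let q := primeAt ξ hξ
  let B := Γ(X, U) ⧸ q
  let mk : Γ(X, U) →ₐ[ℂ] B := Ideal.Quotient.mkₐ ℂ q
  have : Algebra.FiniteType ℂ B :=
    Algebra.FiniteType.of_surjective mk (Ideal.Quotient.mkₐ_surjective _ _)
  have : PreconnectedSpace (B →ₐ[ℂ] ℂ) := preconnectedSpace_pts
  let φa : B →ₐ[ℂ] ℂ := Ideal.Quotient.liftₐ q (toHom a U ha)
    fun _ hf => (le_ker_iff hU ξ hξ a ha).mpr ha' hf
  let φb : B →ₐ[ℂ] ℂ := Ideal.Quotient.liftₐ q (toHom b U hb)
    fun _ hf => (le_ker_iff hU ξ hξ b hb).mpr hb' hf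
  let F : (B →ₐ[ℂ] ℂ) → Pts X := fun ψ => ofHom hU (ψ.comp mk)
  have hF : Continuous F := (continuous_ofHom hU).comp (continuous_comp mk)
  have hpre : IsPreconnected (Set.range F) := isPreconnected_range hF
  have hFa : F φa = a := by
    change ofHom hU (φa.comp mk) = a
    rw [show φa.comp mk = toHom a U ha from AlgHom.ext fun _ => rfl, ofHom_toHom]
  have hFb : F φb = b := by
    change ofHom hU (φb.comp mk) = b
    rw [show φb.comp mk = toHom b U hb from AlgHom.ext fun _ => rfl, ofHom_toHom]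
  exact hpre.subset_connectedComponent ⟨φa, hFa⟩ ⟨φb, hFb⟩

/-- `π₀` of the complex points. -/
theorem connectedComponentsMap_bijective :
    Function.Bijective (An.Pts.continuous_pt (X := X)).connectedComponentsMap := by
  constructor
  · intro c d
    obtain ⟨x, rfl⟩ := _root_.ConnectedComponents.surjective_coe c
    obtain ⟨y, rfl⟩ := _root_.ConnectedComponents.surjective_coe d
    intro h
    have h' : (x.pt : _root_.ConnectedComponents X) = y.pt := h
    rw [_root_.ConnectedComponents.coe_eq_coe'] at h'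
    rw [_root_.ConnectedComponents.coe_eq_coe']
    refine rel_of_mem_connectedComponent (fun a b => a ∈ connectedComponent b) ?_
      (fun U hU ξ hξ a b ha hb ha' hb' => pts_connected_affine hU hξ b a hb ha hb' ha') ?_
    · refine ⟨fun a => mem_connectedComponent, fun {a b} hab => ?_, fun {a b c} hab hbc => ?_⟩
      · exact (connectedComponent_eq hab).symm ▸ mem_connectedComponent
      · exact (connectedComponent_eq hbc) ▸ hab
    · rw [← connectedComponent_eq h']
      exact mem_connectedComponent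
  · intro c
    obtain ⟨p, rfl⟩ := _root_.ConnectedComponents.surjective_coe c
    obtain ⟨x, hx⟩ := exists_pt_mem (X := X) (Z := closure ({p} : Set X))
      ⟨p, subset_closure rfl⟩ isClosed_closure.isLocallyClosed
    refine ⟨(x : _root_.ConnectedComponents (Pts X)), ?_⟩
    change (x.pt : _root_.ConnectedComponents X) = p
    rw [_root_.ConnectedComponents.coe_eq_coe']
    exact closure_minimal (Set.singleton_subset_iff.mpr mem_connectedComponent)
      isClosed_connectedComponent hx

theorem nonempty_iff : Nonempty X ↔ Nonempty (Pts X) :=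
  ⟨fun ⟨_⟩ => (exists_pt_mem (X := X) (Z := Set.univ) Set.univ_nonempty
    isClosed_univ.isLocallyClosed).nonempty, fun ⟨x⟩ => ⟨x.pt⟩⟩

theorem connectedSpace_iff : ConnectedSpace X ↔ ConnectedSpace (Pts X) := by
  rw [connectedSpace_iff_connectedComponent, connectedSpace_iff_connectedComponent]
  constructor
  · rintro ⟨p, hp⟩
    obtain ⟨x⟩ := nonempty_iff.mp ⟨p⟩
    refine ⟨x, Set.eq_univ_of_forall fun y => ?_⟩
    have h : (An.Pts.continuous_pt (X := X)).connectedComponentsMap (y : _root_.ConnectedComponents _) =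
        (An.Pts.continuous_pt (X := X)).connectedComponentsMap (x : _root_.ConnectedComponents _) := by
      change ((y.pt : X) : _root_.ConnectedComponents X) = x.pt
      rw [_root_.ConnectedComponents.coe_eq_coe', connectedComponent_eq (x := p) (y := x.pt) (by simp [hp]) |>.symm]
      simp [hp]
    exact _root_.ConnectedComponents.coe_eq_coe'.mp (connectedComponentsMap_bijective.1 h)
  · rintro ⟨x, hx⟩
    refine ⟨x.pt, Set.eq_univ_of_forall fun p => ?_⟩
    obtain ⟨c, hc⟩ := (connectedComponentsMap_bijective (X := X)).2 p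
    obtain ⟨y, rfl⟩ := _root_.ConnectedComponents.surjective_coe c
    have hy : (y : _root_.ConnectedComponents (Pts X)) = x :=
      _root_.ConnectedComponents.coe_eq_coe'.mpr (by simp [hx])
    rw [hy] at hc
    exact _root_.ConnectedComponents.coe_eq_coe'.mp hc.symm

/-- A nullhomotopic invertible function is constant on each connected component. -/
theorem evTop_eq_of_nullhomotopic (u : Γ(X, ⊤)) (φ : C(Pts X, {z : ℂ // z ≠ 0}))
    (hφ : ∀ x : Pts X, (φ x).1 = x.evTop u) (z₀ : {z : ℂ // z ≠ 0})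
    (hnull : φ.Homotopic (ContinuousMap.const (Pts X) z₀)) {x y : Pts X}
    (h : y.pt ∈ connectedComponent x.pt) : x.evTop u = y.evTop u := by
  obtain ⟨L, hL, hexp⟩ : ∃ L : Pts X → ℂ, Continuous L ∧ ∀ x, Complex.exp (L x) = x.evTop u := by
    obtain ⟨H⟩ := hnull.symm
    let w : ℂ := Complex.log z₀.1
    have hw : Complex.exp w = z₀.1 := Complex.exp_log z₀.2
    let G := Complex.isCoveringMap_exp.liftHomotopy H.toContinuousMap
      (ContinuousMap.const (Pts X) w)
      (fun a => Subtype.ext (((congrArg Subtype.val (H.map_zero_left a))).trans hw.symm))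
    refine ⟨fun a => G (1, a), by fun_prop, fun a => ?_⟩
    have h1 := congr_fun (Complex.isCoveringMap_exp.liftHomotopy_lifts H.toContinuousMap
      (ContinuousMap.const (Pts X) w)
      (fun a => Subtype.ext (((congrArg Subtype.val (H.map_zero_left a))).trans hw.symm))) (1, a)
    have h2 := congrArg Subtype.val h1
    refine h2.trans ?_
    rw [show H.toContinuousMap (1, a) = φ a from H.map_one_left a]
    exact hφ a
  refine rel_of_mem_connectedComponent (fun a b => a.evTop u = b.evTop u)
    ⟨fun _ => rfl, Eq.symm, Eq.trans⟩ (fun U hU ξ hξ a b ha hb ha' hb' => ?_) h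
  have := finiteType_sec hU
  let q := primeAt ξ hξ
  let B := Γ(X, U) ⧸ q
  let mk : Γ(X, U) →ₐ[ℂ] B := Ideal.Quotient.mkₐ ℂ q
  have : Algebra.FiniteType ℂ B :=
    Algebra.FiniteType.of_surjective mk (Ideal.Quotient.mkₐ_surjective _ _)
  let v : B := mk (resAlg (le_top : U ≤ ⊤) u)
  by_cases hc : ∃ c : ℂ, algebraMap ℂ B c = v
  · obtain ⟨c, hc⟩ := hc
    have key : ∀ (z : Pts X) (hz : z.pt ∈ U), z.pt ∈ closure {ξ} → z.evTop u = c := by
      intro z hz hz'
      let φz : B →ₐ[ℂ] ℂ := Ideal.Quotient.liftₐ q (toHom z U hz)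
        fun _ hf => (le_ker_iff hU ξ hξ z hz).mpr hz' hf
      have h1 : φz v = c := by rw [← hc, AlgHom.commutes]; rfl
      refine Eq.trans ?_ h1
      change z.ev ⊤ _ u = toHom z U hz (resAlg le_top u)
      exact (ev_res z le_top hz u).symm
    rw [key a ha ha', key b hb hb']
  · push Not at hc
    refine (no_log v hc (fun ψ => L (ofHom hU (ψ.comp mk)))
      (hL.comp ((continuous_ofHom hU).comp (continuous_comp mk))) fun ψ => ?_).elim
    rw [hexp]
    have e := toHom_ofHom hU (ψ.comp mk)
    change (ofHom hU (ψ.comp mk)).ev ⊤ _ u = (ψ.comp mk) (resAlg le_top u)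
    rw [← DFunLike.congr_fun e (resAlg le_top u)]
    exact (ev_res _ le_top (pt_ofHom hU (ψ.comp mk)) u).symm

end

end Groth.Agent.AnLib
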