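import Groth.Agent.AnLib.EpsSite
import Groth.Agent.AnLib.Chain
import Groth.Agent.EtaleSections.Basic

/-!
`ε` is faithful, and full towards separated étale schemes.
-/

set_option autoImplicit false
set_option backward.isDefEq.respectTransparency false

open CategoryTheory Limits AlgebraicGeometry TopologicalSpace Topology

namespace Groth.Agent.AnLib

noncomputable section

/-- A clopen set of points comes from an open subscheme. -/
lemma exists_open_of_clopen {W : Scheme.{0}} [W.Over An.SC] [LocallyOfFiniteType (W ↘ An.SC)]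
    {G : Set (An.Pts W)} (hG : IsClopen G) : ∃ C : W.Opens, An.Pts.pt ⁻¹' (C : Set W) = G := by
  let C : Set W := {p | ∃ z ∈ G, p ∈ connectedComponent z.pt}
  have hC : IsClopen C := isClopen_of_stable fun p q hpq => by
    have hq : q ∈ connectedComponent p :=
      (isPreconnected_singleton.closure).subset_connectedComponent (subset_closure rfl)
        hpq.mem_closure
    constructor
    · rintro ⟨z, hz, hp⟩
      exact ⟨z, hz, (connectedComponent_eq hp).symm ▸ hq⟩
    · rintro ⟨z, hz, hp⟩
      refine ⟨z, hz, ?_⟩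
      rw [connectedComponent_eq hp, ← connectedComponent_eq hq]
      exact mem_connectedComponent
  refine ⟨⟨C, hC.isOpen⟩, Set.ext fun x => ⟨?_, fun hx => ⟨x, hx, mem_connectedComponent⟩⟩⟩
  rintro ⟨z, hz, hx⟩
  have h : (x : _root_.ConnectedComponents (An.Pts W)) = z := by
    refine connectedComponentsMap_bijective.1 ?_
    change (x.pt : _root_.ConnectedComponents W) = z.pt
    exact _root_.ConnectedComponents.coe_eq_coe'.mpr hx
  exact hG.connectedComponent_subset hz (_root_.ConnectedComponents.coe_eq_coe'.mp h)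

lemma eq_univ_of_isOpen {W : Scheme.{0}} [W.Over An.SC] [LocallyOfFiniteType (W ↘ An.SC)]
    {O : Set W} (hO : IsOpen O) (h : ∀ x : An.Pts W, x.pt ∈ O) : O = Set.univ := by
  by_contra hne
  obtain ⟨x, hx⟩ := exists_pt_mem (X := W) (Z := Oᶜ) (Set.nonempty_compl.mpr hne)
    hO.isClosed_compl.isLocallyClosed
  exact hx (h x)

variable (X : Scheme.{0}) [X.Over An.SC] [LocallyOfFiniteType (X ↘ An.SC)] [Fact An.EtaleLH]

theorem eps_faithful : (An.eps X).Faithful where
  map_injective {U V} g k e := by
    have : Etale (V.left ↘ X) := V.prop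
    have hπ : g.left ≫ (V.left ↘ X) = k.left ≫ (V.left ↘ X) := (Over.w g.hom).trans (Over.w k.hom).symm
    have hO : EtaleSections.eqLocus (V.left ↘ X) g.left k.left hπ = Set.univ := by
      refine eq_univ_of_isOpen (EtaleSections.isOpen_eqLocus _ _ _ _) fun a => ?_
      refine EtaleSections.range_subset_eqLocus _ _ _ _ a.1 ?_ ⟨An.cpt, rfl⟩
      exact congrArg Subtype.val (congrFun (congrArg An.Cl.Hom.toFun e) a)
    exact MorphismProperty.Over.Hom.ext
      (EtaleSections.eq_of_eqLocus_eq_univ (V.left ↘ X) g.left k.left hπ hO)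

theorem eps_full (U V : X.Etale) [IsSeparated (V.left ↘ X)] :
    Function.Surjective ((An.eps X).map : (U ⟶ V) → ((An.eps X).obj U ⟶ (An.eps X).obj V)) := by
  intro φ
  let p : U.left ⟶ X := U.left ↘ X
  let q : V.left ⟶ X := V.left ↘ X
  have : Etale q := V.prop
  have : Etale p := U.prop
  let W := pullback p q
  let fst : W ⟶ U.left := pullback.fst p q
  let snd : W ⟶ V.left := pullback.snd p q
  have : LocallyOfFiniteType (W ↘ An.SC) := by
    change LocallyOfFiniteType (pullback.fst p q ≫ U.left ↘ An.SC)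
    infer_instance
  have : snd.IsOver An.SC := ⟨by
    change pullback.snd p q ≫ q ≫ (X ↘ An.SC) = pullback.fst p q ≫ p ≫ (X ↘ An.SC)
    rw [pullback.condition_assoc]⟩
  let φ' : An.Pts U.left → An.Pts V.left := φ.toFun
  have hφq : ∀ a : An.Pts U.left, (φ' a).1 ≫ q = a.1 ≫ p := fun a =>
    congrArg Subtype.val (φ.over a)
  let G : Set (An.Pts W) := {z | φ' (An.Pts.map fst z) = An.Pts.map snd z}
  have hcomp : An.Pts.map q ∘ (fun z => φ' (An.Pts.map fst z)) =
      An.Pts.map q ∘ An.Pts.map snd := funext fun z => Subtype.ext (by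
    change (φ' (An.Pts.map fst z)).1 ≫ q = (z.1 ≫ snd) ≫ q
    rw [hφq, An.Pts.map_val, Category.assoc, Category.assoc, pullback.condition])
  have hc₁ : Continuous fun z => φ' (An.Pts.map fst z) :=
    φ.continuous.comp (An.Pts.continuous_map fst)
  have hG : IsClopen G :=
    ⟨((isSeparated_iff_pts q).mp inferInstance).isClosed_eqLocus hc₁
        (An.Pts.continuous_map snd) hcomp,
      ((Fact.out : An.EtaleLH) V.left X q).isLocallyInjective.isOpen_eqLocus hc₁
        (An.Pts.continuous_map snd) hcomp⟩
  obtain ⟨C, hC⟩ := exists_open_of_clopen hG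
  let _ : C.toScheme.Over An.SC := ⟨C.ι ≫ W ↘ An.SC⟩
  have : C.ι.IsOver An.SC := ⟨rfl⟩
  have : LocallyOfFiniteType (C.toScheme ↘ An.SC) :=
    inferInstanceAs (LocallyOfFiniteType (C.ι ≫ W ↘ An.SC))
  let r : C.toScheme ⟶ U.left := C.ι ≫ fst
  have : r.IsOver An.SC := ⟨by rw [Category.assoc, comp_over fst]; rfl⟩
  have hz : ∀ z : An.Pts C.toScheme, An.Pts.map C.ι z ∈ G := fun z => by
    rw [← hC]
    change (An.Pts.map C.ι z).pt ∈ C
    rw [An.Pts.pt_map]
    exact (z.pt : C).2
  have hinj : Function.Injective (An.Pts.map r) := by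
    intro z z' h
    refine map_injective_of_mono C.ι ?_
    have h1 : An.Pts.map fst (An.Pts.map C.ι z) = An.Pts.map fst (An.Pts.map C.ι z') :=
      Subtype.ext (by simpa [r] using congrArg Subtype.val h)
    have h2 : An.Pts.map snd (An.Pts.map C.ι z) = An.Pts.map snd (An.Pts.map C.ι z') :=
      (hz z).symm.trans ((congrArg φ' h1).trans (hz z'))
    exact Subtype.ext (pullback.hom_ext (congrArg Subtype.val h1) (congrArg Subtype.val h2))
  have : UniversallyInjective r := by
    rw [UniversallyInjective.iff_diagonal, surjective_iff, ← Set.range_eq_univ]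
    have : LocallyOfFiniteType (pullback r r ↘ An.SC) := by
      change LocallyOfFiniteType (pullback.fst r r ≫ C.toScheme ↘ An.SC)
      have := locallyOfFiniteType_map r
      infer_instance
    refine eq_univ_of_isOpen (pullback.diagonal r).isOpenEmbedding.isOpen_range fun z => ?_
    have : (pullback.snd r r).IsOver An.SC := ⟨by
      change pullback.snd r r ≫ (C.toScheme ↘ An.SC) = pullback.fst r r ≫ (C.toScheme ↘ An.SC)
      rw [← comp_over r, pullback.condition_assoc]⟩
    have he : An.Pts.map (pullback.fst r r) z = An.Pts.map (pullback.snd r r) z :=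
      hinj (An.Pts.map_pullback_condition r r z)
    have hzd : (z.1 ≫ pullback.fst r r) ≫ pullback.diagonal r = z.1 := by
      have he' : z.1 ≫ pullback.fst r r = z.1 ≫ pullback.snd r r := congrArg Subtype.val he
      apply pullback.hom_ext
      · simp
      · simp [he']
    refine ⟨(An.Pts.map (pullback.fst r r) z).pt, ?_⟩
    change pullback.diagonal r ((z.1 ≫ pullback.fst r r) An.cpt) = z.1 An.cpt
    rw [← Scheme.Hom.comp_apply, hzd]
  have : Surjective r := by
    rw [surjective_iff, ← Set.range_eq_univ]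
    refine eq_univ_of_isOpen r.isOpenMap.isOpen_range fun a => ?_
    let z : An.Pts W := ⟨pullback.lift a.1 (φ' a).1 (hφq a).symm, by
      change pullback.lift _ _ _ ≫ pullback.fst p q ≫ (U.left ↘ An.SC) = _
      rw [pullback.lift_fst_assoc]; exact a.2⟩
    have hfz : An.Pts.map fst z = a := Subtype.ext (pullback.lift_fst _ _ _)
    have hzC : z.pt ∈ C := by
      change z ∈ An.Pts.pt ⁻¹' (C : Set W)
      rw [hC]
      change φ' (An.Pts.map fst z) = _
      rw [hfz]
      exact Subtype.ext (pullback.lift_snd _ _ _).symm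
    refine ⟨⟨z.pt, hzC⟩, ?_⟩
    change (C.ι ≫ fst) _ = a.pt
    rw [Scheme.Hom.comp_apply, ← hfz, An.Pts.pt_map]
    rfl
  have : UniversallyInjective (C.ι ≫ pullback.fst p q) := ‹UniversallyInjective r›
  have : Surjective (C.ι ≫ pullback.fst p q) := ‹Surjective r›
  refine ⟨MorphismProperty.Over.homMk (EtaleSections.ofGraph p q C)
    (EtaleSections.ofGraph_comp p q C), An.Cl.hom_ext (funext fun a => Subtype.ext ?_)⟩
  let γ := (pullback.lift (𝟙 U.left) (EtaleSections.ofGraph p q C)
    ((Category.id_comp p).trans (EtaleSections.ofGraph_comp p q C).symm) : U.left ⟶ W)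
  have : γ.IsOver An.SC := ⟨by
    change γ ≫ pullback.fst p q ≫ (U.left ↘ An.SC) = _
    rw [pullback.lift_fst_assoc, Category.id_comp]⟩
  have hzG : An.Pts.map γ a ∈ G := by
    rw [← hC]
    change (An.Pts.map γ a).pt ∈ (C : Set W)
    rw [An.Pts.pt_map, ← EtaleSections.range_graph p q C]
    exact ⟨_, rfl⟩
  have hfa : An.Pts.map fst (An.Pts.map γ a) = a := Subtype.ext (by
    change (a.1 ≫ γ) ≫ pullback.fst p q = a.1
    rw [Category.assoc, pullback.lift_fst, Category.comp_id])
  have hsa : φ' a = An.Pts.map snd (An.Pts.map γ a) := by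
    have := hzG
    change φ' (An.Pts.map fst (An.Pts.map γ a)) = _ at this
    rwa [hfa] at this
  change a.1 ≫ EtaleSections.ofGraph p q C = (φ' a).1
  rw [hsa]
  change _ = (a.1 ≫ γ) ≫ pullback.snd p q
  rw [Category.assoc, pullback.lift_snd]

end

end Groth.Agent.AnLib
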