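import Groth.Agent.AnLib.Etale
import Groth.Agent.AnLib.FlatLan

/-!
`ε` preserves finite limits and covers: it is a morphism of sites.
-/

set_option autoImplicit false
set_option backward.isDefEq.respectTransparency false

open CategoryTheory Limits AlgebraicGeometry TopologicalSpace Topology

namespace Groth.Agent.AnLib

noncomputable section

/-- A square of the classical site whose total space is the fibre product is a pullback. -/
lemma cl_isPullback {T : Type} [TopologicalSpace T] {P A B S : An.Cl T} (fst : P ⟶ A) (snd : P ⟶ B)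
    (f : A ⟶ S) (g : B ⟶ S) (w : fst ≫ f = snd ≫ g)
    (h : IsHomeomorph fun x : P.E => (⟨(fst.toFun x, snd.toFun x),
      congrFun (congrArg An.Cl.Hom.toFun w) x⟩ : {q : A.E × B.E // f.toFun q.1 = g.toFun q.2})) :
    IsPullback fst snd f g := by
  let e := h.homeomorph
  have he : ∀ q, (fst.toFun (e.symm q), snd.toFun (e.symm q)) = q.1 := fun q =>
    congrArg Subtype.val (e.apply_symm_apply q)
  have he1 : ∀ q, fst.toFun (e.symm q) = q.1.1 := fun q => congrArg Prod.fst (he q)
  let L : ∀ c : PullbackCone f g, c.pt ⟶ P := fun c =>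
    { toFun := fun x => e.symm ⟨(c.fst.toFun x, c.snd.toFun x),
        congrFun (congrArg An.Cl.Hom.toFun c.condition) x⟩
      continuous := e.symm.continuous.comp
        ((c.fst.continuous.prodMk c.snd.continuous).subtype_mk _)
      «over» := fun x => by
        rw [← fst.over, he1, c.fst.over] }
  exact IsPullback.of_isLimit' ⟨w⟩ (PullbackCone.IsLimit.mk _ L
    (fun c => An.Cl.hom_ext (funext fun x => (Prod.ext_iff.mp (he _)).1))
    (fun c => An.Cl.hom_ext (funext fun x => (Prod.ext_iff.mp (he _)).2))
    (fun c m h₁ h₂ => An.Cl.hom_ext (funext fun x => e.injective (by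
      rw [show (L c).toFun x = e.symm _ from rfl, e.apply_symm_apply]
      exact Subtype.ext (Prod.ext (congrFun (congrArg An.Cl.Hom.toFun h₁) x)
        (congrFun (congrArg An.Cl.Hom.toFun h₂) x))))))

variable (X : Scheme.{0}) [X.Over An.SC] [LocallyOfFiniteType (X ↘ An.SC)]

instance lft_etale (U : X.Etale) : LocallyOfFiniteType (U.left ↘ An.SC) := by
  have : Etale (U.left ↘ X) := U.prop
  change LocallyOfFiniteType ((U.left ↘ X) ≫ X ↘ An.SC)
  infer_instance

variable [Fact An.EtaleLH]

lemma eps_isPullback {P U V W : X.Etale} {p : P ⟶ U} {q : P ⟶ V} {g : U ⟶ W} {k : V ⟶ W}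
    (h : IsPullback p q g k) :
    IsPullback ((An.eps X).map p) ((An.eps X).map q) ((An.eps X).map g) ((An.eps X).map k) := by
  have hs : IsPullback p.left q.left g.left k.left :=
    h.map (Scheme.Etale.forget X ⋙ CategoryTheory.Over.forget X)
  let i := hs.isoPullback
  have hi : i.hom.IsOver An.SC := ⟨by
    change i.hom ≫ pullback.fst _ _ ≫ (U.left ↘ An.SC) = P.left ↘ An.SC
    rw [IsPullback.isoPullback_hom_fst_assoc, comp_over p.left]⟩
  have hi' : i.inv.IsOver An.SC := ⟨by rw [Iso.inv_comp_eq, comp_over i.hom]⟩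
  let φ : An.Pts P.left ≃ₜ An.Pts (pullback g.left k.left) :=
    { toFun := An.Pts.map i.hom
      invFun := An.Pts.map i.inv
      left_inv := fun x => Subtype.ext (by simp)
      right_inv := fun x => Subtype.ext (by simp)
      continuous_toFun := An.Pts.continuous_map _
      continuous_invFun := An.Pts.continuous_map _ }
  have w : (An.eps X).map p ≫ (An.eps X).map g = (An.eps X).map q ≫ (An.eps X).map k := by
    rw [← Functor.map_comp, ← Functor.map_comp, h.w]
  refine cl_isPullback _ _ _ _ w ?_
  let F : An.Pts P.left → {r : An.Pts U.left × An.Pts V.left //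
      An.Pts.map g.left r.1 = An.Pts.map k.left r.2} := fun x =>
    ⟨(An.Pts.map p.left x, An.Pts.map q.left x), congrFun (congrArg An.Cl.Hom.toFun w) x⟩
  have hF : F = (fun z => ⟨(An.Pts.map (pullback.fst g.left k.left) z,
      An.Pts.map (pullback.snd g.left k.left) z),
      An.Pts.map_pullback_condition g.left k.left z⟩) ∘ φ := by
    funext x
    refine Subtype.ext (Prod.ext (Subtype.ext ?_) (Subtype.ext ?_))
    · change x.1 ≫ p.left = (x.1 ≫ i.hom) ≫ pullback.fst _ _
      rw [Category.assoc, IsPullback.isoPullback_hom_fst]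
    · change x.1 ≫ q.left = (x.1 ≫ i.hom) ≫ pullback.snd _ _
      rw [Category.assoc, IsPullback.isoPullback_hom_snd]
  have hh : IsHomeomorph F := hF ▸ (isHomeomorph_pullback g.left k.left).comp φ.isHomeomorph
  exact hh

theorem eps_preservesFiniteLimits : PreservesFiniteLimits (An.eps X) := by
  have : PreservesLimit (Functor.empty.{0} X.Etale) (An.eps X) :=
    preservesLimit_of_preserves_limit_cone (EtCore.topIsTerminal X)
      ((isLimitMapConeEmptyConeEquiv (An.eps X) _).symm
        ((An.Cl.selfIsTerminal (An.Pts X)).ofIso (An.epsTopIso X).symm))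
  have := preservesLimitsOfShape_pempty_of_preservesTerminal (An.eps X)
  have : PreservesLimitsOfShape WalkingCospan (An.eps X) := by
    refine ⟨fun {K} => ?_⟩
    have : PreservesLimit (cospan (K.map WalkingCospan.Hom.inl) (K.map WalkingCospan.Hom.inr))
        (An.eps X) :=
      (IsPullback.of_hasPullback _ _).preservesLimit_cospan_iff.mpr
        (eps_isPullback X (IsPullback.of_hasPullback _ _))
    exact preservesLimit_of_iso_diagram _ (diagramIsoCospan K).symm
  exact preservesFiniteLimits_of_preservesTerminal_and_pullbacks _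

theorem eps_flat : RepresentablyFlat (An.eps X) :=
  have := eps_preservesFiniteLimits X
  flat_of_preservesFiniteLimits _

theorem eps_coverPreserving :
    CoverPreserving X.smallEtaleTopology (An.Cl.topology (An.Pts X)) (An.eps X) := by
  refine ⟨fun {U S} hS (a : An.Pts U.left) => ?_⟩
  obtain ⟨𝒰, hover, hprop, hle⟩ := (Scheme.mem_smallGrothendieckTopology _ _).1 hS
  obtain ⟨i, z, hz⟩ := 𝒰.exists_eq a.pt
  let Z : X.Etale := (𝒰.X i).asOverProp X (hprop i)
  let f : Z ⟶ U := MorphismProperty.Over.homMk (𝒰.f i) (comp_over (𝒰.f i) (S := X))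
  have hf : S f := hle _ _ ⟨i⟩
  let : Z.left.Over An.SC := An.etaleOverLeft X Z
  have : f.left.IsOver An.SC := An.etaleOverMap X f
  have := lft_etale X Z
  obtain ⟨b, -, hb⟩ := exists_pt_over (X := Z.left) (Y := U.left) f.left a (Z := Set.univ)
    isClosed_univ.isLocallyClosed ⟨z, trivial, hz⟩
  have hlh : IsLocalHomeomorph ((An.eps X).map f).toFun := by
    have : Etale f.left := 𝒰.map_prop i
    exact (Fact.out : An.EtaleLH) Z.left U.left f.left
  obtain ⟨e, hbe, he⟩ := hlh b
  refine ⟨An.Cl.restrictOpen ((An.eps X).obj Z) e.source e.open_source,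
    An.Cl.restrictOpenι _ e.source e.open_source ≫ (An.eps X).map f,
    Sieve.downward_closed _ (Sieve.image_mem_functorPushforward _ _ hf) _, ?_, ⟨⟨b, hbe⟩, hb⟩⟩
  change IsOpenEmbedding (((An.eps X).map f).toFun ∘ Subtype.val)
  rw [he]
  exact e.isOpenEmbedding_restrict

theorem epsCont : An.EpsCont X :=
  have := eps_flat X
  Functor.isContinuous_of_coverPreserving (compatiblePreservingOfFlat _ _) (eps_coverPreserving X)

theorem epsPull_preservesFiniteLimits [An.EpsCont X] : PreservesFiniteLimits (An.epsPull X) :=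
  have := eps_flat X
  sheafPullback_preservesFiniteLimits (An.eps X) _ _

end

end Groth.Agent.AnLib
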