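import Mathlib

/-!
Analytic lemmas about roots of monic polynomials depending polynomially on parameters.
-/

set_option autoImplicit false

open Polynomial Filter Topology

namespace Groth.Agent.AnLib

noncomputable section

lemma exists_root_near (p : ℂ[X]) (hp : p.Monic) (hd : 0 < p.natDegree) (w : ℂ) :
    ∃ c, p.IsRoot c ∧ ‖w - c‖ ^ p.natDegree ≤ ‖p.eval w‖ := by
  have hs : p.Splits := IsAlgClosed.splits p
  have hcard : p.roots.card = p.natDegree := hs.natDegree_eq_card_roots.symm
  have hne : p.roots.toFinset.Nonempty := by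
    rw [Finset.nonempty_iff_ne_empty]
    intro h
    rw [Multiset.toFinset_eq_empty] at h
    rw [h] at hcard
    simp at hcard
    omega
  obtain ⟨c, hc, hmin⟩ := p.roots.toFinset.exists_min_image (fun c => ‖w - c‖) hne
  rw [Multiset.mem_toFinset] at hc
  refine ⟨c, (Polynomial.mem_roots'.mp hc).2, ?_⟩
  rw [hs.eval_eq_prod_roots, hp.leadingCoeff, one_mul, ← hcard]
  have key : ∀ s : Multiset ℂ, (∀ a ∈ s, ‖w - c‖ ≤ ‖w - a‖) →
      ‖w - c‖ ^ s.card ≤ ‖(s.map fun a => w - a).prod‖ := by
    intro s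
    induction s using Multiset.induction_on with
    | empty => simp
    | cons a s ih =>
      intro h
      rw [Multiset.card_cons, Multiset.map_cons, Multiset.prod_cons, norm_mul, pow_succ']
      exact mul_le_mul (h a (Multiset.mem_cons_self a s))
        (ih fun b hb => h b (Multiset.mem_cons_of_mem hb)) (by positivity) (by positivity)
  exact key _ fun a ha => hmin a (Multiset.mem_toFinset.mpr ha)

lemma norm_root_le (p : ℂ[X]) (hp : p.Monic) {c : ℂ} (hc : p.IsRoot c) :
    ‖c‖ ≤ 1 + ∑ i ∈ Finset.range p.natDegree, ‖p.coeff i‖ := by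
  have hS : 0 ≤ ∑ i ∈ Finset.range p.natDegree, ‖p.coeff i‖ := by positivity
  rcases le_or_gt ‖c‖ 1 with h | h
  · linarith
  rcases Nat.eq_zero_or_pos p.natDegree with hd | hd
  · exfalso
    rw [hp.natDegree_eq_zero.mp hd] at hc
    simp [Polynomial.IsRoot] at hc
  have e := hp.as_sum
  have h0 : c ^ p.natDegree + ∑ i ∈ Finset.range p.natDegree, p.coeff i * c ^ i = 0 := by
    have h1 := congr(Polynomial.eval c $e)
    simp only [eval_add, eval_pow, eval_X, eval_finsetSum, eval_mul, eval_C] at h1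
    rw [← h1]; exact hc
  have h2 : ‖c‖ ^ p.natDegree ≤
      (∑ i ∈ Finset.range p.natDegree, ‖p.coeff i‖) * ‖c‖ ^ (p.natDegree - 1) := by
    rw [← norm_pow, eq_neg_of_add_eq_zero_left h0, norm_neg, Finset.sum_mul]
    refine (norm_sum_le _ _).trans (Finset.sum_le_sum fun i hi => ?_)
    rw [norm_mul, norm_pow]
    have := Finset.mem_range.mp hi
    exact mul_le_mul_of_nonneg_left (pow_le_pow_right₀ h.le (by omega)) (norm_nonneg _)
  have hpos : 0 < ‖c‖ ^ (p.natDegree - 1) := by positivity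
  have h3 : ‖c‖ ^ p.natDegree = ‖c‖ * ‖c‖ ^ (p.natDegree - 1) := by
    conv_lhs => rw [← Nat.sub_add_cancel hd, pow_succ']
  rw [h3] at h2
  have := le_of_mul_le_mul_right h2 hpos
  linarith

lemma norm_coeff_prod_le {ι : Type*} (s : Finset ι) (c : ι → ℂ) {B : ℝ} (hB : 1 ≤ B)
    (h : ∀ i ∈ s, ‖c i‖ ≤ B) (j : ℕ) :
    ‖(∏ i ∈ s, (X - C (c i))).coeff j‖ ≤ (2 * B) ^ s.card := by
  classical
  induction s using Finset.induction_on generalizing j with
  | empty =>
    simp only [Finset.prod_empty, Finset.card_empty, pow_zero, coeff_one]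
    split <;> simp
  | @insert i s hi ih =>
    rw [Finset.prod_insert hi, Finset.card_insert_of_notMem hi, pow_succ', sub_mul, coeff_sub,
      coeff_C_mul]
    have ih' := ih fun k hk => h k (Finset.mem_insert_of_mem hk)
    have h1 : ‖(X * ∏ i ∈ s, (X - C (c i))).coeff j‖ ≤ (2 * B) ^ s.card := by
      cases j with
      | zero => simp only [coeff_X_mul_zero, norm_zero]; positivity
      | succ j => rw [coeff_X_mul]; exact ih' j
    have h2 : ‖c i * (∏ i ∈ s, (X - C (c i))).coeff j‖ ≤ B * (2 * B) ^ s.card := by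
      rw [norm_mul]
      exact mul_le_mul (h i (Finset.mem_insert_self i s)) (ih' j) (norm_nonneg _) (by linarith)
    have h3 : 0 ≤ (2 * B) ^ s.card := by positivity
    refine (norm_sub_le _ _).trans ?_
    nlinarith

lemma differentiableAt_coeff_prod {ι : Type*} (s : Finset ι) (c : ι → ℂ → ℂ) {t : ℂ}
    (h : ∀ i ∈ s, DifferentiableAt ℂ (c i) t) (j : ℕ) :
    DifferentiableAt ℂ (fun u => (∏ i ∈ s, (X - C (c i u))).coeff j) t := by
  classical
  induction s using Finset.induction_on generalizing j with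
  | empty => simp only [Finset.prod_empty]; exact differentiableAt_const _
  | @insert i s hi ih =>
    have ih' := ih fun k hk => h k (Finset.mem_insert_of_mem hk)
    simp only [Finset.prod_insert hi, sub_mul, coeff_sub, coeff_C_mul]
    refine DifferentiableAt.sub ?_ ((h i (Finset.mem_insert_self i s)).mul (ih' j))
    cases j with
    | zero => simp only [coeff_X_mul_zero]; exact differentiableAt_const _
    | succ j => simp only [coeff_X_mul]; exact ih' j

variable {σ : Type*}

/-- Specialisation of the coefficients at a point of affine space. -/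
abbrev atPt (z : σ → ℂ) : (MvPolynomial σ ℂ)[X] →+* ℂ[X] :=
  Polynomial.mapRingHom (MvPolynomial.eval z)

lemma continuous_eval_atPt (m : (MvPolynomial σ ℂ)[X]) :
    Continuous fun p : (σ → ℂ) × ℂ => (atPt p.1 m).eval p.2 := by
  simp only [coe_mapRingHom, eval_map, eval₂_eq_sum_range]
  exact continuous_finsetSum _ fun i _ =>
    ((MvPolynomial.continuous_eval _).comp continuous_fst).mul (continuous_snd.pow i)

/-- Near a parameter where all roots are simple, the roots are given by continuous functions. -/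
lemma exists_local_sections [Fintype σ] (m : (MvPolynomial σ ℂ)[X]) (hm : m.Monic) {z₀ : σ → ℂ}
    (hsimple : (atPt z₀ m).roots.Nodup) :
    ∃ (W : Set (σ → ℂ)) (s : ℂ → (σ → ℂ) → ℂ), IsOpen W ∧ z₀ ∈ W ∧
      (∀ r ∈ (atPt z₀ m).roots.toFinset, ContinuousOn (s r) W ∧ s r z₀ = r) ∧
      ∀ z ∈ W, Set.InjOn (fun r => s r z) ↑(atPt z₀ m).roots.toFinset ∧
        (atPt z₀ m).roots.toFinset.image (fun r => s r z) = (atPt z m).roots.toFinset := by
  classical
  set R := (atPt z₀ m).roots.toFinset with hRdef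
  have hdeg : ∀ z : σ → ℂ, (atPt z m).natDegree = m.natDegree := fun z =>
    hm.natDegree_map _
  have hmon : ∀ z : σ → ℂ, (atPt z m).Monic := fun z => hm.map _
  have hR : R.card = m.natDegree := by
    rw [hRdef, Multiset.toFinset_card_of_nodup hsimple, ← hdeg z₀]
    exact (IsAlgClosed.splits _).natDegree_eq_card_roots.symm
  obtain ⟨ε, hε, hsep⟩ : ∃ ε > 0, ∀ a ∈ R, ∀ b ∈ R, a ≠ b → 2 * ε ≤ ‖a - b‖ := by
    rcases (R.offDiag).eq_empty_or_nonempty with h | h
    · refine ⟨1, one_pos, fun a ha b hb hab => absurd ?_ (Finset.notMem_empty (a, b))⟩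
      rw [← h]; exact Finset.mem_offDiag.mpr ⟨ha, hb, hab⟩
    · obtain ⟨⟨a, b⟩, hab, hmin⟩ := R.offDiag.exists_min_image (fun p => ‖p.1 - p.2‖) h
      refine ⟨‖a - b‖ / 2, ?_, fun a' ha' b' hb' hab' => ?_⟩
      · have := (Finset.mem_offDiag.mp hab).2.2
        have : 0 < ‖a - b‖ := norm_pos_iff.mpr (sub_ne_zero.mpr this)
        linarith
      · have := hmin (a', b') (Finset.mem_offDiag.mpr ⟨ha', hb', hab'⟩)
        linarith
  have near : ∀ (z₁ : σ → ℂ) (r : ℂ), (atPt z₁ m).IsRoot r → ∀ δ > 0,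
      ∀ᶠ z in 𝓝 z₁, ∃ c, (atPt z m).IsRoot c ∧ ‖r - c‖ < δ := by
    intro z₁ r hr δ hδ
    rcases Nat.eq_zero_or_pos m.natDegree with hd | hd
    · exfalso
      rw [hm.natDegree_eq_zero.mp hd] at hr
      simp [Polynomial.IsRoot] at hr
    have hc : Continuous fun z : σ → ℂ => ‖(atPt z m).eval r‖ :=
      continuous_norm.comp
        ((continuous_eval_atPt m).comp (continuous_id.prodMk continuous_const))
    have : ∀ᶠ z in 𝓝 z₁, ‖(atPt z m).eval r‖ < δ ^ m.natDegree :=
      hc.continuousAt.eventually_lt continuousAt_const (by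
        simp only [show (atPt z₁ m).eval r = 0 from hr, norm_zero]; positivity)
    filter_upwards [this] with z hz
    obtain ⟨c, hc, hle⟩ := exists_root_near _ (hmon z) (hdeg z ▸ hd) r
    rw [hdeg] at hle
    exact ⟨c, hc, lt_of_pow_lt_pow_left₀ _ hδ.le (lt_of_le_of_lt hle hz)⟩
  have hev : ∀ᶠ z in 𝓝 z₀, ∀ r ∈ R, ∃ c, (atPt z m).IsRoot c ∧ ‖r - c‖ < ε :=
    (eventually_all_finset R).mpr fun r hr =>
      near z₀ r (mem_roots'.mp (Multiset.mem_toFinset.mp hr)).2 ε hε
  obtain ⟨W, hW, hWo, hzW⟩ := eventually_nhds_iff.mp hev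
  let s : ℂ → (σ → ℂ) → ℂ := fun r z =>
    if h : ∃ c, (atPt z m).IsRoot c ∧ ‖r - c‖ < ε then h.choose else 0
  have hs : ∀ z ∈ W, ∀ r ∈ R, (atPt z m).IsRoot (s r z) ∧ ‖r - s r z‖ < ε := by
    intro z hz r hr
    simp only [s, dif_pos (hW z hz r hr)]
    exact (hW z hz r hr).choose_spec
  have hinj : ∀ z ∈ W, Set.InjOn (fun r => s r z) ↑R := by
    intro z hz a ha b hb hab
    simp only at hab
    by_contra hne
    have h1 := (hs z hz a ha).2
    have h2 := (hs z hz b hb).2
    rw [← hab] at h2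
    have := hsep a ha b hb hne
    have h4 : ‖a - b‖ ≤ ‖a - s a z‖ + ‖b - s a z‖ := by
      have : a - b = (a - s a z) - (b - s a z) := by ring
      rw [this]; exact norm_sub_le _ _
    linarith
  have himg : ∀ z ∈ W, R.image (fun r => s r z) = (atPt z m).roots.toFinset := by
    intro z hz
    refine Finset.eq_of_subset_of_card_le ?_ ?_
    · intro c hc
      obtain ⟨r, hr, rfl⟩ := Finset.mem_image.mp hc
      rw [Multiset.mem_toFinset, mem_roots']
      exact ⟨(hmon z).ne_zero, (hs z hz r hr).1⟩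
    · rw [Finset.card_image_of_injOn (hinj z hz), hR, ← hdeg z,
        (IsAlgClosed.splits (atPt z m)).natDegree_eq_card_roots]
      exact Multiset.toFinset_card_le _
  have huniq : ∀ z ∈ W, ∀ r ∈ R, ∀ c, (atPt z m).IsRoot c → ‖r - c‖ < ε → c = s r z := by
    intro z hz r hr c hc hrc
    have : c ∈ R.image (fun r => s r z) := by
      rw [himg z hz, Multiset.mem_toFinset, mem_roots']
      exact ⟨(hmon z).ne_zero, hc⟩
    obtain ⟨r', hr', rfl⟩ := Finset.mem_image.mp this
    by_contra hne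
    have hne' : r ≠ r' := fun e => hne (by rw [e])
    have h2 := (hs z hz r' hr').2
    have := hsep r hr r' hr' hne'
    have h4 : ‖r - r'‖ ≤ ‖r - s r' z‖ + ‖r' - s r' z‖ := by
      have : r - r' = (r - s r' z) - (r' - s r' z) := by ring
      rw [this]; exact norm_sub_le _ _
    linarith
  refine ⟨W, s, hWo, hzW, fun r hr => ⟨?_, ?_⟩, fun z hz => ⟨hinj z hz, himg z hz⟩⟩
  · intro z₁ hz₁
    refine ContinuousAt.continuousWithinAt (Metric.continuousAt_iff'.mpr fun δ hδ => ?_)
    have h1 := (hs z₁ hz₁ r hr)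
    have hgap : 0 < ε - ‖r - s r z₁‖ := by linarith [h1.2]
    filter_upwards [near z₁ _ h1.1 (min δ (ε - ‖r - s r z₁‖)) (lt_min hδ hgap),
      hWo.mem_nhds hz₁] with z ⟨c, hc, hlt⟩ hz
    have hcs : c = s r z := by
      refine huniq z hz r hr c hc ?_
      have h4 : ‖r - c‖ ≤ ‖r - s r z₁‖ + ‖s r z₁ - c‖ := norm_sub_le_norm_sub_add_norm_sub _ _ _
      have := lt_of_lt_of_le hlt (min_le_right _ _)
      linarith
    rw [dist_eq_norm, norm_sub_rev, ← hcs]
    exact lt_of_lt_of_le hlt (min_le_left _ _)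
  · exact (huniq z₀ hzW r hr r (mem_roots'.mp (Multiset.mem_toFinset.mp hr)).2
      (by simpa using hε)).symm

/-- A continuous simple root of a polynomial with differentiable coefficients is differentiable. -/
lemma differentiableAt_root (d : ℕ) (a : ℕ → ℂ → ℂ) (c : ℂ → ℂ) (t₀ : ℂ)
    (ha : ∀ k, DifferentiableAt ℂ (a k) t₀) (hc : ContinuousAt c t₀)
    (hroot : ∀ᶠ t in 𝓝 t₀, ∑ k ∈ Finset.range d, a k t * c t ^ k = 0)
    (hsimple : ∑ k ∈ Finset.range d, a k t₀ * (k * c t₀ ^ (k - 1)) ≠ 0) :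
    DifferentiableAt ℂ c t₀ := by
  let G : ℂ → ℂ := fun t => ∑ k ∈ Finset.range d,
    a k t * ∑ i ∈ Finset.range k, c t ^ i * c t₀ ^ (k - 1 - i)
  let q : ℂ → ℂ := fun t => ∑ k ∈ Finset.range d, a k t * c t₀ ^ k
  have hG : ContinuousAt G t₀ :=
    tendsto_finsetSum _ fun k _ => (ha k).continuousAt.mul
      (tendsto_finsetSum _ fun i _ => ((hc.pow i).mul continuousAt_const))
  have hG0 : G t₀ ≠ 0 := by
    refine ne_of_eq_of_ne (Finset.sum_congr rfl fun k _ => ?_) hsimple
    rw [geom_sum₂_self]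
  have hq : DifferentiableAt ℂ q t₀ :=
    DifferentiableAt.fun_sum fun k _ => (ha k).mul_const _
  have hq0 : q t₀ = 0 := hroot.self_of_nhds
  refine (HasDerivAt.differentiableAt (f' := -deriv q t₀ / G t₀) ?_)
  rw [hasDerivAt_iff_tendsto_slope]
  have lim : Tendsto (fun t => -slope q t₀ t / G t) (𝓝[≠] t₀) (𝓝 (-deriv q t₀ / G t₀)) :=
    (hasDerivAt_iff_tendsto_slope.mp hq.hasDerivAt).neg.div
      (hG.tendsto.mono_left nhdsWithin_le_nhds) hG0
  refine lim.congr' ?_
  filter_upwards [self_mem_nhdsWithin, (hG.eventually_ne hG0).filter_mono nhdsWithin_le_nhds,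
    hroot.filter_mono nhdsWithin_le_nhds] with t (ht : t ≠ t₀) hGt hrt
  have key : G t * (c t - c t₀) = - q t := by
    calc G t * (c t - c t₀)
        = ∑ k ∈ Finset.range d, (a k t * c t ^ k - a k t * c t₀ ^ k) := by
          simp only [G]
          rw [Finset.sum_mul]
          refine Finset.sum_congr rfl fun k _ => ?_
          rw [mul_assoc, geom_sum₂_mul, mul_sub]
      _ = - q t := by rw [Finset.sum_sub_distrib, hrt, zero_sub]
  rw [slope_def_field, slope_def_field, hq0, sub_zero]
  field_simp [sub_ne_zero.mpr ht]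
  linear_combination -key

/-- An entire function of polynomial growth is a polynomial. -/
lemma exists_polynomial_of_growth (N : ℕ) (f : ℂ → ℂ) (hf : Differentiable ℂ f) (K : ℝ)
    (h : ∀ t, ‖f t‖ ≤ K * (1 + ‖t‖) ^ N) :
    ∃ p : ℂ[X], p.natDegree ≤ N ∧ ∀ t, f t = p.eval t := by
  induction N generalizing f K with
  | zero =>
    refine ⟨C (f 0), by simp, fun t => ?_⟩
    rw [eval_C]
    exact hf.apply_eq_apply_of_bounded
      ((isBounded_iff_forall_norm_le).mpr ⟨K, by
        rintro _ ⟨s, rfl⟩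
        simpa using h s⟩) t 0
  | succ N ih =>
    have hd : Differentiable ℂ (dslope f 0) := by
      intro t
      exact ((Complex.differentiableOn_dslope (isOpen_univ.mem_nhds trivial)).mpr
        hf.differentiableOn).differentiableAt (isOpen_univ.mem_nhds trivial)
    obtain ⟨M, hM⟩ := (isCompact_closedBall (0 : ℂ) 1).exists_bound_of_continuousOn
      hd.continuous.continuousOn
    have hK : 0 ≤ K := by simpa using (norm_nonneg _).trans (h 0)
    have bound : ∀ t, ‖dslope f 0 t‖ ≤ (max M (4 * K)) * (1 + ‖t‖) ^ N := by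
      intro t
      have h1 : (1 : ℝ) ≤ (1 + ‖t‖) ^ N := one_le_pow₀ (by linarith [norm_nonneg t])
      rcases le_or_gt ‖t‖ 1 with ht | ht
      · calc ‖dslope f 0 t‖ ≤ M := hM t (by simpa using ht)
          _ ≤ max M (4 * K) * 1 := by rw [mul_one]; exact le_max_left _ _
          _ ≤ _ := mul_le_mul_of_nonneg_left h1 (le_max_of_le_right (by positivity))
      · have ht0 : t ≠ 0 := by rintro rfl; simp at ht; linarith
        rw [dslope_of_ne _ ht0, slope_def_field, sub_zero, norm_div]
        rw [div_le_iff₀ (by linarith)]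
        have h0 : ‖f 0‖ ≤ K := by simpa using h 0
        have h2 := (norm_sub_le (f t) (f 0)).trans (add_le_add (h t) h0)
        rw [pow_succ] at h2
        have h3 : 0 ≤ K * (1 + ‖t‖) ^ N * (‖t‖ - 1) :=
          mul_nonneg (mul_nonneg hK (by linarith)) (by linarith)
        have h4 : K * 1 ≤ K * (1 + ‖t‖) ^ N := mul_le_mul_of_nonneg_left h1 hK
        have h5 : 4 * K * ((1 + ‖t‖) ^ N * ‖t‖) ≤
            max M (4 * K) * ((1 + ‖t‖) ^ N * ‖t‖) :=
          mul_le_mul_of_nonneg_right (le_max_right _ _) (by positivity)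
        nlinarith
    obtain ⟨p, hp, hpt⟩ := ih _ hd _ bound
    refine ⟨X * p + C (f 0), ?_, fun t => ?_⟩
    · rw [natDegree_add_C]
      exact natDegree_mul_le.trans (by simp only [natDegree_X]; omega)
    · rw [eval_add, eval_mul, eval_X, eval_C, ← hpt]
      have e := sub_smul_dslope f 0 t
      rw [smul_eq_mul, sub_zero] at e
      rw [e]; ring

/-- Removable singularities for a bounded function on the complement of a finite set. -/
lemma exists_entire_extension (F : Finset ℂ) (f : ℂ → ℂ)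
    (hf : ∀ t ∉ F, DifferentiableAt ℂ f t) (B : ℂ → ℝ) (hB : Continuous B)
    (hfB : ∀ t ∉ F, ‖f t‖ ≤ B t) :
    ∃ g : ℂ → ℂ, Differentiable ℂ g ∧ (∀ t ∉ F, g t = f t) ∧ ∀ t, ‖g t‖ ≤ B t := by
  classical
  let g : ℂ → ℂ := fun t => if t ∈ F then limUnder (𝓝[≠] t) f else f t
  have hg : ∀ t ∉ F, g t = f t := fun t ht => if_neg ht
  have hopen : IsOpen ((↑F : Set ℂ)ᶜ) := F.finite_toSet.isClosed.isOpen_compl
  have hd : ∀ t, DifferentiableAt ℂ g t := by
    intro t
    by_cases ht : t ∈ F
    · obtain ⟨δ, hδ, hball⟩ := Metric.mem_nhds_iff.mp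
        (show ((↑(F.erase t) : Set ℂ)ᶜ) ∈ 𝓝 t from
          (F.erase t).finite_toSet.isClosed.isOpen_compl.mem_nhds (by simp))
      obtain ⟨M, hM⟩ := (isCompact_closedBall t (δ / 2)).exists_bound_of_continuousOn
        hB.continuousOn
      have hs : Metric.ball t (δ / 2) ∈ 𝓝 t := Metric.ball_mem_nhds _ (by linarith)
      have hF : ∀ u ∈ Metric.ball t (δ / 2) \ {t}, u ∉ F := by
        rintro u ⟨hu, hut : u ≠ t⟩ huF
        refine hball (Metric.ball_subset_ball (by linarith) hu) ?_
        simp [huF, hut]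
      have key := Complex.differentiableOn_update_limUnder_of_bddAbove hs
        (fun u hu => (hf u (hF u hu)).differentiableWithinAt) (by
          refine ⟨M, ?_⟩
          rintro _ ⟨u, hu, rfl⟩
          exact (hfB u (hF u hu)).trans ((le_abs_self _).trans
            (hM u (Metric.ball_subset_closedBall hu.1))))
      have e : Set.EqOn g (Function.update f t (limUnder (𝓝[≠] t) f)) (Metric.ball t (δ / 2)) := by
        intro u hu
        by_cases hut : u = t
        · subst hut; simp [g, ht]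
        · rw [Function.update_of_ne hut]; exact hg u (hF u ⟨hu, hut⟩)
      exact (key.congr e).differentiableAt hs
    · exact (hf t ht).congr_of_eventuallyEq
        (eventuallyEq_of_mem (hopen.mem_nhds (by simpa using ht)) fun u hu => hg u (by simpa using hu))
  refine ⟨g, hd, hg, fun t => ?_⟩
  have hdense : Dense ((↑F : Set ℂ)ᶜ) := F.finite_toSet.countable.dense_compl ℝ
  exact hdense.induction (P := fun t => ‖g t‖ ≤ B t)
    (fun u hu => by rw [hg u (by simpa using hu)]; exact hfB u (by simpa using hu))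
    (isClosed_le (continuous_norm.comp (Differentiable.continuous hd)) hB) t

end

end Groth.Agent.AnLib
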