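import Groth.Agent.AnLib.AlgPts
import Groth.Agent.AnLib.Poly

/-!
Integral maps of finite type `ℂ`-algebras on `ℂ`-points: lifting, properness, openness, density.
-/

set_option autoImplicit false

open Filter Topology

namespace Groth.Agent.AnLib

noncomputable section

variable {A : Type*} [CommRing A] [Algebra ℂ A]

/-- A maximal ideal is the kernel of a point. -/
lemma exists_pt_of_isMaximal [Algebra.FiniteType ℂ A] (Q : Ideal A) [Q.IsMaximal] :
    ∃ φ : A →ₐ[ℂ] ℂ, RingHom.ker φ = Q := by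
  let _ : Field (A ⧸ Q) := Ideal.Quotient.field Q
  have : Algebra.FiniteType ℂ (A ⧸ Q) :=
    Algebra.FiniteType.of_surjective (Ideal.Quotient.mkₐ ℂ Q) (Ideal.Quotient.mkₐ_surjective _ _)
  have := finite_of_finite_type_of_isJacobsonRing ℂ (A ⧸ Q)
  let e := AlgEquiv.ofBijective (Algebra.ofId ℂ (A ⧸ Q))
    (IsAlgClosed.algebraMap_bijective_of_isIntegral (k := ℂ) (K := A ⧸ Q))
  refine ⟨e.symm.toAlgHom.comp (Ideal.Quotient.mkₐ ℂ Q), ?_⟩
  ext x
  rw [RingHom.mem_ker, ← Ideal.Quotient.eq_zero_iff_mem]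
  exact map_eq_zero_iff e.symm e.symm.injective

lemma exists_pt_of_le [Algebra.FiniteType ℂ A] {q : Ideal A} (hq : q ≠ ⊤) :
    ∃ φ : A →ₐ[ℂ] ℂ, q ≤ RingHom.ker φ :=
  let ⟨m, _, hle⟩ := Ideal.exists_le_maximal q hq
  let ⟨φ, hφ⟩ := exists_pt_of_isMaximal m
  ⟨φ, hφ ▸ hle⟩

/-- Lifting a point along an integral map. -/
lemma exists_lift {B : Type*} [CommRing B] [Algebra ℂ B] [Algebra.FiniteType ℂ A] (f : B →ₐ[ℂ] A)
    (hf : f.toRingHom.IsIntegral) (β : B →ₐ[ℂ] ℂ) (hker : RingHom.ker f ≤ RingHom.ker β) :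
    ∃ φ : A →ₐ[ℂ] ℂ, φ.comp f = β := by
  algebraize [f.toRingHom]
  have hβ : Function.Surjective β := fun c => ⟨algebraMap ℂ B c, β.commutes c⟩
  have : (RingHom.ker β).IsMaximal := RingHom.ker_isMaximal_of_surjective β hβ
  obtain ⟨Q, -, hQp, hQ⟩ := Ideal.exists_ideal_over_prime_of_isIntegral (RingHom.ker β)
    (⊥ : Ideal A) (fun x hx => hker hx)
  have hmax : (Q.comap (algebraMap B A)).IsMaximal := by rw [hQ]; infer_instance
  have : Q.IsMaximal := Ideal.isMaximal_of_isIntegral_of_isMaximal_comap Q hmax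
  obtain ⟨φ, hφ⟩ := exists_pt_of_isMaximal Q
  refine ⟨φ, AlgHom.ext fun b => ?_⟩
  have hb : b - algebraMap ℂ B (β b) ∈ RingHom.ker β := by
    rw [RingHom.mem_ker, map_sub, AlgHom.commutes, Algebra.algebraMap_self_apply, sub_self]
  rw [← hQ, Ideal.mem_comap, ← hφ, RingHom.mem_ker] at hb
  change φ (f (b - algebraMap ℂ B (β b))) = 0 at hb
  rw [map_sub, map_sub, f.commutes, φ.commutes, sub_eq_zero] at hb
  exact hb

variable {r : ℕ} (g : MvPolynomial (Fin r) ℂ →ₐ[ℂ] A)

/-- The projection to affine space attached to `g`. -/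
def proj (φ : A →ₐ[ℂ] ℂ) : Fin r → ℂ := fun i => φ (g (MvPolynomial.X i))

lemma continuous_proj : Continuous (proj g) := continuous_pi fun _ => continuous_eval _

lemma apply_g (φ : A →ₐ[ℂ] ℂ) (p : MvPolynomial (Fin r) ℂ) :
    φ (g p) = MvPolynomial.eval (proj g φ) p := by
  have : φ.comp g = MvPolynomial.aeval (proj g φ) := MvPolynomial.algHom_ext fun i => by
    simp [proj]
  rw [← AlgHom.comp_apply, this, MvPolynomial.aeval_eq_eval]

lemma apply_eval₂ (φ : A →ₐ[ℂ] ℂ) (y : A) (p : Polynomial (MvPolynomial (Fin r) ℂ)) :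
    φ (p.eval₂ g.toRingHom y) = (p.map (MvPolynomial.eval (proj g φ))).eval (φ y) := by
  rw [Polynomial.eval_map]
  change φ.toRingHom (p.eval₂ g.toRingHom y) = _
  rw [Polynomial.hom_eval₂]
  congr 1
  exact RingHom.ext fun q => apply_g g φ q

lemma continuous_eval_family (m : Polynomial (MvPolynomial (Fin r) ℂ)) (i : ℕ) :
    Continuous fun z : Fin r → ℂ => MvPolynomial.eval z (m.coeff i) :=
  MvPolynomial.continuous_eval _

/-- A finite map to affine space is proper on points. -/
lemma isProperMap_proj [Algebra.FiniteType ℂ A] (hg : g.toRingHom.IsIntegral) :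
    IsProperMap (proj g) := by
  classical
  refine isProperMap_iff_isCompact_preimage.mpr ⟨continuous_proj g, fun K hK => ?_⟩
  obtain ⟨n, s, hs⟩ := exists_gens (A := A)
  have hbound : ∀ j, ∃ B : ℝ, ∀ φ ∈ proj g ⁻¹' K, ‖φ (s j)‖ ≤ B := by
    intro j
    obtain ⟨m, hm, hroot⟩ := hg (s j)
    obtain ⟨B, hB⟩ := hK.exists_bound_of_continuousOn
      (f := fun z => 1 + ∑ i ∈ Finset.range m.natDegree, ‖MvPolynomial.eval z (m.coeff i)‖)
      (continuous_const.add
        (continuous_finsetSum _ fun i _ => (continuous_eval_family m i).norm)).continuousOn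
    refine ⟨B, fun φ hφ => le_trans ?_ ((le_abs_self _).trans (hB _ hφ))⟩
    have h0 := congr(φ $hroot)
    rw [map_zero, apply_eval₂] at h0
    have hd := hm.natDegree_map (MvPolynomial.eval (proj g φ))
    have := norm_root_le _ (hm.map (MvPolynomial.eval (proj g φ))) (c := φ (s j)) h0
    rwa [hd, Finset.sum_congr rfl fun i _ => by rw [Polynomial.coeff_map]] at this
  choose B hB using hbound
  have hC : IsCompact (Set.univ.pi fun j => Metric.closedBall (0 : ℂ) (B j)) :=
    isCompact_univ_pi fun j => isCompact_closedBall _ _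
  exact IsCompact.of_isClosed_subset ((isClosedEmbedding_gens s hs).isCompact_preimage hC)
    (hK.isClosed.preimage (continuous_proj g)) fun φ hφ j _ => by simpa using hB j φ hφ

/-- The fibres of a finite map to affine space are finite. -/
lemma finite_fibre [Algebra.FiniteType ℂ A] (hg : g.toRingHom.IsIntegral) (z : Fin r → ℂ) :
    {φ : A →ₐ[ℂ] ℂ | proj g φ = z}.Finite := by
  obtain ⟨n, s, hs⟩ := exists_gens (A := A)
  choose m hm hroot using fun j => hg (s j)
  have hfin : (Set.univ.pi fun j => {c : ℂ | ((m j).map (MvPolynomial.eval z)).IsRoot c}).Finite :=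
    Set.Finite.pi fun j => Polynomial.finite_setOfPred_isRoot ((hm j).map _).ne_zero
  refine (hfin.preimage ((isClosedEmbedding_gens s hs).injective.injOn)).subset fun φ hφ j _ => ?_
  have h0 := congr(φ $(hroot j))
  rw [map_zero, apply_eval₂, hφ] at h0
  exact h0

/-- A finite injective map of a domain to affine space is open on points. -/
lemma isOpenMap_proj [IsDomain A] [Algebra.FiniteType ℂ A] (hinj : Function.Injective g)
    (hg : g.toRingHom.IsIntegral) : IsOpenMap (proj g) := by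
  classical
  refine IsOpenMap.of_nhds_le fun φ => ?_
  intro S hS
  rw [mem_map] at hS
  obtain ⟨N, hNS, hN, hφN⟩ := mem_nhds_iff.mp hS
  -- an element vanishing at φ only, among the points of its fibre
  have hfin := finite_fibre g hg (proj g φ)
  have hsep : ∀ ψ : A →ₐ[ℂ] ℂ, ψ ≠ φ → ∃ a, φ a = 0 ∧ ψ a = 1 := by
    intro ψ hne
    obtain ⟨a, ha⟩ : ∃ a, ψ a ≠ φ a := by
      by_contra hcon
      push Not at hcon
      exact hne (AlgHom.ext hcon)
    refine ⟨algebraMap ℂ A (ψ a - φ a)⁻¹ * (a - algebraMap ℂ A (φ a)), ?_, ?_⟩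
    · simp
    · simp [inv_mul_cancel₀ (sub_ne_zero.mpr ha)]
  choose e he0 he1 using hsep
  let y : A := 1 - ∏ ψ ∈ (hfin.toFinset.erase φ).attach, (1 - e ψ.1 (Finset.ne_of_mem_erase ψ.2))
  have hy0 : φ y = 0 := by simp [y, map_prod, he0]
  have hy1 : ∀ ψ, proj g ψ = proj g φ → ψ ≠ φ → ψ y = 1 := by
    intro ψ hψ hne
    have hmem : ψ ∈ hfin.toFinset.erase φ := Finset.mem_erase.mpr ⟨hne, hfin.mem_toFinset.mpr hψ⟩
    simp only [y, map_sub, map_one, map_prod]
    rw [Finset.prod_eq_zero (Finset.mem_attach _ ⟨ψ, hmem⟩), sub_zero]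
    rw [he1, sub_self]
  let π₂ : (A →ₐ[ℂ] ℂ) → (Fin r → ℂ) × ℂ := fun ψ => (proj g ψ, ψ y)
  have hπ₂c : Continuous π₂ := (continuous_proj g).prodMk (continuous_eval y)
  have hπ₂ : IsProperMap π₂ := by
    refine isProperMap_iff_isCompact_preimage.mpr ⟨hπ₂c, fun K hK => ?_⟩
    exact IsCompact.of_isClosed_subset
      ((isProperMap_proj g hg).isCompact_preimage (hK.image continuous_fst))
      (hK.isClosed.preimage hπ₂c) fun ψ hψ => ⟨_, hψ, rfl⟩
  have hclosed : IsClosed (π₂ '' Nᶜ) := hπ₂.isClosedMap _ hN.isClosed_compl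
  have hout : (proj g φ, (0 : ℂ)) ∉ π₂ '' Nᶜ := by
    rintro ⟨ψ, hψN, hψ⟩
    rw [Prod.ext_iff] at hψ
    by_cases hne : ψ = φ
    · exact hψN (hne ▸ hφN)
    · have := hy1 ψ hψ.1 hne
      rw [show ψ y = 0 from hψ.2] at this
      exact zero_ne_one this
  obtain ⟨U, hU, V, hV, hUV⟩ := mem_nhds_prod_iff.mp (hclosed.isOpen_compl.mem_nhds hout)
  obtain ⟨ε, hε, hεV⟩ := Metric.mem_nhds_iff.mp hV
  -- the minimal polynomial of y
  algebraize [g.toRingHom]
  have : IsScalarTower ℂ (MvPolynomial (Fin r) ℂ) A := .of_algebraMap_eq fun c => (g.commutes c).symm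
  have : Module.IsTorsionFree (MvPolynomial (Fin r) ℂ) A :=
    Module.isTorsionFree_iff_algebraMap_injective.mpr hinj
  have hy : IsIntegral (MvPolynomial (Fin r) ℂ) y := Algebra.IsIntegral.isIntegral y
  set m := minpoly (MvPolynomial (Fin r) ℂ) y with hmdef
  have hd : ∀ z, (m.map (MvPolynomial.eval z)).natDegree = m.natDegree := fun z =>
    (minpoly.monic hy).natDegree_map _
  have hroot : (m.map (MvPolynomial.eval (proj g φ))).eval 0 = 0 := by
    have h := apply_eval₂ g φ y m
    rw [hy0] at h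
    rw [← h]
    change φ (Polynomial.aeval y m) = 0
    rw [minpoly.aeval, map_zero]
  have hdpos : 0 < m.natDegree := minpoly.natDegree_pos hy
  have hcont : Continuous fun z : Fin r → ℂ => ‖(m.map (MvPolynomial.eval z)).eval 0‖ := by
    simp only [← Polynomial.coeff_zero_eq_eval_zero, Polynomial.coeff_map]
    exact (continuous_eval_family m 0).norm
  have hev : ∀ᶠ z in 𝓝 (proj g φ), ‖(m.map (MvPolynomial.eval z)).eval 0‖ < ε ^ m.natDegree :=
    hcont.continuousAt.eventually_lt continuousAt_const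
      (by simp only [hroot, norm_zero]; positivity)
  filter_upwards [hev, hU] with z hz hzU
  -- a small root
  obtain ⟨c, hc, hle⟩ : ∃ c, (m.map (MvPolynomial.eval z)).IsRoot c ∧ ‖c‖ < ε := by
    set p := m.map (MvPolynomial.eval z)
    have hp : p.Monic := (minpoly.monic hy).map _
    have hs : p.Splits := IsAlgClosed.splits p
    have hcard : p.roots.card = m.natDegree := by rw [← hd z]; exact hs.natDegree_eq_card_roots.symm
    by_contra hcon
    push Not at hcon
    have h1 : ε ^ m.natDegree ≤ ‖p.eval 0‖ := by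
      rw [hs.eval_eq_prod_roots, hp.leadingCoeff, one_mul, ← hcard]
      have key : ∀ s : Multiset ℂ, (∀ a ∈ s, ε ≤ ‖a‖) →
          ε ^ s.card ≤ ‖(s.map fun a => 0 - a).prod‖ := by
        intro s
        induction s using Multiset.induction_on with
        | empty => simp
        | cons a s ih =>
          intro h
          rw [Multiset.card_cons, Multiset.map_cons, Multiset.prod_cons, norm_mul, pow_succ',
            zero_sub, norm_neg]
          exact mul_le_mul (h a (Multiset.mem_cons_self a s))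
            (ih fun b hb => h b (Multiset.mem_cons_of_mem hb)) (by positivity) (by positivity)
      exact key _ fun a ha => hcon a (Polynomial.mem_roots'.mp ha).2
    linarith
  let f : Polynomial (MvPolynomial (Fin r) ℂ) →ₐ[ℂ] A :=
    (Polynomial.aeval (R := MvPolynomial (Fin r) ℂ) y).restrictScalars ℂ
  let β : Polynomial (MvPolynomial (Fin r) ℂ) →ₐ[ℂ] ℂ :=
    { (Polynomial.evalRingHom c).comp (Polynomial.mapRingHom (MvPolynomial.eval z)) with
      commutes' := fun a => by simp }
  obtain ⟨ψ, hψ⟩ := exists_lift f (by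
      intro a
      have ha : IsIntegral (MvPolynomial (Fin r) ℂ) a := Algebra.IsIntegral.isIntegral a
      obtain ⟨p, hp, hpa⟩ := ha
      refine ⟨p.map Polynomial.C, hp.map _, ?_⟩
      have e : f.toRingHom.comp Polynomial.C = algebraMap (MvPolynomial (Fin r) ℂ) A :=
        RingHom.ext fun q => Polynomial.aeval_C y q
      rw [Polynomial.eval₂_map]
      change p.eval₂ (f.toRingHom.comp Polynomial.C) a = 0
      rw [e]; exact hpa) β (fun p hp => by
      obtain ⟨q, rfl⟩ := minpoly.isIntegrallyClosed_dvd hy (show Polynomial.aeval y p = 0 from hp)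
      change (Polynomial.evalRingHom c) ((m * q).map (MvPolynomial.eval z)) = 0
      rw [Polynomial.map_mul, map_mul]
      change (m.map (MvPolynomial.eval z)).eval c * _ = 0
      rw [show (m.map (MvPolynomial.eval z)).eval c = 0 from hc, zero_mul])
  have h1 : proj g ψ = z := funext fun i => by
    have := congr($hψ (Polynomial.C (MvPolynomial.X i)))
    change ψ (algebraMap (MvPolynomial (Fin r) ℂ) A (MvPolynomial.X i)) = z i
    simpa [f, β] using this
  have h2 : ψ y = c := by
    have := congr($hψ Polynomial.X)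
    simpa [f, β] using this
  have hψN : ψ ∈ N := by
    by_contra hψN
    exact hUV (Set.mk_mem_prod (h1.symm ▸ hzU : proj g ψ ∈ U) (hεV (by simpa [h2] using hle)))
      ⟨ψ, hψN, rfl⟩
  have := hNS hψN
  rwa [Set.mem_preimage, h1] at this

/-- The nonvanishing locus of a nonzero polynomial is dense. -/
lemma dense_eval_ne_zero {σ : Type*} [Fintype σ] {p : MvPolynomial σ ℂ} (hp : p ≠ 0) :
    Dense {z : σ → ℂ | MvPolynomial.eval z p ≠ 0} := by
  rw [dense_iff_inter_open]
  rintro U hU ⟨z, hz⟩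
  by_contra hempty
  obtain ⟨ε, hε, hball⟩ := Metric.isOpen_iff.mp hU z hz
  refine hp (MvPolynomial.funext_set (fun i => Metric.ball (z i) ε) (fun i => ?_) fun x hx => ?_)
  · exact Metric.ball_infinite hε
  · rw [map_zero]
    by_contra hne
    refine hempty ⟨x, hball ?_, hne⟩
    rw [ball_pi z hε]
    exact fun i _ => hx i trivial
where
  Metric.ball_infinite {x : ℂ} {ε : ℝ} (hε : 0 < ε) : (Metric.ball x ε).Infinite :=
    infinite_of_mem_nhds x (Metric.ball_mem_nhds x hε)

/-- Density of the nonvanishing locus in a domain. -/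
lemma dense_ne_zero [IsDomain A] [Algebra.FiniteType ℂ A] {h : A} (hh : h ≠ 0) :
    Dense {φ : A →ₐ[ℂ] ℂ | φ h ≠ 0} := by
  obtain ⟨r, g, hinj, hfin⟩ := exists_finite_inj_algHom_of_fg ℂ A
  have hint : g.toRingHom.IsIntegral := hfin.to_isIntegral
  obtain ⟨n₀, hn₀, q, hq⟩ : ∃ n₀ : MvPolynomial (Fin r) ℂ, n₀ ≠ 0 ∧ ∃ q, g n₀ = h * q := by
    algebraize [g.toRingHom]
    have : IsScalarTower ℂ (MvPolynomial (Fin r) ℂ) A :=
      .of_algebraMap_eq fun c => (g.commutes c).symm
    have : Module.IsTorsionFree (MvPolynomial (Fin r) ℂ) A :=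
      Module.isTorsionFree_iff_algebraMap_injective.mpr hinj
    have hi : IsIntegral (MvPolynomial (Fin r) ℂ) h := Algebra.IsIntegral.isIntegral h
    have h0 : (minpoly (MvPolynomial (Fin r) ℂ) h).coeff 0 ≠ 0 := by
      intro h0
      set m := minpoly (MvPolynomial (Fin r) ℂ) h with hm
      have e : Polynomial.X * m.divX = m := by
        have := Polynomial.X_mul_divX_add m
        rwa [h0, map_zero, add_zero] at this
      have hmon : m.divX.Monic := by
        have := minpoly.monic hi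
        rw [← hm, ← e] at this
        exact Polynomial.monic_X.of_mul_monic_left this
      have hroot : Polynomial.aeval h m.divX = 0 := by
        have := minpoly.aeval (MvPolynomial (Fin r) ℂ) h
        rw [← hm, ← e, map_mul, Polynomial.aeval_X] at this
        exact (mul_eq_zero.mp this).resolve_left hh
      have h2 := minpoly.min (MvPolynomial (Fin r) ℂ) h hmon hroot
      rw [← hm] at h2
      have h3 : m.divX.degree < m.degree := Polynomial.degree_divX_lt (minpoly.ne_zero hi)
      exact absurd h2 (not_le.mpr h3)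
    refine ⟨(minpoly (MvPolynomial (Fin r) ℂ) h).coeff 0, h0,
      -(Polynomial.aeval h (minpoly (MvPolynomial (Fin r) ℂ) h).divX), ?_⟩
    have e := congr(Polynomial.aeval h $(Polynomial.X_mul_divX_add (minpoly (MvPolynomial (Fin r) ℂ) h)))
    rw [map_add, map_mul, Polynomial.aeval_X, Polynomial.aeval_C, minpoly.aeval] at e
    rw [mul_neg, ← eq_neg_of_add_eq_zero_right e]
    rfl
  refine dense_iff_inter_open.mpr fun U hU hne => ?_
  obtain ⟨z, hzU, hz⟩ := dense_iff_inter_open.mp (dense_eval_ne_zero hn₀) _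
    (isOpenMap_proj g hinj hint U hU) (hne.image _)
  obtain ⟨ψ, hψ, rfl⟩ := hzU
  refine ⟨ψ, hψ, fun h0 => hz ?_⟩
  rw [← apply_g g ψ n₀, hq, map_mul, h0, zero_mul]

/-- Density in a closed irreducible subset. -/
lemma mem_closure_ne_zero [Algebra.FiniteType ℂ A] (q : Ideal A) [q.IsPrime] {h : A} (hh : h ∉ q)
    (φ : A →ₐ[ℂ] ℂ) (hφ : q ≤ RingHom.ker φ) :
    φ ∈ closure {ψ : A →ₐ[ℂ] ℂ | q ≤ RingHom.ker ψ ∧ ψ h ≠ 0} := by
  let B := A ⧸ q
  let mk : A →ₐ[ℂ] B := Ideal.Quotient.mkₐ ℂ q
  have : Algebra.FiniteType ℂ B :=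
    Algebra.FiniteType.of_surjective mk (Ideal.Quotient.mkₐ_surjective _ _)
  have hh' : mk h ≠ 0 := fun e => hh (Ideal.Quotient.eq_zero_iff_mem.mp e)
  let φ' : B →ₐ[ℂ] ℂ := Ideal.Quotient.liftₐ q φ fun a ha => hφ ha
  have hφ' : φ'.comp mk = φ := AlgHom.ext fun a => rfl
  rw [← hφ']
  refine map_mem_closure (f := fun ψ : B →ₐ[ℂ] ℂ => ψ.comp mk) (continuous_comp mk)
    (dense_ne_zero hh' φ') fun ψ hψ => ⟨fun a ha => ?_, hψ⟩
  rw [RingHom.mem_ker, AlgHom.comp_apply,
    show mk a = 0 from Ideal.Quotient.eq_zero_iff_mem.mpr ha, map_zero]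

end

end Groth.Agent.AnLib
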