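import Groth.Agent.AnLib.Maps
import Mathlib.AlgebraicGeometry.ValuativeCriterion
import Mathlib.Order.Filter.FilterProduct

/-!
Universally closed morphisms induce proper maps on `ℂ`-points, by the valuative criterion for the
valuation ring of bounded germs along an ultrafilter.
-/

set_option autoImplicit false
set_option backward.isDefEq.respectTransparency false

open CategoryTheory AlgebraicGeometry TopologicalSpace Topology Filter

namespace Groth.Agent.AnLib

noncomputable section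

variable {α : Type} (𝒰 : Ultrafilter α)

/-- The field of germs of complex functions along an ultrafilter. -/
abbrev HypC : Type := Filter.Germ (↑𝒰 : Filter α) ℂ

/-- The bounded germs, i.e. those having a limit. -/
def bdd : ValuationSubring (HypC 𝒰) where
  carrier := {k | ∃ c : ℂ, k.Tendsto (𝓝 c)}
  mul_mem' := by
    intro a b
    refine Filter.Germ.inductionOn₂ a b ?_
    rintro f g ⟨c, hc⟩ ⟨d, hd⟩
    exact ⟨c * d, (Filter.Germ.coe_tendsto.mp hc).mul (Filter.Germ.coe_tendsto.mp hd)⟩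
  one_mem' := ⟨1, tendsto_const_nhds⟩
  add_mem' := by
    intro a b
    refine Filter.Germ.inductionOn₂ a b ?_
    rintro f g ⟨c, hc⟩ ⟨d, hd⟩
    exact ⟨c + d, (Filter.Germ.coe_tendsto.mp hc).add (Filter.Germ.coe_tendsto.mp hd)⟩
  zero_mem' := ⟨0, tendsto_const_nhds⟩
  neg_mem' := by
    intro a
    refine Filter.Germ.inductionOn a ?_
    rintro f ⟨c, hc⟩
    exact ⟨-c, (Filter.Germ.coe_tendsto.mp hc).neg⟩
  mem_or_inv_mem' := by
    intro a
    refine Filter.Germ.inductionOn a fun f => ?_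
    have small : ∀ g : α → ℂ, (∀ᶠ x in (↑𝒰 : Filter α), ‖g x‖ ≤ 1) →
        ∃ c : ℂ, Tendsto g ↑𝒰 (𝓝 c) := by
      intro g hg
      have hmem : (↑(𝒰.map g) : Filter ℂ) ≤ 𝓟 (Metric.closedBall 0 1) :=
        le_principal_iff.mpr (by
          change ∀ᶠ x in (↑𝒰 : Filter α), g x ∈ Metric.closedBall (0 : ℂ) 1
          simpa using hg)
      obtain ⟨c, -, hc⟩ := (isCompact_closedBall (0 : ℂ) 1).ultrafilter_le_nhds (𝒰.map g) hmem
      exact ⟨c, hc⟩
    rcases 𝒰.em fun x => ‖f x‖ ≤ 1 with h | h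
    · exact Or.inl (small f h)
    · refine Or.inr (small (fun x => (f x)⁻¹) (h.mono fun x hx => ?_))
      rw [norm_inv]
      exact inv_le_one_of_one_le₀ (not_le.mp hx).le

lemma mem_bdd {f : α → ℂ} : (↑f : HypC 𝒰) ∈ bdd 𝒰 ↔ ∃ c : ℂ, Tendsto f ↑𝒰 (𝓝 c) := Iff.rfl

/-- The standard part. -/
def st : bdd 𝒰 →+* ℂ :=
  have hex : ∀ k : bdd 𝒰, ∃ c : ℂ, k.1.Tendsto (𝓝 c) := fun k => k.2
  have huniq : ∀ (k : HypC 𝒰) (c d : ℂ), k.Tendsto (𝓝 c) → k.Tendsto (𝓝 d) → c = d := fun k =>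
    Filter.Germ.inductionOn k fun _ _ _ h h' => tendsto_nhds_unique (Filter.Germ.coe_tendsto.mp h)
      (Filter.Germ.coe_tendsto.mp h')
  { toFun := fun k => (hex k).choose
    map_one' := huniq _ _ _ (hex 1).choose_spec tendsto_const_nhds
    map_zero' := huniq _ _ _ (hex 0).choose_spec tendsto_const_nhds
    map_mul' := fun a b => by
      obtain ⟨a, ha⟩ := a
      obtain ⟨b, hb⟩ := b
      revert ha hb
      refine Filter.Germ.inductionOn₂ a b fun f g ha hb => ?_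
      refine huniq _ _ _ (hex _).choose_spec ?_
      exact (Filter.Germ.coe_tendsto.mp (hex ⟨_, ha⟩).choose_spec).mul
        (Filter.Germ.coe_tendsto.mp (hex ⟨_, hb⟩).choose_spec)
    map_add' := fun a b => by
      obtain ⟨a, ha⟩ := a
      obtain ⟨b, hb⟩ := b
      revert ha hb
      refine Filter.Germ.inductionOn₂ a b fun f g ha hb => ?_
      refine huniq _ _ _ (hex _).choose_spec ?_
      exact (Filter.Germ.coe_tendsto.mp (hex ⟨_, ha⟩).choose_spec).add
        (Filter.Germ.coe_tendsto.mp (hex ⟨_, hb⟩).choose_spec) }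

lemma tendsto_st {f : α → ℂ} (h : (↑f : HypC 𝒰) ∈ bdd 𝒰) :
    Tendsto f ↑𝒰 (𝓝 (st 𝒰 ⟨_, h⟩)) :=
  Filter.Germ.coe_tendsto.mp
    ((show ∃ c : ℂ, (↑f : HypC 𝒰).Tendsto (𝓝 c) from h).choose_spec)

open Classical in
/-- Junk-extended evaluation. -/
def evD {Z : Scheme.{0}} [Z.Over An.SC] (z : An.Pts Z) (W : Z.Opens) (a : Γ(Z, W)) : ℂ :=
  if h : z.pt ∈ W then toHom z W h a else 0

variable {Z : Scheme.{0}} [Z.Over An.SC]

lemma evD_of_mem {z : An.Pts Z} {W : Z.Opens} (h : z.pt ∈ W) (a : Γ(Z, W)) :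
    evD z W a = toHom z W h a := dif_pos h

/-- The tautological germ valued point of a family. -/
def germHom (F : α → An.Pts Z) (W : Z.Opens) (h : ∀ᶠ a in (↑𝒰 : Filter α), (F a).pt ∈ W) :
    Γ(Z, W) →+* HypC 𝒰 where
  toFun g := ↑(fun a => evD (F a) W g)
  map_one' := Filter.Germ.coe_eq.mpr (h.mono fun a ha => by simp [evD_of_mem ha])
  map_zero' := Filter.Germ.coe_eq.mpr (h.mono fun a ha => by simp [evD_of_mem ha])
  map_mul' g g' := Filter.Germ.coe_eq.mpr (h.mono fun a ha => by simp [evD_of_mem ha])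
  map_add' g g' := Filter.Germ.coe_eq.mpr (h.mono fun a ha => by simp [evD_of_mem ha])

lemma germHom_res (F : α → An.Pts Z) {W W' : Z.Opens} (hle : W' ≤ W)
    (h : ∀ᶠ a in (↑𝒰 : Filter α), (F a).pt ∈ W') :
    (germHom 𝒰 F W' h).comp (Z.presheaf.map (homOfLE hle).op).hom =
      germHom 𝒰 F W (h.mono fun _ ha => hle ha) :=
  RingHom.ext fun g => Filter.Germ.coe_eq.mpr (h.mono fun a ha => by
    simp only [evD_of_mem ha, evD_of_mem (hle ha), toHom_apply]
    exact ev_res (F a) hle ha g)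

/-- The point over the germ field. -/
def germPt (F : α → An.Pts Z) {W : Z.Opens} (hW : IsAffineOpen W)
    (h : ∀ᶠ a in (↑𝒰 : Filter α), (F a).pt ∈ W) : Spec (CommRingCat.of (HypC 𝒰)) ⟶ Z :=
  Spec.map (CommRingCat.ofHom (germHom 𝒰 F W h)) ≫ hW.fromSpec

lemma germPt_res (F : α → An.Pts Z) {W W' : Z.Opens} (hW : IsAffineOpen W) (hW' : IsAffineOpen W')
    (hle : W' ≤ W) (h : ∀ᶠ a in (↑𝒰 : Filter α), (F a).pt ∈ W') :
    germPt 𝒰 F hW' h = germPt 𝒰 F hW (h.mono fun _ ha => hle ha) := by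
  rw [germPt, germPt, ← germHom_res 𝒰 F hle h, CommRingCat.ofHom_comp, CommRingCat.ofHom_hom,
    Spec.map_comp, Category.assoc, IsAffineOpen.map_fromSpec]

variable {X Y : Scheme.{0}} [X.Over An.SC] [Y.Over An.SC]

/-- A universally closed morphism is proper on `ℂ`-points. -/
theorem isProperMap_map (f : X ⟶ Y) [f.IsOver An.SC] [UniversallyClosed f] :
    IsProperMap (An.Pts.map f) := by
  classical
  refine isProperMap_iff_ultrafilter.mpr ⟨An.Pts.continuous_map f, fun 𝒰 y hy => ?_⟩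
  obtain ⟨V, hV, hyV, -⟩ := Opens.isBasis_iff_nbhd.mp Y.isBasis_affineOpens
    (show y.pt ∈ (⊤ : Y.Opens) from trivial)
  let V' : Y.Opens := V
  have hV' : IsAffineOpen V' := hV
  have hevV : ∀ᶠ x in (↑𝒰 : Filter (An.Pts X)), (An.Pts.map f x).pt ∈ V' :=
    hy.eventually ((An.Pts.isOpen_preimage_pt V').mem_nhds hyV)
  -- an affine open containing almost all points
  obtain ⟨U, hUle, hU, hevU⟩ : ∃ U : X.Opens, U ≤ f ⁻¹ᵁ V' ∧ IsAffineOpen U ∧
      ∀ᶠ x in (↑𝒰 : Filter (An.Pts X)), x.pt ∈ U := by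
    have hqc : IsCompact (f ⁻¹ᵁ V' : Set X) :=
      QuasiCompact.isCompact_preimage _ V'.2 hV'.isCompact
    obtain ⟨t, ht⟩ := hqc.elim_finite_subcover
      (fun i : {U : X.Opens // IsAffineOpen U ∧ U ≤ f ⁻¹ᵁ V'} => (i.1 : Set X))
      (fun i => i.1.2) (by
        intro p hp
        obtain ⟨U, hU, hpU, hle⟩ := Opens.isBasis_iff_nbhd.mp X.isBasis_affineOpens
          (show p ∈ f ⁻¹ᵁ V' from hp)
        exact Set.mem_iUnion.mpr ⟨⟨U, hU, hle⟩, hpU⟩)
    have : (⋃ i ∈ t, {x : An.Pts X | x.pt ∈ i.1}) ∈ 𝒰 := by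
      filter_upwards [hevV] with x hx
      rw [An.Pts.pt_map] at hx
      obtain ⟨i, hi, hxi⟩ := Set.mem_iUnion₂.mp (ht hx)
      exact Set.mem_iUnion₂.mpr ⟨i, hi, hxi⟩
    obtain ⟨i, -, hi⟩ := (Ultrafilter.finite_biUnion_mem_iff t.finite_toSet).mp this
    exact ⟨i.1, i.2.2, i.2.1, hi⟩
  have hmem : ∀ a, germHom 𝒰 (An.Pts.map f) V' hevV a ∈ bdd 𝒰 := by
    intro a
    refine (mem_bdd 𝒰).mpr ⟨toHom y V' hyV a, ?_⟩
    refine Tendsto.comp (g := fun z => evD z V' a) ?_ hy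
    have hc : ContinuousOn (fun z => evD z V' a) {z : An.Pts Y | z.pt ∈ V'} := by
      rw [continuousOn_iff_continuous_domRestrict]
      refine ((continuous_eval a).comp (continuous_toHom V')).congr fun z => ?_
      exact (evD_of_mem z.2 a).symm
    have := (hc.continuousAt ((An.Pts.isOpen_preimage_pt V').mem_nhds hyV)).tendsto
    rwa [evD_of_mem hyV] at this
  let ψ : Γ(Y, V') →+* bdd 𝒰 :=
    (germHom 𝒰 (An.Pts.map f) V' hevV).codRestrict (bdd 𝒰).toSubring hmem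
  have hψ : (st 𝒰).comp ψ = (toHom y V' hyV).toRingHom := by
    refine RingHom.ext fun a => tendsto_nhds_unique (tendsto_st 𝒰 (hmem a)) ?_
    refine Tendsto.comp (g := fun z => evD z V' a) ?_ hy
    have hc : ContinuousOn (fun z => evD z V' a) {z : An.Pts Y | z.pt ∈ V'} := by
      rw [continuousOn_iff_continuous_domRestrict]
      refine ((continuous_eval a).comp (continuous_toHom V')).congr fun z => ?_
      exact (evD_of_mem z.2 a).symm
    have := (hc.continuousAt ((An.Pts.isOpen_preimage_pt V').mem_nhds hyV)).tendsto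
    rwa [evD_of_mem hyV] at this
  have hpull : (germHom 𝒰 id U hevU).comp (f.appLE V' U hUle).hom =
      germHom 𝒰 (An.Pts.map f) V' hevV :=
    RingHom.ext fun a => Filter.Germ.coe_eq.mpr (hevU.mono fun x hx => by
      have h' : (An.Pts.map f x).pt ∈ V' := by rw [An.Pts.pt_map]; exact hUle hx
      simp only [evD_of_mem (z := id x) hx, evD_of_mem h']
      rw [toHom_map f x hUle hx h']
      rfl)
  let S : ValuativeCommSq f :=
    { R := bdd 𝒰
      K := HypC 𝒰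
      i₁ := germPt 𝒰 id hU hevU
      i₂ := Spec.map (CommRingCat.ofHom ψ) ≫ hV'.fromSpec
      commSq := ⟨by
        rw [germPt, Category.assoc, ← IsAffineOpen.SpecMap_appLE_fromSpec f hV' hU hUle,
          ← Spec.map_comp_assoc, ← Spec.map_comp_assoc]
        congr 2
        exact CommRingCat.hom_ext hpull⟩ }
  have hE : ValuativeCriterion.Existence f := by
    have h : UniversallyClosed f := inferInstance
    rw [UniversallyClosed.eq_valuativeCriterion] at h
    exact h.1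
  obtain ⟨l, hl₁, hl₂⟩ := (hE S).exists_lift
  let xC : An.SC ⟶ X := Spec.map (CommRingCat.ofHom (st 𝒰)) ≫ l
  have hxy : xC ≫ f = y.1 := by
    rw [Category.assoc, show l ≫ f = Spec.map (CommRingCat.ofHom ψ) ≫ hV'.fromSpec from hl₂,
      ← Spec.map_comp_assoc, ← CommRingCat.ofHom_comp, hψ, ← pts_eq_toHom y hV' hyV]
  let x : An.Pts X := ⟨xC, by
    rw [← comp_over f, ← Category.assoc, hxy]; exact y.2⟩
  refine ⟨x, Subtype.ext hxy, ?_⟩
  rw [← tendsto_id']
  refine tendsto_nhds_generateFrom_iff.mpr ?_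
  rintro _ ⟨W, g, Sv, hSv, rfl⟩ ⟨hxW, hxS⟩
  obtain ⟨U₁, hU₁, hxU₁, hU₁W⟩ := Opens.isBasis_iff_nbhd.mp X.isBasis_affineOpens hxW
  let U' : X.Opens := U₁
  have hU' : IsAffineOpen U' := hU₁
  -- the lift factors through U'
  let cl : Spec (CommRingCat.of (bdd 𝒰)) := Spec.map (CommRingCat.ofHom (st 𝒰)) An.cpt
  have hrange : Set.range l ⊆ Set.range hU'.fromSpec := by
    rw [hU'.range_fromSpec]
    rintro _ ⟨p, rfl⟩
    have hcl : cl = IsLocalRing.closedPoint (bdd 𝒰) := by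
      refine PrimeSpectrum.ext ?_
      have hsurj : Function.Surjective (st 𝒰) := fun c =>
        ⟨⟨↑(fun _ : An.Pts X => c), (mem_bdd 𝒰).mpr ⟨c, tendsto_const_nhds⟩⟩,
          tendsto_nhds_unique (tendsto_st 𝒰 _) tendsto_const_nhds⟩
      change Ideal.comap (st 𝒰) (An.cpt : PrimeSpectrum ℂ).asIdeal = IsLocalRing.maximalIdeal _
      rw [show (An.cpt : PrimeSpectrum ℂ).asIdeal = ⊥ from
        Ideal.eq_bot_of_prime (An.cpt : PrimeSpectrum ℂ).asIdeal]
      have := RingHom.ker_isMaximal_of_surjective (st 𝒰) hsurj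
      exact IsLocalRing.eq_maximalIdeal this
    have hspec : p ⤳ cl := hcl ▸ IsLocalRing.specializes_closedPoint p
    have hclU : l cl ∈ U' := by
      change x.pt ∈ U' at hxU₁
      rwa [An.Pts.pt, show x.1 = Spec.map (CommRingCat.ofHom (st 𝒰)) ≫ l from rfl,
        Scheme.Hom.comp_apply] at hxU₁
    exact (hspec.map l.continuous).mem_open U'.2 hclU
  obtain ⟨θ, hθ⟩ : ∃ θ : Γ(X, U') ⟶ CommRingCat.of (bdd 𝒰),
      Spec.map θ ≫ hU'.fromSpec = l :=
    ⟨Spec.preimage (IsOpenImmersion.lift hU'.fromSpec l hrange), by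
      rw [Spec.map_preimage, IsOpenImmersion.lift_fac]⟩
  have hxθ : (toHom x U' hxU₁).toRingHom = (st 𝒰).comp θ.hom := by
    have h1 := pts_eq_toHom x hU' hxU₁
    rw [show x.1 = Spec.map (CommRingCat.ofHom (st 𝒰)) ≫ l from rfl, ← hθ,
      ← Spec.map_comp_assoc] at h1
    exact congrArg CommRingCat.Hom.hom (Spec.map_injective ((cancel_mono hU'.fromSpec).mp h1)).symm
  -- the germ point lies in U ⊓ U'
  let i₁ := germPt 𝒰 (id : An.Pts X → An.Pts X) hU hevU
  let p₀ : Spec (CommRingCat.of (HypC 𝒰)) := (default : PrimeSpectrum (HypC 𝒰))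
  have hK : Spec.map (θ ≫ CommRingCat.ofHom (bdd 𝒰).subtype) ≫ hU'.fromSpec = i₁ := by
    rw [Spec.map_comp, Category.assoc, hθ]
    exact hl₁
  have hp₀ : i₁ p₀ ∈ U ⊓ U' := by
    constructor
    · change i₁ p₀ ∈ (U : Set X)
      rw [← hU.range_fromSpec]
      exact ⟨_, (Scheme.Hom.comp_apply _ _ _).symm⟩
    · change i₁ p₀ ∈ (U' : Set X)
      rw [← hU'.range_fromSpec, ← hK]
      exact ⟨_, (Scheme.Hom.comp_apply _ _ _).symm⟩
  obtain ⟨h, hle, hp⟩ := hU.exists_basicOpen_le (V := U ⊓ U') ⟨_, hp₀⟩ hp₀.1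
  have hne : germHom 𝒰 id U hevU h ≠ 0 := by
    intro h0
    have : Spec.map (CommRingCat.ofHom (germHom 𝒰 id U hevU)) p₀ ∈
        hU.fromSpec ⁻¹ᵁ X.basicOpen h := by
      change hU.fromSpec (Spec.map (CommRingCat.ofHom (germHom 𝒰 id U hevU)) p₀) ∈ X.basicOpen h
      exact (Scheme.Hom.comp_apply _ _ p₀) ▸ hp
    rw [hU.fromSpec_preimage_basicOpen] at this
    exact this (show germHom 𝒰 id U hevU h ∈ p₀.asIdeal by rw [h0]; exact zero_mem _)
  have hevD : ∀ᶠ z in (↑𝒰 : Filter (An.Pts X)), z.pt ∈ X.basicOpen h := by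
    have hne' : ∀ᶠ z in (↑𝒰 : Filter (An.Pts X)), evD z U h ≠ 0 :=
      Ultrafilter.eventually_not.mpr fun h0 => hne (Filter.Germ.coe_eq.mpr h0)
    filter_upwards [hne', hevU] with z hz hzU
    rw [mem_basicOpen_iff z hzU h]
    rwa [evD_of_mem hzU] at hz
  have hevU' : ∀ᶠ z in (↑𝒰 : Filter (An.Pts X)), z.pt ∈ U' := hevD.mono fun z hz => (hle hz).2
  have hθK : germHom 𝒰 id U' hevU' = (bdd 𝒰).subtype.comp θ.hom := by
    have h1 : germPt 𝒰 id hU' hevU' = i₁ :=
      (germPt_res 𝒰 id hU' (hU.basicOpen h) (hle.trans inf_le_right) hevD).symm.trans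
        (germPt_res 𝒰 id hU (hU.basicOpen h) (X.basicOpen_le h) hevD)
    rw [← hK, germPt] at h1
    exact congrArg CommRingCat.Hom.hom (Spec.map_injective ((cancel_mono hU'.fromSpec).mp h1))
  -- conclusion
  let g' : Γ(X, U') := X.presheaf.map (homOfLE hU₁W).op g
  have hb : (↑(fun z : An.Pts X => evD z U' g') : HypC 𝒰) ∈ bdd 𝒰 := by
    have h2 : germHom 𝒰 id U' hevU' g' ∈ bdd 𝒰 := by rw [hθK]; exact (θ g').2
    exact h2
  have hlim : Tendsto (fun z : An.Pts X => evD z U' g') ↑𝒰 (𝓝 (x.ev W hxW g)) := by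
    convert tendsto_st 𝒰 hb using 2
    rw [show (⟨_, hb⟩ : bdd 𝒰) = θ g' from Subtype.ext congr($hθK g'),
      ← ev_res x hU₁W hxU₁ g, ← toHom_apply]
    exact congr($hxθ g')
  filter_upwards [hlim.eventually (hSv.mem_nhds hxS), hevU'] with z hz hzU'
  refine ⟨hU₁W hzU', ?_⟩
  rw [evD_of_mem hzU', toHom_apply, ev_res z hU₁W hzU' g] at hz
  exact hz

end

end Groth.Agent.AnLib
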