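import Groth.Agent.AnLib.Affine
import Groth.Agent.AnLib.ProperMap
import Groth.Prelude.Def_AnHol
import Mathlib.Analysis.Calculus.FDeriv.Mul
import Mathlib.Analysis.Calculus.FDeriv.Add
import Mathlib.Analysis.Calculus.FDeriv.Comp
import Mathlib.Analysis.Calculus.FDeriv.Pi
import Mathlib.Analysis.Calculus.FDeriv.Pow

/-!
Holomorphic functions on `𝔸ⁿ(ℂ)` are the holomorphic functions of the coordinates.
-/

set_option autoImplicit false
set_option backward.isDefEq.respectTransparency false

open CategoryTheory AlgebraicGeometry TopologicalSpace Topology Filter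

namespace Groth.Agent.AnLib

noncomputable section

lemma differentiable_mvEval {n : ℕ} (p : MvPolynomial (Fin n) ℂ) :
    Differentiable ℂ fun z : Fin n → ℂ => MvPolynomial.eval z p := by
  induction p using MvPolynomial.induction_on with
  | C c => simp only [MvPolynomial.eval_C]; exact differentiable_const _
  | add p q hp hq => simp only [map_add]; exact hp.add hq
  | mul_X p j hp => simp only [map_mul, MvPolynomial.eval_X]; exact hp.mul (differentiable_apply j)

variable {n : ℕ}

local notation "𝔸n" => (𝔸(Fin n; An.SC))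

/-- The coordinates. -/
def coordHomeo : An.Pts 𝔸n ≃ₜ (Fin n → ℂ) := (isHomeomorph_affineSpace n).homeomorph

lemma coordHomeo_apply (x : An.Pts 𝔸n) :
    coordHomeo x = fun i => x.evTop (AffineSpace.coord An.SC i) := rfl

lemma eval₂_coord_surjective :
    Function.Surjective (MvPolynomial.eval₂Hom (An.strHom 𝔸n) (AffineSpace.coord An.SC)) := by
  have h : Function.Surjective ((AffineSpace.SpecIso (Fin n) (CommRingCat.of ℂ)).hom.appTop) :=
    (ConcreteCategory.bijective_of_isIso _).2
  rw [AffineSpace.SpecIso_hom_appTop] at h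
  intro g
  obtain ⟨w, hw⟩ := h g
  exact ⟨_, hw⟩

lemma evTop_eval₂ (x : An.Pts 𝔸n) (p : MvPolynomial (Fin n) ℂ) :
    x.evTop (MvPolynomial.eval₂Hom (An.strHom 𝔸n) (AffineSpace.coord An.SC) p) =
      MvPolynomial.eval (coordHomeo x) p := by
  change ((toHom x ⊤ trivial).toRingHom.comp
    (MvPolynomial.eval₂Hom (An.strHom 𝔸n) (AffineSpace.coord An.SC))) p = _
  congr 1
  apply MvPolynomial.ringHom_ext
  · intro c
    rw [RingHom.comp_apply, MvPolynomial.eval₂Hom_C, strHom_eq, MvPolynomial.eval_C]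
    exact (toHom x ⊤ trivial).commutes c
  · intro i
    rw [RingHom.comp_apply, MvPolynomial.eval₂Hom_X', MvPolynomial.eval_X]
    rfl

lemma differentiableAt_ev (W : Scheme.Opens 𝔸n) (s : Γ(𝔸n, W)) {z : Fin n → ℂ}
    (hz : (coordHomeo.symm z).pt ∈ W) :
    DifferentiableAt ℂ (fun w => evD (coordHomeo.symm w) W s) z := by
  have haff : IsAffineOpen (⊤ : Scheme.Opens 𝔸n) := isAffineOpen_top _
  obtain ⟨h, hle, hzh⟩ := haff.exists_basicOpen_le (V := W) ⟨_, hz⟩ trivial
  have := haff.isLocalization_basicOpen h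
  obtain ⟨⟨a, ⟨_, k, rfl⟩⟩, ha⟩ :=
    IsLocalization.surj (Submonoid.powers h) ((𝔸n).presheaf.map (homOfLE hle).op s)
  change _ * ((𝔸n).presheaf.map (homOfLE (Scheme.basicOpen_le 𝔸n h)).op) (h ^ k) = ((𝔸n).presheaf.map (homOfLE (Scheme.basicOpen_le 𝔸n h)).op) a at ha
  obtain ⟨P, rfl⟩ := eval₂_coord_surjective a
  obtain ⟨Q, rfl⟩ := eval₂_coord_surjective h
  have hQ : ∀ w : Fin n → ℂ, (coordHomeo.symm w).pt ∈ Scheme.basicOpen 𝔸n
      (MvPolynomial.eval₂Hom (An.strHom 𝔸n) (AffineSpace.coord An.SC) Q) ↔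
        MvPolynomial.eval w Q ≠ 0 := by
    intro w
    rw [mem_basicOpen_iff (coordHomeo.symm w) (U := ⊤) trivial]
    change (coordHomeo.symm w).evTop _ ≠ 0 ↔ _
    rw [evTop_eval₂, Homeomorph.apply_symm_apply]
  have key : ∀ w : Fin n → ℂ, MvPolynomial.eval w Q ≠ 0 →
      evD (coordHomeo.symm w) W s = MvPolynomial.eval w P / MvPolynomial.eval w Q ^ k := by
    intro w hw
    have hD := (hQ w).mpr hw
    have eres : ∀ R, toHom (coordHomeo.symm w) _ hD ((𝔸n).presheaf.map
        (homOfLE (Scheme.basicOpen_le 𝔸n _)).op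
          (MvPolynomial.eval₂Hom (An.strHom 𝔸n) (AffineSpace.coord An.SC) R)) =
        MvPolynomial.eval w R := fun R => by
      rw [toHom_apply, ev_res _ _ hD]
      exact (evTop_eval₂ _ R).trans (by rw [Homeomorph.apply_symm_apply])
    have h' := congr(toHom (coordHomeo.symm w) _ hD $ha)
    rw [map_mul, map_pow, map_pow] at h'
    erw [eres, eres] at h'
    rw [evD_of_mem (hle hD), toHom_apply, eq_div_iff (pow_ne_zero _ hw), ← ev_res _ hle hD]
    exact h'
  have hne := (hQ z).mp hzh
  refine DifferentiableAt.congr_of_eventuallyEq ?_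
    (Filter.eventually_of_mem
      ((isOpen_ne_fun (MvPolynomial.continuous_eval Q) continuous_const).mem_nhds hne) key)
  simp only [div_eq_mul_inv]
  exact (differentiable_mvEval P z).mul (((differentiable_mvEval Q z).pow k).inv (pow_ne_zero _ hne))

open Classical in
/-- Transport a function to coordinates. -/
def inCoords {U : Opens (An.Pts 𝔸n)} (g : U → ℂ) (w : Fin n → ℂ) : ℂ :=
  if h : coordHomeo.symm w ∈ U then g ⟨_, h⟩ else 0

lemma inCoords_of_mem {U : Opens (An.Pts 𝔸n)} (g : U → ℂ) {w : Fin n → ℂ}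
    (h : coordHomeo.symm w ∈ U) : inCoords g w = g ⟨_, h⟩ := dif_pos h

lemma differentiableAt_chartAlg (U : Opens (An.top 𝔸n)) (f : U → ℂ) (hf : f ∈ An.chartAlg U)
    {z : Fin n → ℂ} (hz : coordHomeo.symm z ∈ U) : DifferentiableAt ℂ (inCoords f) z := by
  have hev : ∀ᶠ w in 𝓝 z, coordHomeo.symm w ∈ U :=
    (coordHomeo.symm.continuous.continuousAt).eventually_mem (U.2.mem_nhds hz)
  induction hf using Algebra.adjoin_induction with
  | mem g hg =>
    obtain ⟨W, hW, m, s, V, G, hV, hG, hg⟩ := hg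
    have hs : DifferentiableAt ℂ (fun w i => evD (coordHomeo.symm w) W (s i)) z :=
      differentiableAt_pi.mpr fun i => differentiableAt_ev W (s i) (hW ⟨_, hz⟩)
    have heq : (fun i => evD (coordHomeo.symm z) W (s i)) =
        fun i => An.Pts.ev (coordHomeo.symm z) W (hW ⟨_, hz⟩) (s i) :=
      funext fun i => evD_of_mem (hW ⟨_, hz⟩) (s i)
    have hG' : DifferentiableAt ℂ G (fun i => evD (coordHomeo.symm z) W (s i)) := by
      rw [heq]
      exact hG.differentiableAt (hV.mem_nhds (hg ⟨_, hz⟩).1)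
    refine DifferentiableAt.congr_of_eventuallyEq
      (DifferentiableAt.comp (g := G) (f := fun w i => evD (coordHomeo.symm w) W (s i)) z hG' hs) ?_
    refine hev.mono fun w hw => ?_
    rw [inCoords_of_mem g hw, (hg ⟨_, hw⟩).2]
    exact congrArg G (funext fun i => (evD_of_mem (hW ⟨_, hw⟩) (s i)).symm)
  | algebraMap r =>
    refine (differentiableAt_const r).congr_of_eventuallyEq (hev.mono fun w hw => ?_)
    rw [inCoords_of_mem _ hw]; rfl
  | add a b _ _ ha hb =>
    refine (ha.add hb).congr_of_eventuallyEq (hev.mono fun w hw => ?_)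
    simp only [inCoords_of_mem _ hw, Pi.add_apply]
  | mul a b _ _ ha hb =>
    refine (ha.mul hb).congr_of_eventuallyEq (hev.mono fun w hw => ?_)
    simp only [inCoords_of_mem _ hw, Pi.mul_apply]

theorem holomorphic_iff (U : Opens (An.Pts 𝔸n)) (g : U → ℂ) :
    (An.holPred 𝔸n).pred g ↔ ∃ G : (Fin n → ℂ) → ℂ,
      DifferentiableOn ℂ G ((fun (x : An.Pts 𝔸n) (i : Fin n) =>
        x.evTop (AffineSpace.coord An.SC i)) '' (U : Set (An.Pts 𝔸n))) ∧
      ∀ x : U, g x = G (fun i => (x : An.Pts 𝔸n).evTop (AffineSpace.coord An.SC i)) := by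
  have himg : ∀ x : An.Pts 𝔸n, coordHomeo.symm (fun i => x.evTop (AffineSpace.coord An.SC i)) = x :=
    fun x => coordHomeo.symm_apply_apply x
  constructor
  · intro h
    refine ⟨inCoords g, ?_, fun x => ?_⟩
    · rintro _ ⟨x, hx, rfl⟩
      refine DifferentiableAt.differentiableWithinAt ?_
      obtain ⟨U', hxU', i, hU'⟩ := h ⟨x, hx⟩
      have hz : coordHomeo.symm (fun i => x.evTop (AffineSpace.coord An.SC i)) ∈ U' := by
        rw [himg]; exact hxU'
      refine (differentiableAt_chartAlg U' _ hU' hz).congr_of_eventuallyEq ?_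
      filter_upwards [(coordHomeo.symm.continuous.continuousAt).eventually_mem (U'.2.mem_nhds hz)]
        with w hw
      rw [inCoords_of_mem _ hw, inCoords_of_mem g (i.le hw)]
      rfl
    · rw [inCoords_of_mem g (by rw [himg]; exact x.2)]
      exact congrArg g (Subtype.ext (himg x.1).symm)
  · rintro ⟨G, hG, hg⟩
    refine An.holPred_of_chartAlg (Algebra.subset_adjoin ⟨⊤, fun _ => trivial, n,
      fun i => AffineSpace.coord An.SC i, _, G, ?_, hG, fun x => ⟨⟨x.1, x.2, rfl⟩, hg x⟩⟩)
    exact coordHomeo.isOpenMap _ U.2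

end

end Groth.Agent.AnLib
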