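import Groth.Agent.AnLib.Top

/-!
Maps induced on `ℂ`-points: embeddings, fibre products, separatedness, surjectivity.
-/

set_option autoImplicit false
set_option backward.isDefEq.respectTransparency false

open CategoryTheory Limits AlgebraicGeometry TopologicalSpace Topology

namespace Groth.Agent.AnLib

noncomputable section

open An

variable {X Y : Scheme.{0}} [X.Over SC] [Y.Over SC]

lemma locallyOfFiniteType_map [LocallyOfFiniteType (X ↘ SC)] (f : X ⟶ Y) [f.IsOver SC] :
    LocallyOfFiniteType f :=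
  have : LocallyOfFiniteType (f ≫ Y ↘ SC) := by rw [comp_over f]; infer_instance
  locallyOfFiniteType_of_comp f (Y ↘ SC)

lemma locallyOfFinitePresentation_map [LocallyOfFiniteType (X ↘ SC)]
    [LocallyOfFiniteType (Y ↘ SC)] (f : X ⟶ Y) [f.IsOver SC] :
    LocallyOfFinitePresentation f := by
  have := locallyOfFiniteType_map f
  rw [HasRingHomProperty.iff_appLE (P := @LocallyOfFinitePresentation)]
  intro U V e
  have := finiteType_sec U.2
  have : IsNoetherianRing Γ(Y, U) := Algebra.FiniteType.isNoetherianRing ℂ _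
  exact RingHom.FinitePresentation.of_finiteType.mp (f.finiteType_appLE U.2 V.2 e)

lemma map_injective_of_mono (f : X ⟶ Y) [f.IsOver SC] [Mono f] :
    Function.Injective (An.Pts.map f) := fun x y h =>
  Subtype.ext ((cancel_mono f).mp (congrArg Subtype.val h))

lemma isOpenEmbedding_map (f : X ⟶ Y) [f.IsOver SC] [IsOpenImmersion f] :
    IsOpenEmbedding (An.Pts.map f) := by
  have hind : IsInducing (An.Pts.map f) := by
    refine ⟨le_antisymm (An.Pts.continuous_map f).le_induced ?_⟩
    refine le_generateFrom ?_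
    rintro _ ⟨W, g, V, hV, rfl⟩
    refine isOpen_induced_iff.mpr ⟨An.Pts.basicSet (f ''ᵁ W) ((f.appIso W).inv g) V,
      An.Pts.isOpen_basicSet _ _ hV, ?_⟩
    rw [An.Pts.preimage_basicSet]
    have e : f.app (f ''ᵁ W) ((f.appIso W).inv g) =
        X.presheaf.map (homOfLE (f.preimage_image_eq W).le).op g := by
      rw [← CommRingCat.comp_apply, Scheme.Hom.appIso_inv_app]
      rfl
    ext x
    constructor
    · rintro ⟨h, hv⟩
      refine ⟨(f.preimage_image_eq W).le h, ?_⟩
      rwa [e, ev_res] at hv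
    · rintro ⟨h, hv⟩
      refine ⟨(f.preimage_image_eq W).ge h, ?_⟩
      rw [e, ev_res]; exact hv
  have hrange : Set.range (An.Pts.map f) = An.Pts.pt ⁻¹' Set.range f := by
    ext y
    constructor
    · rintro ⟨x, rfl⟩; exact ⟨x.pt, (An.Pts.pt_map f x).symm⟩
    · intro hy
      have hsub : Set.range y.1 ⊆ Set.range f := by
        rintro _ ⟨p, rfl⟩; rw [An.eq_cpt p]; exact hy
      refine ⟨⟨IsOpenImmersion.lift f y.1 hsub, ?_⟩, Subtype.ext (IsOpenImmersion.lift_fac _ _ _)⟩
      rw [← comp_over f, ← Category.assoc, IsOpenImmersion.lift_fac]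
      exact y.2
  exact ⟨⟨hind, map_injective_of_mono f⟩, hrange ▸ f.isOpenEmbedding.isOpen_range.preimage An.Pts.continuous_pt⟩

variable [LocallyOfFiniteType (X ↘ SC)] [LocallyOfFiniteType (Y ↘ SC)]

omit [LocallyOfFiniteType (Y ↘ SC)] in
lemma exists_pt_over (f : X ⟶ Y) [f.IsOver SC] [LocallyOfFiniteType (Y ↘ SC)] (y : Pts Y)
    {Z : Set X} (hZ : IsLocallyClosed Z) (hne : ∃ p ∈ Z, f p = y.pt) :
    ∃ x : Pts X, x.pt ∈ Z ∧ An.Pts.map f x = y := by
  obtain ⟨p, hpZ, hp⟩ := hne
  obtain ⟨x, hxZ, hx⟩ := exists_pt_mem (X := X) (Z := Z ∩ f ⁻¹' {y.pt}) ⟨p, hpZ, hp⟩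
    (hZ.inter ((isClosed_pt y).preimage f.continuous).isLocallyClosed)
  exact ⟨x, hxZ, pt_injective ((An.Pts.pt_map f x).trans hx)⟩

lemma range_map (f : X ⟶ Y) [f.IsOver SC] :
    Set.range (An.Pts.map f) = An.Pts.pt ⁻¹' Set.range f := by
  ext y
  refine ⟨?_, fun ⟨p, hp⟩ => ?_⟩
  · rintro ⟨x, rfl⟩; exact ⟨x.pt, (An.Pts.pt_map f x).symm⟩
  · obtain ⟨x, -, hx⟩ := exists_pt_over f y (Z := Set.univ) isClosed_univ.isLocallyClosed
      ⟨p, trivial, hp⟩
    exact ⟨x, hx⟩

lemma isLocallyConstructible_range (f : X ⟶ Y) [f.IsOver SC] [QuasiCompact f] :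
    IsLocallyConstructible (Set.range f) := by
  have := locallyOfFinitePresentation_map f
  rw [← Set.image_univ]
  exact f.isLocallyConstructible_image IsLocallyConstructible.univ

theorem surjective_iff_pts (f : X ⟶ Y) [f.IsOver SC] [QuasiCompact f] :
    Function.Surjective f.base ↔ Function.Surjective (An.Pts.map f) := by
  rw [← Set.range_eq_univ, ← Set.range_eq_univ, range_map]
  change Set.range f = _ ↔ _
  refine ⟨fun h => by rw [h, Set.preimage_univ], fun h => ?_⟩
  by_contra hne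
  obtain ⟨y, hy⟩ := exists_pt_mem_constructible
    (isLocallyConstructible_compl (isLocallyConstructible_range f)) (Set.nonempty_compl.mpr hne)
  exact hy (show y ∈ An.Pts.pt ⁻¹' Set.range f by rw [h]; trivial)

theorem denseRange_iff_pts (f : X ⟶ Y) [f.IsOver SC] [QuasiCompact f] :
    DenseRange f.base ↔ DenseRange (An.Pts.map f) := by
  rw [DenseRange, DenseRange, range_map]
  exact dense_iff_pts (isLocallyConstructible_range f)

theorem injective_iff_pts (f : X ⟶ Y) [f.IsOver SC] :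
    Function.Injective f.base ↔ Function.Injective (An.Pts.map f) := by
  refine ⟨fun h x y e => pt_injective (h ?_), fun h => ?_⟩
  · change f x.pt = f y.pt
    rw [← An.Pts.pt_map, ← An.Pts.pt_map, e]
  · intro a b hab
    by_contra hne
    wlog hsp : a ∉ closure ({b} : Set X) generalizing a b
    · push Not at hsp
      exact this hab.symm (Ne.symm hne) fun hb => hne
        ((specializes_iff_mem_closure.mpr hb).antisymm (specializes_iff_mem_closure.mpr hsp)).eq
    have := locallyOfFinitePresentation_map f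
    have := locNoetherian Y
    have key : ∀ (p : X) (Z : Set X), IsLocallyClosed Z → p ∈ Z →
        ∃ (C : Set Y), IsLocallyConstructible C ∧ f p ∈ C ∧
          ∀ y : Pts Y, y.pt ∈ C → ∃ x : Pts X, x.pt ∈ Z ∧ An.Pts.map f x = y := by
      intro p Z hZ hpZ
      obtain ⟨V, hV, hpV, -⟩ := Opens.isBasis_iff_nbhd.mp X.isBasis_affineOpens
        (show p ∈ (⊤ : X.Opens) from trivial)
      let V' : X.Opens := V
      have : IsAffine V'.toScheme := hV
      have hZ' : IsLocallyClosed (V'.ι ⁻¹' Z) := hZ.preimage V'.ι.continuous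
      let _ : V'.toScheme.Over SC := ⟨V'.ι ≫ X ↘ SC⟩
      have : LocallyOfFiniteType (V'.toScheme ↘ SC) :=
        inferInstanceAs (LocallyOfFiniteType (V'.ι ≫ X ↘ SC))
      refine ⟨(V'.ι ≫ f) '' (V'.ι ⁻¹' Z), ?_, ?_, ?_⟩
      · exact (V'.ι ≫ f).isLocallyConstructible_image (isLocallyConstructible_locClosed hZ')
      · exact ⟨⟨p, hpV⟩, hpZ, Scheme.Hom.comp_apply _ _ _⟩
      · rintro y ⟨q, hqZ, hq⟩
        rw [Scheme.Hom.comp_apply] at hq
        exact exists_pt_over f y hZ ⟨_, hqZ, hq⟩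
    obtain ⟨Ca, hCa, haC, hCa'⟩ := key a (closure {a} ∩ (closure {b})ᶜ)
      (isClosed_closure.isLocallyClosed.inter isClosed_closure.isOpen_compl.isLocallyClosed)
      ⟨subset_closure rfl, hsp⟩
    obtain ⟨Cb, hCb, hbC, hCb'⟩ := key b (closure {b}) isClosed_closure.isLocallyClosed
      (subset_closure rfl)
    obtain ⟨y, hya, hyb⟩ := exists_pt_mem_constructible (hCa.inter hCb)
      ⟨f a, haC, by rw [show f a = f b from hab]; exact hbC⟩
    obtain ⟨xa, hxa, exa⟩ := hCa' y hya
    obtain ⟨xb, hxb, exb⟩ := hCb' y hyb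
    rw [h (exa.trans exb.symm)] at hxa
    exact hxa.2 hxb

omit [LocallyOfFiniteType (Y ↘ SC)] [LocallyOfFiniteType (X ↘ SC)] in
lemma isClosedEmbedding_comp_of_surjective {A B : Type} [CommRing A] [CommRing B] [Algebra ℂ A]
    [Algebra ℂ B] [Algebra.FiniteType ℂ A] (g : A →ₐ[ℂ] B) (hg : Function.Surjective g) :
    IsClosedEmbedding fun φ : B →ₐ[ℂ] ℂ => φ.comp g := by
  obtain ⟨n, t, ht⟩ := exists_gens (A := A)
  have hs : Function.Surjective (MvPolynomial.aeval (R := ℂ) fun i => g (t i)) := by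
    intro b
    obtain ⟨a, rfl⟩ := hg b
    obtain ⟨p, rfl⟩ := ht a
    exact ⟨p, by rw [← AlgHom.comp_apply g, MvPolynomial.comp_aeval]⟩
  exact (isClosedEmbedding_gens t ht).of_comp_iff.mp (isClosedEmbedding_gens _ hs)

omit [LocallyOfFiniteType (X ↘ SC)] in
lemma isClosedEmbedding_map (f : X ⟶ Y) [f.IsOver SC] [IsClosedImmersion f] :
    IsClosedEmbedding (An.Pts.map f) := by
  let U : Y.affineOpens → Opens (Pts Y) := fun V =>
    ⟨An.Pts.pt ⁻¹' (V.1 : Set Y), An.Pts.isOpen_preimage_pt V.1⟩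
  have hU : TopologicalSpace.IsOpenCover U := by
    rw [TopologicalSpace.IsOpenCover, eq_top_iff]
    intro y _
    obtain ⟨V, hV, hyV, -⟩ := Opens.isBasis_iff_nbhd.mp Y.isBasis_affineOpens
      (show y.pt ∈ (⊤ : Y.Opens) from trivial)
    exact Opens.mem_iSup.mpr ⟨⟨V, hV⟩, hyV⟩
  rw [hU.isClosedEmbedding_iff_restrictPreimage (An.Pts.continuous_map f)]
  intro V
  have := finiteType_sec V.2
  have hV' : IsAffineOpen (f ⁻¹ᵁ V.1) := V.2.preimage f
  have hset : An.Pts.map f ⁻¹' (U V : Set (Pts Y)) = {x : Pts X | x.pt ∈ f ⁻¹ᵁ V.1} := by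
    ext x
    change (An.Pts.map f x).pt ∈ V.1 ↔ f x.pt ∈ V.1
    rw [An.Pts.pt_map]
  let e₁ : ↥(An.Pts.map f ⁻¹' (U V : Set (Pts Y))) ≃ₜ {x : Pts X // x.pt ∈ f ⁻¹ᵁ V.1} :=
    Homeomorph.setCongr hset
  have hsur : Function.Surjective (pullAlg f V.1 (f ⁻¹ᵁ V.1) le_rfl) := by
    have := f.app_surjective V.1 V.2
    rwa [Scheme.Hom.app_eq_appLE] at this
  have key : (U V).1.restrictPreimage (An.Pts.map f) =
      (chart V.2).symm ∘ (fun φ => φ.comp (pullAlg f V.1 (f ⁻¹ᵁ V.1) le_rfl)) ∘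
        chart hV' ∘ e₁ := by
    funext x
    have hx : f x.1.pt ∈ V.1 := (An.Pts.pt_map f x.1) ▸ x.2
    apply Subtype.ext
    change An.Pts.map f x.1 =
      ofHom V.2 ((toHom x.1 (f ⁻¹ᵁ V.1) hx).comp (pullAlg f V.1 _ le_rfl))
    rw [← toHom_map f x.1 le_rfl hx x.2, ofHom_toHom]
  rw [key]
  exact (chart V.2).symm.isClosedEmbedding.comp
    ((isClosedEmbedding_comp_of_surjective _ hsur).comp
      ((chart hV').isClosedEmbedding.comp e₁.isClosedEmbedding))

omit [LocallyOfFiniteType (X ↘ SC)] in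
theorem isEmbedding_map_of_immersion (f : X ⟶ Y) [f.IsOver SC] [IsImmersion f] :
    IsEmbedding (An.Pts.map f) ∧ IsLocallyClosed (Set.range (An.Pts.map f)) := by
  let _ : f.coborderRange.toScheme.Over SC := ⟨f.coborderRange.ι ≫ Y ↘ SC⟩
  have : LocallyOfFiniteType (f.coborderRange.toScheme ↘ SC) :=
    inferInstanceAs (LocallyOfFiniteType (f.coborderRange.ι ≫ Y ↘ SC))
  have : f.coborderRange.ι.IsOver SC := ⟨rfl⟩
  have : f.liftCoborder.IsOver SC := ⟨by
    change f.liftCoborder ≫ f.coborderRange.ι ≫ (Y ↘ SC) = X ↘ SC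
    rw [Scheme.Hom.liftCoborder_ι_assoc, comp_over f]⟩
  have h1 := isClosedEmbedding_map f.liftCoborder
  have h2 := isOpenEmbedding_map f.coborderRange.ι
  have e : An.Pts.map f = An.Pts.map f.coborderRange.ι ∘ An.Pts.map f.liftCoborder :=
    funext fun x => Subtype.ext (by simp)
  rw [e]
  refine ⟨h2.isEmbedding.comp h1.isEmbedding, ?_⟩
  rw [Set.range_comp]
  exact h1.isClosed_range.isLocallyClosed.image h2.isInducing h2.isOpen_range.isLocallyClosed

omit [X.Over SC] [Y.Over SC] [LocallyOfFiniteType (X ↘ SC)] [LocallyOfFiniteType (Y ↘ SC)] in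
/-- Sections of a fibre product of affines are generated by the two factors. -/
lemma exists_affine_box {X Y S : Scheme.{0}} (f : X ⟶ S) (g : Y ⟶ S) {US : S.Opens}
    {UX : X.Opens} {UY : Y.Opens} (hS : IsAffineOpen US) (hX : IsAffineOpen UX)
    (hY : IsAffineOpen UY) (eX : UX ≤ f ⁻¹ᵁ US) (eY : UY ≤ g ⁻¹ᵁ US) :
    IsAffineOpen (pullback.fst f g ⁻¹ᵁ UX ⊓ pullback.snd f g ⁻¹ᵁ UY) ∧
      Subring.closure
        (Set.range ((pullback.fst f g).appLE UX
            (pullback.fst f g ⁻¹ᵁ UX ⊓ pullback.snd f g ⁻¹ᵁ UY) inf_le_left) ∪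
          Set.range ((pullback.snd f g).appLE UY
            (pullback.fst f g ⁻¹ᵁ UX ⊓ pullback.snd f g ⁻¹ᵁ UY) inf_le_right)) = ⊤ := by
  set P0 := pullback.fst f g ⁻¹ᵁ UX ⊓ pullback.snd f g ⁻¹ᵁ UY with hP0
  set p := pullback.fst f g with hp
  set q := pullback.snd f g with hq
  set p' := p.resLE UX P0 inf_le_left with hp'
  set q' := q.resLE UY P0 inf_le_right with hq'
  set f' := f.resLE US UX eX with hf'
  set g' := g.resLE US UY eY with hg'
  have : IsAffine US.toScheme := hS
  have : IsAffine UX.toScheme := hX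
  have : IsAffine UY.toScheme := hY
  have hsq : p' ≫ f' = q' ≫ g' := by
    rw [← cancel_mono US.ι]
    simp [hp', hq', hf', hg', hp, hq, pullback.condition]
  have hcond : ∀ s : PullbackCone f' g',
      (s.fst ≫ UX.ι) ≫ f = (s.snd ≫ UY.ι) ≫ g := fun s => by
    have := congr($(s.condition) ≫ US.ι)
    simpa [hf', hg'] using this
  have hlim : IsPullback p' q' f' g' := by
    refine IsPullback.of_isLimit' ⟨hsq⟩ (PullbackCone.IsLimit.mk _
      (fun s => IsOpenImmersion.lift P0.ι (pullback.lift _ _ (hcond s)) ?_) ?_ ?_ ?_)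
    · rw [Scheme.Opens.range_ι]
      rintro _ ⟨z, rfl⟩
      constructor
      · change p (pullback.lift _ _ (hcond s) z) ∈ UX
        rw [← Scheme.Hom.comp_apply, hp, pullback.lift_fst]
        exact (s.fst z).2
      · change q (pullback.lift _ _ (hcond s) z) ∈ UY
        rw [← Scheme.Hom.comp_apply, hq, pullback.lift_snd]
        exact (s.snd z).2
    · intro s
      rw [← cancel_mono UX.ι, Category.assoc, hp', Scheme.Hom.resLE_comp_ι,
        IsOpenImmersion.lift_fac_assoc, hp, pullback.lift_fst]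
    · intro s
      rw [← cancel_mono UY.ι, Category.assoc, hq', Scheme.Hom.resLE_comp_ι,
        IsOpenImmersion.lift_fac_assoc, hq, pullback.lift_snd]
    · intro s m h1 h2
      rw [← cancel_mono P0.ι, IsOpenImmersion.lift_fac]
      apply pullback.hom_ext
      · rw [Category.assoc, pullback.lift_fst, ← h1, Category.assoc, hp', Scheme.Hom.resLE_comp_ι]
      · rw [Category.assoc, pullback.lift_snd, ← h2, Category.assoc, hq', Scheme.Hom.resLE_comp_ι]
  have haff : IsAffineOpen P0 := IsAffine.of_isPullback hlim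
  refine ⟨haff, ?_⟩
  have hpush := isPushout_appTop_of_isPullback hlim
  set S₀ := Subring.closure (Set.range (p.appLE UX P0 inf_le_left) ∪
    Set.range (q.appLE UY P0 inf_le_right)) with hS₀
  let i : Γ(P0.toScheme, ⊤) ⟶ Γ(pullback f g, P0) := P0.topIso.hom
  have hA' : p'.appTop ≫ i = UX.topIso.hom ≫ p.appLE UX P0 inf_le_left := by
    change p'.app ⊤ ≫ P0.topIso.hom = _
    rw [hp', Scheme.Hom.resLE_app_top, Category.assoc, Category.assoc, Iso.inv_hom_id,
      Category.comp_id]
  have hB' : q'.appTop ≫ i = UY.topIso.hom ≫ q.appLE UY P0 inf_le_right := by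
    change q'.app ⊤ ≫ P0.topIso.hom = _
    rw [hq', Scheme.Hom.resLE_app_top, Category.assoc, Category.assoc, Iso.inv_hom_id,
      Category.comp_id]
  have hA : ∀ a, i (p'.appTop a) ∈ S₀ := fun a =>
    Subring.subset_closure (Or.inl ⟨UX.topIso.hom a, congr($(hA'.symm) a)⟩)
  have hB : ∀ a, i (q'.appTop a) ∈ S₀ := fun a =>
    Subring.subset_closure (Or.inr ⟨UY.topIso.hom a, congr($(hB'.symm) a)⟩)
  let S₁ : Subring Γ(P0.toScheme, ⊤) := S₀.comap i.hom
  let cA : Γ(UX.toScheme, ⊤) ⟶ CommRingCat.of S₁ :=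
    CommRingCat.ofHom (p'.appTop.hom.codRestrict S₁ hA)
  let cB : Γ(UY.toScheme, ⊤) ⟶ CommRingCat.of S₁ :=
    CommRingCat.ofHom (q'.appTop.hom.codRestrict S₁ hB)
  have hc : f'.appTop ≫ cA = g'.appTop ≫ cB :=
    CommRingCat.hom_ext (RingHom.ext fun a => Subtype.ext congr($(hpush.w) a))
  let d := hpush.desc cA cB hc
  have hd : d ≫ CommRingCat.ofHom S₁.subtype = 𝟙 _ := by
    apply hpush.hom_ext
    · rw [hpush.inl_desc_assoc, Category.comp_id]
      rfl
    · rw [hpush.inr_desc_assoc, Category.comp_id]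
      rfl
  rw [eq_top_iff]
  rintro w -
  have h := (d (P0.topIso.inv w)).2
  have e : (d (P0.topIso.inv w)).1 = P0.topIso.inv w := congr($hd (P0.topIso.inv w))
  rw [e] at h
  change i (P0.topIso.inv w) ∈ S₀ at h
  have e' : i (P0.topIso.inv w) = w := congr($(P0.topIso.inv_hom_id) w)
  rwa [e'] at h

omit [X.Over SC] [Y.Over SC] [LocallyOfFiniteType (X ↘ SC)] [LocallyOfFiniteType (Y ↘ SC)] in
lemma continuous_rng_of_gen {N : Type*} [TopologicalSpace N] {A : Type} [CommRing A] [Algebra ℂ A]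
    {G : Set A} (hG : Subring.closure G = ⊤) {Φ : N → (A →ₐ[ℂ] ℂ)}
    (h : ∀ a ∈ G, Continuous fun r => Φ r a) : Continuous Φ := by
  refine continuous_rng fun w => ?_
  have hw : w ∈ Subring.closure G := hG ▸ Subring.mem_top w
  induction hw using Subring.closure_induction with
  | mem x hx => exact h x hx
  | zero => simpa using continuous_const
  | one => simpa using continuous_const
  | add x y _ _ hx hy => simp only [map_add]; exact hx.add hy
  | neg x _ hx => simp only [map_neg]; exact hx.neg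
  | mul x y _ _ hx hy => simp only [map_mul]; exact hx.mul hy

omit [LocallyOfFiniteType (X ↘ SC)] [LocallyOfFiniteType (Y ↘ SC)] in
lemma toHom_appLE (f : X ⟶ Y) [f.IsOver SC] (x : Pts X) {V : Y.Opens} {U : X.Opens}
    (hle : U ≤ f ⁻¹ᵁ V) (h : x.pt ∈ U) {y : Pts Y} (hy : An.Pts.map f x = y) (h' : y.pt ∈ V)
    (a : Γ(Y, V)) : toHom x U h (f.appLE V U hle a) = toHom y V h' a := by
  subst hy
  rw [toHom_map f x hle h h']
  rfl

variable {S : Scheme.{0}} [S.Over SC] [LocallyOfFiniteType (S ↘ SC)]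

omit [LocallyOfFiniteType (X ↘ SC)] [LocallyOfFiniteType (Y ↘ SC)] [LocallyOfFiniteType (S ↘ SC)] in
/-- `ℂ`-points commute with fibre products. -/
theorem isHomeomorph_pullback (f : X ⟶ S) (g : Y ⟶ S) [f.IsOver SC] [g.IsOver SC] :
    IsHomeomorph (fun z : Pts (pullback f g) =>
      (⟨(An.Pts.map (pullback.fst f g) z, An.Pts.map (pullback.snd f g) z),
        An.Pts.map_pullback_condition f g z⟩ :
          {q : Pts X × Pts Y // An.Pts.map f q.1 = An.Pts.map g q.2})) := by
  let mk : {q : Pts X × Pts Y // An.Pts.map f q.1 = An.Pts.map g q.2} → Pts (pullback f g) :=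
    fun q => ⟨pullback.lift q.1.1.1 q.1.2.1 (congrArg Subtype.val q.2), by
      change pullback.lift _ _ _ ≫ pullback.fst f g ≫ (X ↘ SC) = _
      rw [pullback.lift_fst_assoc]
      exact q.1.1.2⟩
  have hfst : ∀ q, An.Pts.map (pullback.fst f g) (mk q) = q.1.1 := fun q =>
    Subtype.ext (pullback.lift_fst _ _ _)
  have hsnd : ∀ q, An.Pts.map (pullback.snd f g) (mk q) = q.1.2 := fun q =>
    Subtype.ext (pullback.lift_snd _ _ _)
  refine isHomeomorph_iff_exists_inverse.mpr ⟨?_, mk, fun z => Subtype.ext ?_,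
    fun q => Subtype.ext (Prod.ext (hfst q) (hsnd q)), ?_⟩
  · exact ((An.Pts.continuous_map _).prodMk (An.Pts.continuous_map _)).subtype_mk _
  · exact pullback.hom_ext (pullback.lift_fst _ _ _) (pullback.lift_snd _ _ _)
  refine continuous_iff_continuousAt.mpr fun q => ?_
  obtain ⟨US, hUS, hsU, -⟩ := Opens.isBasis_iff_nbhd.mp S.isBasis_affineOpens
    (show (An.Pts.map f q.1.1).pt ∈ (⊤ : S.Opens) from trivial)
  let US' : S.Opens := US
  have ha : q.1.1.pt ∈ f ⁻¹ᵁ US' := by
    change f q.1.1.pt ∈ US'; rw [← An.Pts.pt_map]; exact hsU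
  have hb : q.1.2.pt ∈ g ⁻¹ᵁ US' := by
    change g q.1.2.pt ∈ US'; rw [← An.Pts.pt_map, ← q.2]; exact hsU
  obtain ⟨UX, hUX, haX, eX⟩ := Opens.isBasis_iff_nbhd.mp X.isBasis_affineOpens ha
  obtain ⟨UY, hUY, hbY, eY⟩ := Opens.isBasis_iff_nbhd.mp Y.isBasis_affineOpens hb
  let UX' : X.Opens := UX
  let UY' : Y.Opens := UY
  obtain ⟨haff, hgen⟩ := exists_affine_box f g (US := US') (UX := UX') (UY := UY') hUS hUX hUY eX eY
  let N : Set {q : Pts X × Pts Y // An.Pts.map f q.1 = An.Pts.map g q.2} :=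
    {r | r.1.1.pt ∈ UX' ∧ r.1.2.pt ∈ UY'}
  have hN : IsOpen N := ((An.Pts.isOpen_preimage_pt UX').preimage
    (continuous_fst.comp continuous_subtype_val)).inter
    ((An.Pts.isOpen_preimage_pt UY').preimage (continuous_snd.comp continuous_subtype_val))
  have hmem : ∀ r : N, (mk r.1).pt ∈ pullback.fst f g ⁻¹ᵁ UX' ⊓ pullback.snd f g ⁻¹ᵁ UY' := by
    intro r
    constructor
    · change pullback.fst f g (mk r.1).pt ∈ UX'
      rw [← An.Pts.pt_map, hfst]; exact r.2.1
    · change pullback.snd f g (mk r.1).pt ∈ UY'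
      rw [← An.Pts.pt_map, hsnd]; exact r.2.2
  have hG : Continuous fun r : N => toHom (mk r.1) _ (hmem r) := by
    have c1 : Continuous fun r : N => r.1.1.1 :=
      (continuous_fst.comp continuous_subtype_val).comp continuous_subtype_val
    have c2 : Continuous fun r : N => r.1.1.2 :=
      (continuous_snd.comp continuous_subtype_val).comp continuous_subtype_val
    have cX : Continuous fun r : N => toHom r.1.1.1 UX' r.2.1 :=
      Continuous.comp (g := fun x : {x : Pts X // x.pt ∈ UX'} => toHom x.1 UX' x.2)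
        (f := fun r : N => (⟨r.1.1.1, r.2.1⟩ : {x : Pts X // x.pt ∈ UX'}))
        (continuous_toHom UX') (c1.subtype_mk _)
    have cY : Continuous fun r : N => toHom r.1.1.2 UY' r.2.2 :=
      Continuous.comp (g := fun x : {x : Pts Y // x.pt ∈ UY'} => toHom x.1 UY' x.2)
        (f := fun r : N => (⟨r.1.1.2, r.2.2⟩ : {x : Pts Y // x.pt ∈ UY'}))
        (continuous_toHom UY') (c2.subtype_mk _)
    refine continuous_rng_of_gen hgen fun w hw => ?_
    rcases hw with ⟨a, rfl⟩ | ⟨a, rfl⟩
    · exact ((continuous_eval a).comp cX).congr fun r =>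
        (toHom_appLE _ (mk r.1) inf_le_left (hmem r) (hfst r.1) r.2.1 a).symm
    · exact ((continuous_eval a).comp cY).congr fun r =>
        (toHom_appLE _ (mk r.1) inf_le_right (hmem r) (hsnd r.1) r.2.2 a).symm
  have : Continuous fun r : N => mk r.1 := by
    have := (continuous_ofHom haff).comp hG
    convert this using 1
    funext r
    exact (ofHom_toHom _ haff (hmem r)).symm
  exact (continuousOn_iff_continuous_domRestrict.mpr this).continuousAt
    (hN.mem_nhds ⟨haX, hbY⟩)

/-- Separatedness on `ℂ`-points. -/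
theorem isSeparated_iff_pts (f : X ⟶ Y) [f.IsOver SC] :
    IsSeparated f ↔ IsSeparatedMap (An.Pts.map f) := by
  have := locallyOfFiniteType_map f
  have : LocallyOfFiniteType (pullback f f ↘ SC) :=
    inferInstanceAs (LocallyOfFiniteType (pullback.fst f f ≫ X ↘ SC))
  have : (pullback.diagonal f).IsOver SC := ⟨by
    change pullback.diagonal f ≫ pullback.fst f f ≫ (X ↘ SC) = _
    rw [pullback.diagonal_fst_assoc]⟩
  let e := (isHomeomorph_pullback (S := Y) f f).homeomorph
  rw [isSeparatedMap_iff_isClosed_diagonal]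
  have key : (e.symm ⁻¹' (An.Pts.pt ⁻¹' Set.range (pullback.diagonal f))) =
      (An.Pts.map f).pullbackDiagonal := by
    rw [← range_map (pullback.diagonal f)]
    ext q
    constructor
    · rintro ⟨x, hx⟩
      have hq : e (An.Pts.map (pullback.diagonal f) x) = q := by
        rw [hx]; exact e.apply_symm_apply q
      change q.1.1 = q.1.2
      rw [← hq]
      exact Subtype.ext (by simp [e, pullback.diagonal_fst, pullback.diagonal_snd])
    · intro (hq : q.1.1 = q.1.2)
      refine ⟨q.1.1, ?_⟩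
      apply e.injective
      rw [e.apply_symm_apply]
      refine Subtype.ext (Prod.ext ?_ ?_)
      · exact Subtype.ext (by simp [e])
      · rw [← hq]; exact Subtype.ext (by simp [e])
  constructor
  · intro h
    rw [← key]
    exact ((pullback.diagonal f).isClosedEmbedding.isClosed_range.preimage
      An.Pts.continuous_pt).preimage e.symm.continuous
  · intro h
    rw [← key, e.symm.isClosed_preimage] at h
    have hlc : IsLocallyClosed (Set.range (pullback.diagonal f)) :=
      (pullback.diagonal f).isLocallyClosed_range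
    exact ⟨IsClosedImmersion.of_isPreimmersion _
      (isClosed_of_pts (isLocallyConstructible_locClosed hlc) h)⟩

theorem isSeparated_iff_t2 : IsSeparated (X ↘ SC) ↔ T2Space (Pts X) := by
  have hself : (SC ↘ SC) = 𝟙 SC := by
    change Spec.map _ = _
    rw [← Spec.map_id]
    congr 1
  have : LocallyOfFiniteType (SC ↘ SC) := by rw [hself]; infer_instance
  have : (X ↘ SC).IsOver SC := ⟨by rw [hself, Category.comp_id]⟩
  have hsub : Subsingleton (Pts SC) := ⟨fun a b => Subtype.ext (by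
    have ha := a.2
    have hb := b.2
    simp only [hself, Category.comp_id] at ha hb
    rw [ha, hb])⟩
  rw [isSeparated_iff_pts (X ↘ SC), t2Space_iff]
  exact ⟨fun h x y hxy => h x y (Subsingleton.elim _ _) hxy, fun h x y _ hxy => h hxy⟩

omit [LocallyOfFiniteType (Y ↘ SC)] in
theorem locallyCompact : LocallyCompactSpace (Pts X) := by
  refine ⟨fun x n hn => ?_⟩
  obtain ⟨U, hU, hxU, -⟩ := Opens.isBasis_iff_nbhd.mp X.isBasis_affineOpens
    (show x.pt ∈ (⊤ : X.Opens) from trivial)
  let U' : X.Opens := U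
  have hU' : IsAffineOpen U' := hU
  have := finiteType_sec hU'
  have := (chart hU').isClosedEmbedding.locallyCompactSpace
  obtain ⟨s, hs, hsn, hsc⟩ := LocallyCompactSpace.local_compact_nhds
    (⟨x, hxU⟩ : {x : Pts X // x.pt ∈ U'}) (Subtype.val ⁻¹' n)
    (continuous_subtype_val.continuousAt.preimage_mem_nhds hn)
  refine ⟨Subtype.val '' s, ?_, Set.image_subset_iff.mpr hsn, hsc.image continuous_subtype_val⟩
  exact (An.Pts.isOpen_preimage_pt U').isOpenEmbedding_subtypeVal.isOpenMap.image_mem_nhds hs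

end

end Groth.Agent.AnLib
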