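import Groth.Agent.AnLib.Finite

/-!
A generically étale model of a domain over affine space.
-/

set_option autoImplicit false

open Polynomial Filter Topology

namespace Groth.Agent.AnLib

noncomputable section

variable {A : Type} [CommRing A] [Algebra ℂ A]

/-- Generically, `A` is `ℂ[X][T]/(m)` with `m` separable. -/
structure Model (A : Type) [CommRing A] [Algebra ℂ A] where
  r : ℕ
  g : MvPolynomial (Fin r) ℂ →ₐ[ℂ] A
  inj : Function.Injective g
  h : MvPolynomial (Fin r) ℂ
  h0 : h ≠ 0
  y : A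
  m : (MvPolynomial (Fin r) ℂ)[X]
  monic : m.Monic
  irred : Irreducible m
  root : m.eval₂ g.toRingHom y = 0
  ker : ∀ p : (MvPolynomial (Fin r) ℂ)[X], p.eval₂ g.toRingHom y = 0 → m ∣ p
  a : (MvPolynomial (Fin r) ℂ)[X]
  b : (MvPolynomial (Fin r) ℂ)[X]
  sep : a * m + b * derivative m = C h
  gen : ∀ x : A, ∃ (N : ℕ) (p : (MvPolynomial (Fin r) ℂ)[X]), g h ^ N * x = p.eval₂ g.toRingHom y

namespace Model

variable (M : Model A)

abbrev proj (φ : A →ₐ[ℂ] ℂ) : Fin M.r → ℂ := Groth.Agent.AnLib.proj M.g φ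

/-- The good locus in affine space. -/
def base : Set (Fin M.r → ℂ) := {z | MvPolynomial.eval z M.h ≠ 0}

lemma isOpen_base : IsOpen M.base := isOpen_ne_fun (MvPolynomial.continuous_eval _) continuous_const

lemma simple {z : Fin M.r → ℂ} (hz : z ∈ M.base) {c : ℂ} (hc : (atPt z M.m).IsRoot c) :
    (derivative (atPt z M.m)).eval c ≠ 0 := by
  intro h
  have := congr((atPt z $(M.sep)).eval c)
  simp only [coe_mapRingHom, Polynomial.map_add, Polynomial.map_mul, Polynomial.map_C,
    ← Polynomial.derivative_map, eval_add, eval_mul, eval_C] at this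
  rw [show (M.m.map (MvPolynomial.eval z)).eval c = 0 from hc,
    show (derivative (M.m.map (MvPolynomial.eval z))).eval c = 0 from h, mul_zero, mul_zero,
    add_zero] at this
  exact hz this.symm

lemma nodup {z : Fin M.r → ℂ} (hz : z ∈ M.base) : (atPt z M.m).roots.Nodup := by
  change (M.m.map (MvPolynomial.eval z)).roots.Nodup
  rw [Polynomial.nodup_roots_iff_of_splits (M.monic.map _).ne_zero (IsAlgClosed.splits _)]
  rw [Polynomial.separable_def]
  refine ⟨C (MvPolynomial.eval z M.h)⁻¹ * atPt z M.a, C (MvPolynomial.eval z M.h)⁻¹ * atPt z M.b, ?_⟩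
  have := congr(atPt z $(M.sep))
  simp only [coe_mapRingHom, Polynomial.map_add, Polynomial.map_mul, Polynomial.map_C,
    ← Polynomial.derivative_map] at this ⊢
  rw [mul_assoc, mul_assoc, ← mul_add, this, ← C_mul, inv_mul_cancel₀ hz, C_1]

lemma apply_eval₂ (φ : A →ₐ[ℂ] ℂ) (p : (MvPolynomial (Fin M.r) ℂ)[X]) :
    φ (p.eval₂ M.g.toRingHom M.y) = (atPt (M.proj φ) p).eval (φ M.y) :=
  Groth.Agent.AnLib.apply_eval₂ M.g φ M.y p

lemma isRoot_apply_y (φ : A →ₐ[ℂ] ℂ) : (atPt (M.proj φ) M.m).IsRoot (φ M.y) := by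
  rw [Polynomial.IsRoot, ← apply_eval₂, M.root, map_zero]

variable {z : Fin M.r → ℂ} {c : ℂ}

/-- The value at the point `(z, c)`. -/
def IsVal (z : Fin M.r → ℂ) (c : ℂ) (x : A) (v : ℂ) : Prop :=
  ∀ (N : ℕ) (p : (MvPolynomial (Fin M.r) ℂ)[X]), M.g M.h ^ N * x = p.eval₂ M.g.toRingHom M.y →
    MvPolynomial.eval z M.h ^ N * v = (atPt z p).eval c

lemma exists_isVal (hz : z ∈ M.base) (hc : (atPt z M.m).IsRoot c) (x : A) :
    ∃ v, M.IsVal z c x v := by
  obtain ⟨N₀, p₀, h₀⟩ := M.gen x
  refine ⟨(atPt z p₀).eval c / MvPolynomial.eval z M.h ^ N₀, fun N p h => ?_⟩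
  obtain ⟨q, hq⟩ := M.ker (C (M.h ^ N₀) * p - C (M.h ^ N) * p₀) (by
    simp only [eval₂_sub, eval₂_mul, eval₂_C, eval₂_pow, map_pow, ← h, ← h₀]
    simp only [AlgHom.toRingHom_eq_coe, RingHom.coe_coe]
    ring)
  have := congr((atPt z $hq).eval c)
  simp only [coe_mapRingHom, Polynomial.map_sub, Polynomial.map_mul, Polynomial.map_C, Polynomial.map_pow,
    eval_sub, eval_mul, eval_pow, eval_C, map_pow] at this
  rw [show (M.m.map (MvPolynomial.eval z)).eval c = 0 from hc, zero_mul] at this
  have hz' : MvPolynomial.eval z M.h ≠ 0 := hz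
  field_simp
  simp only [coe_mapRingHom]
  linear_combination -this

lemma isVal_unique (hz : z ∈ M.base) {x : A} {v w : ℂ} (hv : M.IsVal z c x v)
    (hw : M.IsVal z c x w) : v = w := by
  obtain ⟨N, p, h⟩ := M.gen x
  exact mul_left_cancel₀ (pow_ne_zero N hz) ((hv N p h).trans (hw N p h).symm)

lemma isVal_of (hz : z ∈ M.base) (hc : (atPt z M.m).IsRoot c) {x : A} {v : ℂ} {N : ℕ}
    {p : (MvPolynomial (Fin M.r) ℂ)[X]} (h : M.g M.h ^ N * x = p.eval₂ M.g.toRingHom M.y)
    (hv : MvPolynomial.eval z M.h ^ N * v = (atPt z p).eval c) : M.IsVal z c x v := by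
  obtain ⟨w, hw⟩ := M.exists_isVal hz hc x
  have : v = w := mul_left_cancel₀ (pow_ne_zero N hz) (hv.trans (hw N p h).symm)
  exact this ▸ hw

/-- The point with coordinates `(z, c)`. -/
def pt (hz : z ∈ M.base) (hc : (atPt z M.m).IsRoot c) : A →ₐ[ℂ] ℂ where
  toFun x := (M.exists_isVal hz hc x).choose
  map_one' := M.isVal_unique hz (M.exists_isVal hz hc 1).choose_spec
    (M.isVal_of hz hc (N := 0) (p := 1) (by simp) (by simp))
  map_zero' := M.isVal_unique hz (M.exists_isVal hz hc 0).choose_spec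
    (M.isVal_of hz hc (N := 0) (p := 0) (by simp) (by simp))
  map_mul' x x' := by
    obtain ⟨N, p, h⟩ := M.gen x
    obtain ⟨N', p', h'⟩ := M.gen x'
    refine M.isVal_unique hz (M.exists_isVal hz hc _).choose_spec
      (M.isVal_of hz hc (N := N + N') (p := p * p') ?_ ?_)
    · rw [eval₂_mul, ← h, ← h']; ring
    · have e := (M.exists_isVal hz hc x).choose_spec N p h
      have e' := (M.exists_isVal hz hc x').choose_spec N' p' h'
      rw [map_mul, eval_mul, ← e, ← e']; ring
  map_add' x x' := by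
    obtain ⟨N, p, h⟩ := M.gen x
    obtain ⟨N', p', h'⟩ := M.gen x'
    refine M.isVal_unique hz (M.exists_isVal hz hc _).choose_spec
      (M.isVal_of hz hc (N := N + N') (p := C (M.h ^ N') * p + C (M.h ^ N) * p') ?_ ?_)
    · simp only [eval₂_add, eval₂_mul, eval₂_C, eval₂_pow, map_pow, ← h, ← h']
      simp only [AlgHom.toRingHom_eq_coe, RingHom.coe_coe]
      ring
    · have e := (M.exists_isVal hz hc x).choose_spec N p h
      have e' := (M.exists_isVal hz hc x').choose_spec N' p' h'
      simp only [coe_mapRingHom] at e e' ⊢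
      simp only [Polynomial.map_add, Polynomial.map_mul, Polynomial.map_C, Polynomial.map_pow, eval_add, eval_mul,
        eval_pow, eval_C, map_pow, ← e, ← e']
      ring
  commutes' a := M.isVal_unique hz (M.exists_isVal hz hc _).choose_spec
    (M.isVal_of hz hc (N := 0) (p := C (MvPolynomial.C a))
      (by rw [eval₂_C, pow_zero, one_mul]; exact (M.g.commutes a).symm)
      (by simp))

lemma pt_spec (hz : z ∈ M.base) (hc : (atPt z M.m).IsRoot c) (x : A) {N : ℕ}
    {p : (MvPolynomial (Fin M.r) ℂ)[X]} (h : M.g M.h ^ N * x = p.eval₂ M.g.toRingHom M.y) :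
    MvPolynomial.eval z M.h ^ N * M.pt hz hc x = (atPt z p).eval c :=
  (M.exists_isVal hz hc x).choose_spec N p h

lemma proj_pt (hz : z ∈ M.base) (hc : (atPt z M.m).IsRoot c) : M.proj (M.pt hz hc) = z :=
  funext fun i => by
    have := M.pt_spec hz hc (M.g (MvPolynomial.X i)) (N := 0) (p := C (MvPolynomial.X i)) (by simp)
    change M.pt hz hc (M.g (MvPolynomial.X i)) = z i
    simpa using this

lemma pt_y (hz : z ∈ M.base) (hc : (atPt z M.m).IsRoot c) : M.pt hz hc M.y = c := by
  have := M.pt_spec hz hc M.y (N := 0) (p := X) (by simp)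
  simpa using this

lemma pt_unique (hz : z ∈ M.base) (hc : (atPt z M.m).IsRoot c) (φ : A →ₐ[ℂ] ℂ)
    (h1 : M.proj φ = z) (h2 : φ M.y = c) : φ = M.pt hz hc :=
  AlgHom.ext fun x => by
    obtain ⟨N, p, h⟩ := M.gen x
    refine mul_left_cancel₀ (pow_ne_zero N hz) ?_
    rw [M.pt_spec hz hc x h, ← h1, ← h2, ← apply_eval₂, ← h, map_mul, map_pow,
      Groth.Agent.AnLib.apply_g]

open scoped Classical in
/-- The point over `z` at the root `c`, junk otherwise. -/
def ptD (φ₀ : A →ₐ[ℂ] ℂ) (q : (Fin M.r → ℂ) × ℂ) : A →ₐ[ℂ] ℂ :=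
  if h : q.1 ∈ M.base ∧ (atPt q.1 M.m).IsRoot q.2 then M.pt h.1 h.2 else φ₀

lemma ptD_eq (φ₀ : A →ₐ[ℂ] ℂ) (hz : z ∈ M.base) (hc : (atPt z M.m).IsRoot c) :
    M.ptD φ₀ (z, c) = M.pt hz hc := dif_pos ⟨hz, hc⟩

lemma continuousOn_ptD (φ₀ : A →ₐ[ℂ] ℂ) :
    ContinuousOn (M.ptD φ₀) {q | q.1 ∈ M.base ∧ (atPt q.1 M.m).IsRoot q.2} := by
  rw [continuousOn_iff_continuous_domRestrict]
  refine continuous_rng fun x => ?_
  obtain ⟨N, p, h⟩ := M.gen x
  have : (fun q : {q : (Fin M.r → ℂ) × ℂ | q.1 ∈ M.base ∧ (atPt q.1 M.m).IsRoot q.2} =>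
      Set.domRestrict _ (M.ptD φ₀) q x) =
      fun q => (atPt q.1.1 p).eval q.1.2 / MvPolynomial.eval q.1.1 M.h ^ N := by
    funext q
    rw [Set.domRestrict_apply, M.ptD_eq φ₀ q.2.1 q.2.2,
      eq_div_iff (pow_ne_zero _ q.2.1), mul_comm, M.pt_spec q.2.1 q.2.2 x h]
  rw [this]
  exact ((continuous_eval_atPt p).comp continuous_subtype_val).div
    (((MvPolynomial.continuous_eval M.h).comp
      (continuous_fst.comp continuous_subtype_val)).pow N) fun q => pow_ne_zero _ q.2.1

end Model

/-- Models exist, with a prescribed algebraically independent set among the coordinates. -/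
theorem exists_model [IsDomain A] [Algebra.FiniteType ℂ A] (s : Finset A)
    (hs : AlgebraicIndepOn ℂ id (↑s : Set A)) :
    ∃ M : Model A, ∀ u ∈ s, ∃ i, M.g (MvPolynomial.X i) = u := by
  classical
  obtain ⟨n, gens, hgens⟩ := exists_gens (A := A)
  let t₀ : Finset A := s ∪ Finset.univ.image gens
  have htop : Algebra.adjoin ℂ (↑t₀ : Set A) = ⊤ := by
    rw [eq_top_iff]
    rintro x -
    obtain ⟨p, rfl⟩ := hgens x
    have h1 : Set.range gens ⊆ ↑t₀ := by rintro _ ⟨i, rfl⟩; simp [t₀]
    have h2 : MvPolynomial.aeval gens p ∈ (MvPolynomial.aeval (R := ℂ) gens).range := ⟨p, rfl⟩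
    rw [← Algebra.adjoin_range_eq_range_aeval] at h2
    exact Algebra.adjoin_mono h1 h2
  have : Algebra.IsAlgebraic (Algebra.adjoin ℂ (↑t₀ : Set A)) A := by
    rw [htop]
    exact ⟨fun x => isAlgebraic_algebraMap (⟨x, trivial⟩ : (⊤ : Subalgebra ℂ A))⟩
  obtain ⟨v, hsv, hvt, hbasis⟩ :=
    exists_isTranscendenceBasis_between (R := ℂ) (↑s : Set A) (↑t₀) (by simp [t₀]) hs
  have : Fintype v := (t₀.finite_toSet.subset hvt).fintype
  let e := (Fintype.equivFin v).symm
  let g : MvPolynomial (Fin (Fintype.card v)) ℂ →ₐ[ℂ] A :=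
    MvPolynomial.aeval fun i => (e i : A)
  have hbasis' : IsTranscendenceBasis ℂ fun i => (e i : A) := hbasis.comp_equiv e
  have hinj : Function.Injective g := hbasis'.1
  have hgX : ∀ u ∈ s, ∃ i, g (MvPolynomial.X i) = u := fun u hu =>
    ⟨e.symm ⟨u, hsv hu⟩, by simp [g]⟩
  algebraize [g.toRingHom]
  have : IsScalarTower ℂ (MvPolynomial (Fin (Fintype.card v)) ℂ) A :=
    .of_algebraMap_eq fun c => (g.commutes c).symm
  have : Module.IsTorsionFree (MvPolynomial (Fin (Fintype.card v)) ℂ) A :=
    Module.isTorsionFree_iff_algebraMap_injective.mpr hinj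
  have halg : ∀ x : A, IsAlgebraic (MvPolynomial (Fin (Fintype.card v)) ℂ) x := by
    intro x
    have h1 := hbasis'.isAlgebraic.isAlgebraic x
    obtain ⟨p, hp, hpx⟩ := h1
    let ε := hbasis'.1.aevalEquiv
    refine ⟨p.map ε.symm.toAlgHom.toRingHom, (Polynomial.map_ne_zero_iff ε.symm.injective).mpr hp, ?_⟩
    rw [aeval_def, eval₂_map]
    convert hpx using 1
    rw [aeval_def]
    congr 1
    ext q
    exact congr(Subtype.val $(ε.apply_symm_apply q))
  let P := MvPolynomial (Fin (Fintype.card v)) ℂ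
  let K := FractionRing P
  let L := FractionRing A
  let _ : Algebra K L := FractionRing.liftAlgebra P L
  have hKL : Function.Injective (algebraMap A L) := IsFractionRing.injective A L
  have hPL : ∀ q : P, algebraMap P L q = algebraMap A L (algebraMap P A q) := fun q =>
    IsScalarTower.algebraMap_apply P A L q
  have hclear : ∀ l : L, ∃ q : P, q ≠ 0 ∧ ∃ x : A, algebraMap A L x = algebraMap P L q * l := by
    intro l
    obtain ⟨a, b, hb, rfl⟩ := IsFractionRing.div_surjective (A := A) l
    have hb0 : b ≠ 0 := nonZeroDivisors.ne_zero hb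
    obtain ⟨q, hq0, x, hx⟩ := (halg b).exists_nonzero_dvd (mem_nonZeroDivisors_of_ne_zero hb0)
    refine ⟨q, hq0, a * x, ?_⟩
    have h1 : algebraMap A L b ≠ 0 := by simpa using hKL.ne hb0
    rw [hPL, show algebraMap P A q = b * x from hx, map_mul, map_mul, mul_div_assoc',
      eq_div_iff h1]
    ring
  have hgenK : IntermediateField.adjoin K (algebraMap A L '' (Set.range gens)) = ⊤ := by
    rw [eq_top_iff]
    intro l _
    set F := IntermediateField.adjoin K (algebraMap A L '' (Set.range gens))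
    have hA : ∀ x : A, algebraMap A L x ∈ F := by
      intro x
      obtain ⟨p, rfl⟩ := hgens x
      induction p using MvPolynomial.induction_on with
      | C c =>
        rw [MvPolynomial.aeval_C, ← IsScalarTower.algebraMap_apply ℂ A L,
          IsScalarTower.algebraMap_apply ℂ P L, IsScalarTower.algebraMap_apply P K L]
        exact F.algebraMap_mem _
      | add p q hp hq => rw [map_add, map_add]; exact add_mem hp hq
      | mul_X p i hp =>
        rw [map_mul, map_mul, MvPolynomial.aeval_X]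
        exact mul_mem hp (IntermediateField.subset_adjoin _ _ ⟨_, ⟨i, rfl⟩, rfl⟩)
    obtain ⟨a, b, -, rfl⟩ := IsFractionRing.div_surjective (A := A) l
    exact div_mem (hA a) (hA b)
  have halgK : ∀ x : A, IsAlgebraic K (algebraMap A L x) := fun x =>
    ((halg x).algebraMap (A := L)).extendScalars (IsFractionRing.injective P K)
  have : FiniteDimensional K L := by
    have : FiniteDimensional K (IntermediateField.adjoin K (algebraMap A L '' (Set.range gens))) := by
      have := ((Set.finite_range gens).image (algebraMap A L)).to_subtype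
      exact IntermediateField.finiteDimensional_adjoin fun x ⟨a, _, hax⟩ =>
        hax ▸ (halgK a).isIntegral
    rw [hgenK] at this
    exact IntermediateField.topEquiv.toLinearEquiv.finiteDimensional
  have : CharZero P := charZero_of_injective_algebraMap (MvPolynomial.C_injective (Fin _) ℂ)
  have : CharZero K := charZero_of_injective_algebraMap (IsFractionRing.injective P K)
  obtain ⟨l₀, hl₀⟩ := Field.exists_primitive_element K L
  obtain ⟨q₁, hq₁, x₁, hx₁⟩ := hclear l₀
  obtain ⟨q₂, hq₂, hint⟩ := (halg x₁).exists_integral_multiple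
  set y := q₂ • x₁ with hy
  have hyl : algebraMap A L y = algebraMap K L (algebraMap P K (q₂ * q₁)) * l₀ := by
    rw [hy, Algebra.smul_def, map_mul, hx₁, ← IsScalarTower.algebraMap_apply P K L, map_mul,
      ← hPL, mul_assoc]
  have htopy : IntermediateField.adjoin K {algebraMap A L y} = ⊤ := by
    rw [eq_top_iff, ← hl₀, IntermediateField.adjoin_simple_le_iff]
    have hne : algebraMap P K (q₂ * q₁) ≠ 0 := by
      simpa using (IsFractionRing.injective P K).ne (mul_ne_zero hq₂ hq₁)
    have : l₀ = algebraMap K L (algebraMap P K (q₂ * q₁))⁻¹ * algebraMap A L y := by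
      rw [hyl, ← mul_assoc, ← map_mul, inv_mul_cancel₀ hne, map_one, one_mul]
    rw [this]
    exact mul_mem (IntermediateField.algebraMap_mem _ _) (IntermediateField.mem_adjoin_simple_self K _)
  have hintL : IsIntegral P (algebraMap A L y) := hint.algebraMap
  -- separability
  have hmK : minpoly K (algebraMap A L y) = (minpoly P y).map (algebraMap P K) := by
    rw [minpoly.isIntegrallyClosed_eq_field_fractions' K hintL, minpoly.algebraMap_eq hKL]
  have hsep : ((minpoly P y).map (algebraMap P K)).Separable := hmK ▸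
    (Algebra.IsSeparable.isSeparable K (algebraMap A L y))
  obtain ⟨a', b', hab⟩ := Polynomial.separable_def _ |>.mp hsep
  obtain ⟨da, hda0, hda⟩ := IsLocalization.integerNormalization_spec (nonZeroDivisors P) a'
  obtain ⟨db, hdb0, hdb⟩ := IsLocalization.integerNormalization_spec (nonZeroDivisors P) b'
  set a₀ := IsLocalization.integerNormalization (nonZeroDivisors P) a'
  set b₀ := IsLocalization.integerNormalization (nonZeroDivisors P) b'
  have hda' : a₀.map (algebraMap P K) = C (algebraMap P K da) * a' := by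
    rw [hda, Algebra.smul_def]; rfl
  have hdb' : b₀.map (algebraMap P K) = C (algebraMap P K db) * b' := by
    rw [hdb, Algebra.smul_def]; rfl
  have hsep' : C (db : P) * a₀ * minpoly P y + C (da : P) * b₀ * derivative (minpoly P y) =
      C ((da : P) * db) := by
    apply Polynomial.map_injective _ (IsFractionRing.injective P K)
    simp only [Polynomial.map_add, Polynomial.map_mul, Polynomial.map_C, hda', hdb',
      ← Polynomial.derivative_map, map_mul]
    linear_combination (C (algebraMap P K da) * C (algebraMap P K db)) * hab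
  -- generation
  have hpoly : ∀ l : L, ∃ q : P, q ≠ 0 ∧ ∃ p : P[X], algebraMap P L q * l =
      algebraMap A L (p.eval₂ (algebraMap P A) y) := by
    intro l
    have hl : l ∈ (IntermediateField.adjoin K {algebraMap A L y}).toSubalgebra := by
      rw [htopy]; exact trivial
    rw [IntermediateField.adjoin_simple_toSubalgebra_of_isAlgebraic (halgK y),
      Algebra.adjoin_singleton_eq_range_aeval] at hl
    obtain ⟨Q, rfl⟩ := hl
    obtain ⟨d, hd0, hd⟩ := IsLocalization.integerNormalization_spec (nonZeroDivisors P) Q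
    refine ⟨d, nonZeroDivisors.ne_zero hd0,
      IsLocalization.integerNormalization (nonZeroDivisors P) Q, ?_⟩
    have hd' : (IsLocalization.integerNormalization (nonZeroDivisors P) Q).map (algebraMap P K) =
        C (algebraMap P K d) * Q := by
      rw [hd, Algebra.smul_def]; rfl
    rw [← aeval_def, ← aeval_algebraMap_apply, ← aeval_map_algebraMap K, hd', map_mul, aeval_C,
      ← IsScalarTower.algebraMap_apply]
    rfl
  choose q hq p hp using fun i => hpoly (algebraMap A L (gens i))
  let h : P := (da : P) * db * ∏ i, q i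
  have hh : h ≠ 0 := mul_ne_zero (mul_ne_zero (nonZeroDivisors.ne_zero hda0)
    (nonZeroDivisors.ne_zero hdb0)) (Finset.prod_ne_zero_iff.mpr fun i _ => hq i)
  have hgen : ∀ x : A, ∃ (N : ℕ) (p : P[X]), g h ^ N * x = p.eval₂ g.toRingHom y := by
    intro x
    obtain ⟨w, rfl⟩ := hgens x
    induction w using MvPolynomial.induction_on with
    | C c =>
      exact ⟨0, C (MvPolynomial.C c), by
        rw [eval₂_C, pow_zero, one_mul, MvPolynomial.aeval_C]; exact (g.commutes c).symm⟩
    | add u u' hu hu' =>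
      obtain ⟨N, p, hp⟩ := hu
      obtain ⟨N', p', hp'⟩ := hu'
      refine ⟨N + N', C (h ^ N') * p + C (h ^ N) * p', ?_⟩
      simp only [eval₂_add, eval₂_mul, eval₂_C, eval₂_pow, map_pow, ← hp, ← hp', map_add]
      simp only [AlgHom.toRingHom_eq_coe, RingHom.coe_coe]
      ring
    | mul_X u i hu =>
      obtain ⟨N, p', hp'⟩ := hu
      obtain ⟨k, hk⟩ : q i ∣ h := Dvd.dvd.mul_left (Finset.dvd_prod_of_mem q (Finset.mem_univ i)) _
      refine ⟨N + 1, C k * p i * p', ?_⟩
      have hi : algebraMap P A (q i) * gens i = (p i).eval₂ (algebraMap P A) y := hKL (by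
        rw [map_mul, ← hPL]; exact hp i)
      have hgh : g h = g (q i) * g k := by rw [← map_mul, ← hk]
      rw [eval₂_mul, eval₂_mul, eval₂_C, ← hp', ← show algebraMap P A (q i) * gens i =
        (p i).eval₂ g.toRingHom y from hi, map_mul (MvPolynomial.aeval gens),
        MvPolynomial.aeval_X, pow_succ]
      nth_rewrite 2 [hgh]
      change _ = g k * (g (q i) * gens i) * _
      ring
  have hroot : (minpoly P y).eval₂ g.toRingHom y = 0 := minpoly.aeval P y
  refine ⟨⟨_, g, hinj, h, hh, y, minpoly P y, minpoly.monic hint, minpoly.irreducible hint,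
    hroot, fun p hp => minpoly.isIntegrallyClosed_dvd hint hp,
    C ((db : P) * ∏ i, q i) * a₀, C ((da : P) * ∏ i, q i) * b₀, ?_, hgen⟩, hgX⟩
  simp only [h, map_mul] at hsep' ⊢
  linear_combination (C (∏ i, q i)) * hsep'

end

end Groth.Agent.AnLib
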