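import Groth.Prelude.Def_AnCl
import Mathlib.CategoryTheory.Sites.DenseSubsite.SheafEquiv
import Mathlib.Algebra.Category.Grp.Limits

/-!
The opens of a space form a dense subsite of its classical site.
-/

set_option autoImplicit false

universe u

open CategoryTheory TopologicalSpace Topology Opposite

namespace Groth.Agent.AnLib

noncomputable section

variable (T : Type u) [TopologicalSpace T]

instance : (An.opensToCl T).Full where
  map_surjective {U V} f := by
    refine ⟨homOfLE fun x hx => ?_, An.Cl.hom_ext (funext fun a => Subtype.ext (f.over a).symm)⟩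
    have h : (f.toFun ⟨x, hx⟩).1 = x := f.over ⟨x, hx⟩
    exact h ▸ (f.toFun ⟨x, hx⟩).2

instance : (An.opensToCl T).Faithful where
  map_injective _ := Subsingleton.elim _ _

lemma exists_chart (A : An.Cl T) (a : A.E) : ∃ (U : Opens T) (g : (An.opensToCl T).obj U ⟶ A),
    IsOpenEmbedding g.toFun ∧ a ∈ Set.range g.toFun := by
  obtain ⟨e, ha, he⟩ := A.lh a
  let U : Opens T := ⟨e.target, e.open_target⟩
  have hg : IsOpenEmbedding (fun t : U => e.symm t.1) :=
    e.symm.isOpenEmbedding_restrict
  refine ⟨U, ⟨fun t => e.symm t.1, hg.continuous, fun t => ?_⟩, hg, ⟨⟨e a, e.map_source ha⟩, e.left_inv ha⟩⟩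
  change A.p (e.symm t.1) = t.1
  rw [he]; exact e.right_inv t.2

instance : (An.opensToCl T).IsCoverDense (An.Cl.topology T) where
  is_cover A a := by
    obtain ⟨U, g, hg, ha⟩ := exists_chart T A a
    exact ⟨_, g, Presieve.in_coverByImage _ g, hg, ha⟩

lemma map_isOpenEmbedding {U V : Opens T} (h : U ⟶ V) :
    IsOpenEmbedding ((An.opensToCl T).map h).toFun :=
  Opens.isOpenEmbedding_of_le h.le

instance : (An.opensToCl T).IsDenseSubsite (Opens.grothendieckTopology T) (An.Cl.topology T) where
  functorPushforward_mem_iff {U S} := by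
    constructor
    · intro h x hx
      obtain ⟨B, g, ⟨V, f, k, hf, rfl⟩, -, b, hb⟩ := h ⟨x, hx⟩
      have hb' : (k.toFun b).1 = x := congrArg Subtype.val hb
      exact ⟨V, f, hf, hb' ▸ (k.toFun b).2⟩
    · intro h a
      obtain ⟨V, f, hf, ha⟩ := h a.1 a.2
      exact ⟨_, (An.opensToCl T).map f, Sieve.image_mem_functorPushforward _ _ hf,
        map_isOpenEmbedding T f, ⟨a.1, ha⟩, Subtype.ext rfl⟩

theorem opCont : An.OpCont T := inferInstance

instance : Limits.HasLimitsOfSize.{u, u} AddCommGrpCat.{u + 1} :=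
  Limits.hasLimitsOfSizeShrink.{u, u, u + 1, u + 1} _

theorem resOpens_isEquivalence [An.OpCont T] : (An.resOpens T).IsEquivalence := inferInstance

end

end Groth.Agent.AnLib
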