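import Groth.Agent.AnLib.ProperConv
import Groth.Agent.AnLib.Etale
import Mathlib.AlgebraicGeometry.ZariskisMainTheorem

/-!
Proper and finite morphisms on `ℂ`-points; finite étale morphisms give coverings.
-/

set_option autoImplicit false
set_option backward.isDefEq.respectTransparency false

open CategoryTheory Limits AlgebraicGeometry TopologicalSpace Topology

namespace Groth.Agent.AnLib

noncomputable section

variable {X Y : Scheme.{0}} [X.Over An.SC] [Y.Over An.SC]
variable [LocallyOfFiniteType (X ↘ An.SC)] [LocallyOfFiniteType (Y ↘ An.SC)]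

theorem isProper_iff_pts (f : X ⟶ Y) [f.IsOver An.SC] [QuasiCompact f] :
    IsProper f ↔ IsProperMap (An.Pts.map f) ∧ IsSeparatedMap (An.Pts.map f) := by
  refine ⟨fun _ => ⟨isProperMap_map f, (isSeparated_iff_pts f).mp inferInstance⟩, fun ⟨h, h'⟩ => ?_⟩
  have := (isSeparated_iff_pts f).mpr h'
  have := universallyClosed_of_pts f h
  have := locallyOfFiniteType_map f
  exact ⟨⟩

omit [LocallyOfFiniteType (Y ↘ An.SC)] in
lemma finite_fibre_pts [LocallyOfFiniteType (Y ↘ An.SC)] (f : X ⟶ Y) [f.IsOver An.SC]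
    [LocallyQuasiFinite f] [QuasiCompact f] (y : An.Pts Y) :
    (An.Pts.map f ⁻¹' {y}).Finite := by
  refine ((f.finite_preimage_singleton y.pt).preimage pt_injective.injOn).subset fun x hx => ?_
  change f x.pt = y.pt
  rw [← An.Pts.pt_map, show An.Pts.map f x = y from hx]

lemma finite_preimage_pt (f : X ⟶ Y) [f.IsOver An.SC] (y : An.Pts Y)
    (h : (An.Pts.map f ⁻¹' {y}).Finite) : (f ⁻¹' {y.pt}).Finite := by
  refine (h.image An.Pts.pt).subset fun p hp => ?_
  by_contra hcon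
  have hclosed : IsClosed (An.Pts.pt '' (An.Pts.map f ⁻¹' {y})) := by
    rw [← Set.biUnion_of_singleton (An.Pts.pt '' (An.Pts.map f ⁻¹' {y}))]
    refine (h.image _).isClosed_biUnion fun q hq => ?_
    obtain ⟨x, -, rfl⟩ := hq
    exact isClosed_pt x
  obtain ⟨x, hx⟩ := exists_pt_mem (X := X)
    (Z := f ⁻¹' {y.pt} ∩ (An.Pts.pt '' (An.Pts.map f ⁻¹' {y}))ᶜ) ⟨p, hp, hcon⟩
    (((isClosed_pt y).preimage f.continuous).isLocallyClosed.inter
      hclosed.isOpen_compl.isLocallyClosed)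
  refine hx.2 ⟨x, ?_, rfl⟩
  exact pt_injective ((An.Pts.pt_map f x).trans hx.1)

theorem isFinite_iff_pts (f : X ⟶ Y) [f.IsOver An.SC] [QuasiCompact f] :
    IsFinite f ↔ IsProperMap (An.Pts.map f) ∧ IsSeparatedMap (An.Pts.map f) ∧
      ∀ y : An.Pts Y, (An.Pts.map f ⁻¹' {y}).Finite := by
  refine ⟨fun _ => ⟨isProperMap_map f, (isSeparated_iff_pts f).mp inferInstance,
    fun y => finite_fibre_pts f y⟩, fun ⟨h₁, h₂, h₃⟩ => ?_⟩
  have : IsProper f := (isProper_iff_pts f).mpr ⟨h₁, h₂⟩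
  let ι := {V : Y.Opens // IsFinite (f ∣_ V)}
  have htop : ⨆ V : ι, V.1 = ⊤ := by
    rw [eq_top_iff]
    intro p _
    by_contra hcon
    obtain ⟨y, hy⟩ := exists_pt_mem (X := Y) (Z := ((⨆ V : ι, V.1 : Y.Opens) : Set Y)ᶜ) ⟨p, hcon⟩
      (⨆ V : ι, V.1 : Y.Opens).2.isClosed_compl.isLocallyClosed
    obtain ⟨V, hyV, hV⟩ := exists_isFinite_morphismRestrict_of_finite_preimage_singleton f y.pt
      (finite_preimage_pt f y (h₃ y))
    exact hy (Opens.mem_iSup.mpr ⟨⟨V, hV⟩, hyV⟩)
  exact IsZariskiLocalAtTarget.of_iSup_eq_top (P := @IsFinite) _ htop fun V => V.2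

lemma self_eq_id : (An.SC ↘ An.SC) = 𝟙 An.SC := by
  change Spec.map _ = _
  rw [← Spec.map_id]
  congr 1

omit [LocallyOfFiniteType (Y ↘ An.SC)] in
theorem isProper_iff_compact_t2 [QuasiCompact (X ↘ An.SC)] :
    IsProper (X ↘ An.SC) ↔ CompactSpace (An.Pts X) ∧ T2Space (An.Pts X) := by
  have : LocallyOfFiniteType (An.SC ↘ An.SC) := by rw [self_eq_id]; infer_instance
  have : (X ↘ An.SC).IsOver An.SC := ⟨by rw [self_eq_id, Category.comp_id]⟩
  have hsub : Subsingleton (An.Pts An.SC) := ⟨fun a b => pt_injective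
    ((An.eq_cpt _).trans (An.eq_cpt _).symm)⟩
  rw [isProper_iff_pts (X ↘ An.SC), ← isSeparated_iff_pts (X ↘ An.SC), isSeparated_iff_t2]
  refine and_congr_left fun _ => ⟨fun h => ⟨?_⟩, fun _ => ?_⟩
  · exact Set.preimage_univ (f := An.Pts.map (X ↘ An.SC)) ▸ h.isCompact_preimage isCompact_univ
  · exact (An.Pts.continuous_map _).isProperMap

/-- A finite étale morphism is a covering on `ℂ`-points. -/
theorem isCoveringMap_map (f : X ⟶ Y) [f.IsOver An.SC] [IsFinite f] [Etale f] :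
    IsCoveringMap (An.Pts.map f) := by
  rw [isCoveringMap_iff_isCoveringMapOn_univ]
  intro y _
  obtain ⟨V, hV, hyV, -⟩ := Opens.isBasis_iff_nbhd.mp Y.isBasis_affineOpens
    (show y.pt ∈ (⊤ : Y.Opens) from trivial)
  let V' : Y.Opens := V
  let S : Set (An.Pts Y) := An.Pts.pt ⁻¹' (V' : Set Y)
  have hS : IsOpen S := An.Pts.isOpen_preimage_pt V'
  have hpre : An.Pts.map f ⁻¹' S = {x | x.pt ∈ f ⁻¹ᵁ V'} := by
    ext x
    change (An.Pts.map f x).pt ∈ V' ↔ f x.pt ∈ V'
    rw [An.Pts.pt_map]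
  have hU : IsAffineOpen (f ⁻¹ᵁ V') := (show IsAffineOpen V' from hV).preimage f
  have hT : T2Space {x : An.Pts X // x.pt ∈ f ⁻¹ᵁ V'} := by
    have := finiteType_sec hU
    obtain ⟨n, s, hs⟩ := exists_gens (A := Γ(X, f ⁻¹ᵁ V'))
    exact (((isClosedEmbedding_gens s hs).comp (chart hU).isClosedEmbedding)).isEmbedding.t2Space
  have : T2Space ↥(An.Pts.map f ⁻¹' S) :=
    @Topology.IsEmbedding.t2Space _ _ _ _ hT _ (Homeomorph.setCongr hpre).isEmbedding
  let g := S.restrictPreimage (An.Pts.map f)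
  have hlh : IsLocalHomeomorph g :=
    IsLocalHomeomorph.of_comp (g := (Subtype.val : S → An.Pts Y))
      ((etaleLH X Y f).comp
        (hS.preimage (An.Pts.continuous_map f)).isOpenEmbedding_subtypeVal.isLocalHomeomorph)
      hS.isOpenEmbedding_subtypeVal.isLocalHomeomorph
      (((An.Pts.continuous_map f).comp continuous_subtype_val).subtype_mk _)
  have hg : IsCoveringMap g := by
    rw [isCoveringMap_iff_isCoveringMapOn_univ]
    refine ((isProperMap_map f).restrictPreimage S).isClosedMap.isCoveringMapOn_of_isLocalHomeomorphOn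
      (fun t _ => ?_) hlh.isLocalHomeomorphOn
    exact ((finite_fibre_pts f t.1).preimage Subtype.val_injective.injOn).subset
      fun x hx => congrArg Subtype.val hx
  exact (IsCoveringMapOn.of_isCoveringMap_restrictPreimage S hS
    (hS.preimage (An.Pts.continuous_map f)) hg) y hyV

end

end Groth.Agent.AnLib
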