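import Groth.Agent.AnLib.ProperMap

/-!
A quasi-compact morphism which is proper on `ℂ`-points is universally closed: the finite type base
changes are closed on `ℂ`-points, and an arbitrary base is a limit of finite type ones.
-/

set_option autoImplicit false
set_option backward.isDefEq.respectTransparency false

open CategoryTheory Limits AlgebraicGeometry TopologicalSpace Topology

namespace Groth.Agent.AnLib

noncomputable section

lemma exists_preimage_of_isPullback {P X Y Z : Scheme.{0}} {fst : P ⟶ X} {snd : P ⟶ Y} {f : X ⟶ Z}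
    {g : Y ⟶ Z} (h : IsPullback fst snd f g) (x : X) (y : Y) (e : f x = g y) :
    ∃ z : P, fst z = x ∧ snd z = y := by
  obtain ⟨w, hw₁, hw₂⟩ := Scheme.Pullback.exists_preimage_pullback x y e
  refine ⟨h.isoPullback.inv w, ?_, ?_⟩
  · rw [← Scheme.Hom.comp_apply, h.isoPullback_inv_fst, hw₁]
  · rw [← Scheme.Hom.comp_apply, h.isoPullback_inv_snd, hw₂]

lemma isCompact_fibre {P T : Scheme.{0}} (g : P ⟶ T) [QuasiCompact g] (p : T) :
    IsCompact (g ⁻¹' {p}) := by
  have : CompactSpace ↥(pullback g (T.fromSpecResidueField p)) :=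
    (quasiCompact_iff_compactSpace (pullback.snd g (T.fromSpecResidueField p))).mp inferInstance
  rw [← Scheme.range_fromSpecResidueField, ← Scheme.Pullback.range_fst]
  exact isCompact_range (Scheme.Hom.continuous _)

lemma exists_finset_mem_closure {R S : Type*} [CommRing R] (A : Set R) (g : S → R) {w : R}
    (hw : w ∈ Subring.closure (A ∪ Set.range g)) :
    ∃ J : Finset S, w ∈ Subring.closure (A ∪ g '' ↑J) := by
  classical
  have mono : ∀ {J J' : Finset S}, J ⊆ J' →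
      Subring.closure (A ∪ g '' ↑J) ≤ Subring.closure (A ∪ g '' ↑J') := fun h =>
    Subring.closure_mono (Set.union_subset_union_right _ (Set.image_mono (Finset.coe_subset.mpr h)))
  induction hw using Subring.closure_induction with
  | mem x hx =>
    rcases hx with hx | ⟨j, rfl⟩
    · exact ⟨∅, Subring.subset_closure (Or.inl hx)⟩
    · exact ⟨{j}, Subring.subset_closure (Or.inr ⟨j, by simp, rfl⟩)⟩
  | zero => exact ⟨∅, zero_mem _⟩
  | one => exact ⟨∅, one_mem _⟩
  | add x y _ _ hx hy =>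
    obtain ⟨J, hJ⟩ := hx
    obtain ⟨J', hJ'⟩ := hy
    exact ⟨J ∪ J', add_mem (mono Finset.subset_union_left hJ) (mono Finset.subset_union_right hJ')⟩
  | neg x _ hx =>
    obtain ⟨J, hJ⟩ := hx
    exact ⟨J, neg_mem hJ⟩
  | mul x y _ _ hx hy =>
    obtain ⟨J, hJ⟩ := hx
    obtain ⟨J', hJ'⟩ := hy
    exact ⟨J ∪ J', mul_mem (mono Finset.subset_union_left hJ) (mono Finset.subset_union_right hJ')⟩

variable {X Y : Scheme.{0}} [X.Over An.SC] [Y.Over An.SC]
variable [LocallyOfFiniteType (X ↘ An.SC)] [LocallyOfFiniteType (Y ↘ An.SC)]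

/-- The finite type base changes of a morphism which is proper on points are closed. -/
lemma isClosedMap_snd_of_pts {T : Scheme.{0}} [T.Over An.SC] [LocallyOfFiniteType (T ↘ An.SC)]
    (f : X ⟶ Y) [f.IsOver An.SC] [QuasiCompact f] (hf : IsProperMap (An.Pts.map f))
    (q : T ⟶ Y) [q.IsOver An.SC] : IsClosedMap (pullback.snd f q) := by
  have := locallyOfFiniteType_map f
  have : LocallyOfFiniteType (pullback f q ↘ An.SC) := by
    change LocallyOfFiniteType (pullback.fst f q ≫ X ↘ An.SC)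
    have := locallyOfFiniteType_map q
    infer_instance
  have : (pullback.snd f q).IsOver An.SC := ⟨by
    change pullback.snd f q ≫ (T ↘ An.SC) = pullback.fst f q ≫ (X ↘ An.SC)
    rw [← comp_over q, ← comp_over f, pullback.condition_assoc]⟩
  intro Z hZ
  have hpts : IsClosedMap (An.Pts.map (pullback.snd f q)) := by
    let G : Set (An.Pts Y × An.Pts T) := {w | w.1 = An.Pts.map q w.2}
    have h1 : IsProperMap (G.restrictPreimage (Prod.map (An.Pts.map f) (id : An.Pts T → An.Pts T))) :=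
      (hf.prodMap isProperMap_id).restrictPreimage G
    let eG : ↥G ≃ₜ An.Pts T :=
      { toFun := fun w => w.1.2
        invFun := fun t => ⟨(An.Pts.map q t, t), rfl⟩
        left_inv := fun w => Subtype.ext (Prod.ext w.2.symm rfl)
        right_inv := fun _ => rfl
        continuous_toFun := continuous_snd.comp continuous_subtype_val
        continuous_invFun := ((An.Pts.continuous_map q).prodMk continuous_id).subtype_mk _ }
    exact (eG.isClosedMap.comp h1.isClosedMap).comp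
      (isHomeomorph_pullback (S := Y) f q).isClosedMap
  have himg : An.Pts.pt ⁻¹' (pullback.snd f q '' Z) =
      An.Pts.map (pullback.snd f q) '' (An.Pts.pt ⁻¹' Z) := by
    ext t
    refine ⟨fun ⟨z, hz, e⟩ => ?_, fun ⟨x, hx, e⟩ => ⟨x.pt, hx, e ▸ (An.Pts.pt_map _ x).symm⟩⟩
    obtain ⟨x, hx, e'⟩ := exists_pt_over (pullback.snd f q) t hZ.isLocallyClosed ⟨z, hz, e⟩
    exact ⟨x, hx, e'⟩
  have := locallyOfFinitePresentation_map (pullback.snd f q)
  refine isClosed_of_pts ((pullback.snd f q).isLocallyConstructible_image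
    (isLocallyConstructible_closed hZ)) ?_
  rw [himg]
  exact hpts _ (hZ.preimage An.Pts.continuous_pt)

omit [LocallyOfFiniteType (X ↘ An.SC)] in
/-- An affine base is approximated by finite type ones. -/
lemma isClosedMap_snd_affine (f : X ⟶ Y) [QuasiCompact f]
    (hft : ∀ (T' : Scheme.{0}) [T'.Over An.SC] [LocallyOfFiniteType (T' ↘ An.SC)] (q : T' ⟶ Y)
      [q.IsOver An.SC], IsClosedMap (pullback.snd f q))
    {T : Scheme.{0}} [IsAffine T] (q : T ⟶ Y) {V : Y.Opens} (hV : IsAffineOpen V)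
    (hle : (⊤ : T.Opens) ≤ q ⁻¹ᵁ V) : IsClosedMap (pullback.snd f q) := by
  classical
  intro Z hZ
  rw [← isOpen_compl_iff, isOpen_iff_forall_mem_open]
  intro p hp
  let pf := pullback.fst f q
  let ps := pullback.snd f q
  -- basic opens around the points of the fibre
  have key : ∀ z : ↥(pullback f q), ps z = p → ∃ (W : X.Opens) (h : Γ(pullback f q,
      pf ⁻¹ᵁ W ⊓ ps ⁻¹ᵁ ⊤)) (J : Finset Γ(T, ⊤)), W ≤ f ⁻¹ᵁ V ∧
      z ∈ (pullback f q).basicOpen h ∧ ((pullback f q).basicOpen h : Set ↥(pullback f q)) ⊆ Zᶜ ∧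
      h ∈ Subring.closure (Set.range (pf.appLE W _ inf_le_left) ∪
        (ps.appLE ⊤ (pf ⁻¹ᵁ W ⊓ ps ⁻¹ᵁ ⊤) inf_le_right) '' ↑J) := by
    intro z hz
    have hzV : pf z ∈ f ⁻¹ᵁ V := by
      change f (pullback.fst f q z) ∈ V
      rw [← Scheme.Hom.comp_apply, pullback.condition, Scheme.Hom.comp_apply]
      exact hle (x := pullback.snd f q z) trivial
    obtain ⟨W, hW, hzW, hWle⟩ := Opens.isBasis_iff_nbhd.mp X.isBasis_affineOpens hzV
    let W' : X.Opens := W
    obtain ⟨haff, hgen⟩ :=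
      exists_affine_box f q (US := V) (UX := W') (UY := ⊤) hV hW (isAffineOpen_top T) hWle hle
    have hzZ : z ∉ Z := fun h => hp ⟨z, h, hz⟩
    let Zc : (pullback f q).Opens := ⟨Zᶜ, hZ.isOpen_compl⟩
    obtain ⟨h, hh, hzh⟩ := haff.exists_basicOpen_le (V := Zc) ⟨z, hzZ⟩ ⟨hzW, trivial⟩
    obtain ⟨J, hJ⟩ := exists_finset_mem_closure _ _ (hgen ▸ Subring.mem_top h :)
    exact ⟨W', h, J, hWle, hzh, hh, hJ⟩
  choose! W h J hWle hzh hsub hJ using key
  obtain ⟨t, ht⟩ := (isCompact_fibre ps p).elim_finite_subcover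
    (fun z : {z : ↥(pullback f q) // ps z = p} =>
      ((pullback f q).basicOpen (h z.1) : Set ↥(pullback f q)))
    (fun z => ((pullback f q).basicOpen (h z.1)).2)
    (fun z hz => Set.mem_iUnion.mpr ⟨⟨z, hz⟩, hzh z hz⟩)
  let J₀ : Finset Γ(T, ⊤) := t.biUnion fun z => J z.1
  -- the finite type base
  let : Algebra Γ(Y, V) Γ(T, ⊤) := (q.appLE V ⊤ hle).hom.toAlgebra
  let SJ : Subalgebra Γ(Y, V) Γ(T, ⊤) := Algebra.adjoin Γ(Y, V) (↑J₀ : Set Γ(T, ⊤))
  have : Algebra.FiniteType Γ(Y, V) SJ :=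
    SJ.fg_iff_finiteType.mp ⟨J₀, rfl⟩
  let TJ : Scheme.{0} := Spec (CommRingCat.of SJ)
  let qJ : TJ ⟶ Y := Spec.map (CommRingCat.ofHom (algebraMap Γ(Y, V) SJ)) ≫ hV.fromSpec
  let : TJ.Over An.SC := ⟨qJ ≫ Y ↘ An.SC⟩
  have : qJ.IsOver An.SC := ⟨rfl⟩
  have : LocallyOfFiniteType (TJ ↘ An.SC) := by
    change LocallyOfFiniteType (qJ ≫ Y ↘ An.SC)
    have : LocallyOfFiniteType (Spec.map (CommRingCat.ofHom (algebraMap Γ(Y, V) SJ))) :=
      (HasRingHomProperty.Spec_iff (P := @LocallyOfFiniteType)).mpr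
        (RingHom.finiteType_algebraMap.mpr inferInstance)
    infer_instance
  let tJ : T ⟶ TJ := T.isoSpec.hom ≫ Spec.map (CommRingCat.ofHom SJ.val.toRingHom)
  have htJ : tJ ≫ qJ = q := by
    have e := IsAffineOpen.SpecMap_appLE_fromSpec q hV (isAffineOpen_top T) hle
    rw [IsAffineOpen.fromSpec_top] at e
    simp only [tJ, qJ, Category.assoc, ← Spec.map_comp_assoc]
    have : CommRingCat.ofHom (algebraMap Γ(Y, V) SJ) ≫ CommRingCat.ofHom SJ.val.toRingHom =
        q.appLE V ⊤ hle := rfl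
    rw [this, e, Iso.hom_inv_id_assoc]
  let qf := pullback.fst f qJ
  let qs := pullback.snd f qJ
  let π : pullback f q ⟶ pullback f qJ :=
    pullback.map f q f qJ (𝟙 X) tJ (𝟙 Y) (by simp) (by simp [htJ])
  have hπf : π ≫ qf = pf := (pullback.lift_fst _ _ _).trans (Category.comp_id _)
  have hπs : π ≫ qs = ps ≫ tJ := pullback.lift_snd _ _ _
  have hsq : IsPullback π ps qs tJ :=
    IsPullback.of_right (by rw [hπf, htJ]; exact IsPullback.of_hasPullback f q) hπs
      (IsPullback.of_hasPullback f qJ)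
  have hstep : ∀ z ∈ t, ∃ O : (pullback f qJ).Opens,
      π ⁻¹ᵁ O = (pullback f q).basicOpen (h z.1) := by
    intro z hzt
    let P0 : (pullback f q).Opens := pf ⁻¹ᵁ W z.1 ⊓ ps ⁻¹ᵁ ⊤
    let P1 : (pullback f qJ).Opens := qf ⁻¹ᵁ W z.1 ⊓ qs ⁻¹ᵁ ⊤
    have e : π ⁻¹ᵁ P1 = P0 := by
      simp only [P1, P0, Scheme.Hom.preimage_inf, Scheme.Hom.preimage_top, inf_top_eq,
        ← Scheme.Hom.comp_preimage, hπf]
    have hmem : h z.1 ∈ (π.appLE P1 P0 e.ge).hom.range := by
      have hJ' : h z.1 ∈ Subring.closure (Set.range (pf.appLE (W z.1) P0 inf_le_left) ∪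
          (ps.appLE ⊤ P0 inf_le_right) '' ↑(J z.1)) := hJ z.1 z.2
      refine Subring.closure_le.mpr ?_ hJ'
      rintro _ (⟨a, rfl⟩ | ⟨j, hj, rfl⟩)
      · refine ⟨qf.appLE (W z.1) P1 inf_le_left a, ?_⟩
        rw [← CommRingCat.comp_apply, Scheme.Hom.appLE_comp_appLE]
        simp only [hπf]
      · have hjS : j ∈ SJ := Algebra.subset_adjoin (Finset.mem_biUnion.mpr ⟨z, hzt, hj⟩)
        refine ⟨qs.appLE ⊤ P1 inf_le_right
          ((Scheme.ΓSpecIso (CommRingCat.of SJ)).inv ⟨j, hjS⟩), ?_⟩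
        rw [← CommRingCat.comp_apply, Scheme.Hom.appLE_comp_appLE]
        simp only [hπs]
        have e1 : (ps ≫ tJ).appLE ⊤ P0 le_top = tJ.appTop ≫ ps.appLE ⊤ P0 inf_le_right :=
          Scheme.Hom.comp_appLE _ _ _ _ _
        rw [e1, CommRingCat.comp_apply]
        congr 1
        have e2 : tJ.appTop = (Scheme.ΓSpecIso (CommRingCat.of SJ)).hom ≫
            CommRingCat.ofHom SJ.val.toRingHom := by
          change (T.toSpecΓ ≫ Spec.map (CommRingCat.ofHom SJ.val.toRingHom)).appTop = _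
          rw [Scheme.Hom.comp_appTop, Scheme.toSpecΓ_appTop, Scheme.ΓSpecIso_naturality]
        rw [e2, ← CommRingCat.comp_apply, Iso.inv_hom_id_assoc]
        rfl
    obtain ⟨hz', hhz⟩ := hmem
    refine ⟨(pullback f qJ).basicOpen hz', ?_⟩
    rw [← hhz, Scheme.basicOpen_appLE, eq_comm, inf_eq_right]
    change π ⁻¹ᵁ _ ≤ P0
    rw [← e]
    exact π.preimage_mono ((pullback f qJ).basicOpen_le hz')
  choose O hO using hstep
  let OO : (pullback f qJ).Opens := ⨆ z : {z // z ∈ t}, O z.1 z.2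
  have hcov : ∀ w : ↥(pullback f qJ), qs w = tJ p → w ∈ OO := by
    intro w hw
    obtain ⟨v, hv₁, hv₂⟩ := exists_preimage_of_isPullback hsq w p hw
    obtain ⟨z, hz, hvz⟩ := Set.mem_iUnion₂.mp (ht (show v ∈ ps ⁻¹' {p} from hv₂))
    rw [SetLike.mem_coe, ← hO z hz] at hvz
    exact Opens.mem_iSup.mpr ⟨⟨z, hz⟩, hv₁ ▸ hvz⟩
  refine ⟨tJ ⁻¹' (qs '' (OO : Set ↥(pullback f qJ))ᶜ)ᶜ, ?_,
    ((hft TJ qJ _ OO.2.isClosed_compl).isOpen_compl.preimage tJ.continuous),
    fun ⟨w, hw, e⟩ => hw (hcov w e)⟩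
  rintro p' hp' ⟨v, hvZ, rfl⟩
  refine hp' ⟨π v, ?_, ?_⟩
  · intro hOO
    obtain ⟨z, hz⟩ := Opens.mem_iSup.mp hOO
    have : v ∈ π ⁻¹ᵁ O z.1 z.2 := hz
    rw [hO] at this
    exact hsub z.1.1 z.1.2 this hvZ
  · rw [← Scheme.Hom.comp_apply, hπs, Scheme.Hom.comp_apply]

/-- Proper on points implies universally closed. -/
theorem universallyClosed_of_pts (f : X ⟶ Y) [f.IsOver An.SC] [QuasiCompact f]
    (hf : IsProperMap (An.Pts.map f)) : UniversallyClosed f := by
  have hft : ∀ (T' : Scheme.{0}) [T'.Over An.SC] [LocallyOfFiniteType (T' ↘ An.SC)] (q : T' ⟶ Y)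
      [q.IsOver An.SC], IsClosedMap (pullback.snd f q) :=
    fun T' _ _ q _ => isClosedMap_snd_of_pts f hf q
  refine ⟨fun {X' Y'} i₁ i₂ f' H₀ => ?_⟩
  have H := H₀.flip
  intro Z hZ
  rw [← isOpen_compl_iff, isOpen_iff_forall_mem_open]
  intro p hp
  obtain ⟨V, hV, hpV, -⟩ := Opens.isBasis_iff_nbhd.mp Y.isBasis_affineOpens
    (show i₂ p ∈ (⊤ : Y.Opens) from trivial)
  let V' : Y.Opens := V
  obtain ⟨U, hU, hpU, hUle⟩ := Opens.isBasis_iff_nbhd.mp Y'.isBasis_affineOpens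
    (show p ∈ i₂ ⁻¹ᵁ V' from hpV)
  let U' : Y'.Opens := U
  have : IsAffine U'.toScheme := hU
  let q : U'.toScheme ⟶ Y := U'.ι ≫ i₂
  have hcl := isClosedMap_snd_affine f hft q (V := V') hV fun u _ => by
    change (U'.ι ≫ i₂) u ∈ V'
    rw [Scheme.Hom.comp_apply]
    exact hUle u.2
  let j : pullback f q ⟶ X' := H.lift (pullback.fst f q) (pullback.snd f q ≫ U'.ι)
    (by rw [pullback.condition, Category.assoc])
  have hsq : IsPullback j (pullback.snd f q) f' U'.ι :=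
    IsPullback.of_right (by rw [H.lift_fst]; exact IsPullback.of_hasPullback f q)
      (H.lift_snd _ _ _) H
  have hC := hcl _ (hZ.preimage j.continuous)
  refine ⟨U'.ι '' (pullback.snd f q '' (j ⁻¹' Z))ᶜ, ?_,
    U'.ι.isOpenEmbedding.isOpenMap _ hC.isOpen_compl, ⟨⟨p, hpU⟩, ?_, rfl⟩⟩
  · rintro _ ⟨u, hu, rfl⟩ ⟨v, hv, e⟩
    obtain ⟨w, hw₁, hw₂⟩ := exists_preimage_of_isPullback hsq v u e
    exact hu ⟨w, by rw [Set.mem_preimage, hw₁]; exact hv, hw₂⟩
  · rintro ⟨w, hw, e⟩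
    refine hp ⟨j w, hw, ?_⟩
    rw [← Scheme.Hom.comp_apply, H.lift_snd, Scheme.Hom.comp_apply, e]
    rfl

end

end Groth.Agent.AnLib
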