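import Groth.Agent.AnLib.Basic
import Groth.Agent.AnLib.Finite

/-!
Closed points, constructible sets and the complex topology.
-/

set_option autoImplicit false
set_option backward.isDefEq.respectTransparency false

open CategoryTheory AlgebraicGeometry TopologicalSpace Topology

namespace Groth.Agent.AnLib

noncomputable section

open An

variable {X Y : Scheme.{0}} [X.Over SC] [Y.Over SC]
variable [LocallyOfFiniteType (X ↘ SC)]

lemma jacobson (X : Scheme.{0}) [X.Over SC] [LocallyOfFiniteType (X ↘ SC)] : JacobsonSpace X :=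
  LocallyOfFiniteType.jacobsonSpace (X ↘ SC)

lemma locNoetherian (X : Scheme.{0}) [X.Over SC] [LocallyOfFiniteType (X ↘ SC)] :
    IsLocallyNoetherian X :=
  have : IsNoetherianRing (CommRingCat.of ℂ) := inferInstanceAs (IsNoetherianRing ℂ)
  LocallyOfFiniteType.isLocallyNoetherian (X ↘ SC)

lemma cpt_eq : (An.cpt : SC) = IsLocalRing.closedPoint (ℂ) := Subsingleton.elim (α := PrimeSpectrum ℂ) _ _

lemma isClosed_pt (x : Pts X) : IsClosed ({x.pt} : Set X) := by
  have h := ((pointEquivClosedPoint (X ↘ SC)) x).2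
  rw [An.Pts.pt, cpt_eq]
  exact h

lemma pt_injective : Function.Injective (An.Pts.pt : Pts X → X) := fun x y h => by
  refine Subtype.ext (ext_of_apply_closedPoint_eq (X ↘ SC) x.2 y.2 ?_)
  rw [← cpt_eq]
  exact h

lemma exists_pt_eq {p : X} (hp : IsClosed ({p} : Set X)) : ∃ x : Pts X, x.pt = p :=
  ⟨⟨pointOfClosedPoint (X ↘ SC) p hp, pointOfClosedPoint_comp _ _ _⟩, pointOfClosedPoint_apply _ _ _ _⟩

lemma exists_pt_mem {Z : Set X} (hZ : Z.Nonempty) (hZ' : IsLocallyClosed Z) :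
    ∃ x : Pts X, x.pt ∈ Z := by
  have := jacobson X
  obtain ⟨p, hpZ, hp⟩ := nonempty_inter_closedPoints hZ hZ'
  obtain ⟨x, rfl⟩ := exists_pt_eq hp
  exact ⟨x, hpZ⟩

omit [X.Over SC] [LocallyOfFiniteType (X ↘ SC)] in
lemma exists_open_of_constructible {T : Type*} [TopologicalSpace T] {s : Set T}
    (hs : IsConstructible s) :
    (∀ ξ ∈ s, ∃ V : Set T, IsOpen V ∧ ξ ∈ V ∧ V ∩ closure {ξ} ⊆ s) ∧
      (∀ ξ ∈ sᶜ, ∃ V : Set T, IsOpen V ∧ ξ ∈ V ∧ V ∩ closure {ξ} ⊆ sᶜ) := by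
  refine BooleanSubalgebra.closure_bot_sup_induction
    (p := fun s _ => (∀ ξ ∈ s, ∃ V : Set T, IsOpen V ∧ ξ ∈ V ∧ V ∩ closure {ξ} ⊆ s) ∧
      (∀ ξ ∈ sᶜ, ∃ V : Set T, IsOpen V ∧ ξ ∈ V ∧ V ∩ closure {ξ} ⊆ sᶜ))
    (fun U hU => ⟨fun ξ hξ => ⟨U, hU.1, hξ, Set.inter_subset_left⟩,
      fun ξ hξ => ⟨Set.univ, isOpen_univ, trivial, by
        rw [Set.univ_inter]
        exact (closure_minimal (by simpa using hξ) hU.1.isClosed_compl)⟩⟩)
    ⟨fun ξ hξ => absurd hξ (Set.notMem_empty ξ), fun ξ _ =>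
      ⟨Set.univ, isOpen_univ, trivial, by simp⟩⟩
    (fun a _ b _ ha hb => ⟨?_, ?_⟩) (fun a _ ha => ⟨ha.2, by simpa using ha.1⟩) hs
  · rintro ξ (hξ | hξ)
    · obtain ⟨V, hV, hξV, h⟩ := ha.1 ξ hξ
      exact ⟨V, hV, hξV, h.trans Set.subset_union_left⟩
    · obtain ⟨V, hV, hξV, h⟩ := hb.1 ξ hξ
      exact ⟨V, hV, hξV, h.trans Set.subset_union_right⟩
  · intro ξ hξ
    simp only [Set.sup_eq_union, Set.compl_union, Set.mem_inter_iff] at hξ ⊢
    obtain ⟨V, hV, hξV, h⟩ := ha.2 ξ hξ.1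
    obtain ⟨V', hV', hξV', h'⟩ := hb.2 ξ hξ.2
    exact ⟨V ∩ V', hV.inter hV', ⟨hξV, hξV'⟩, fun p hp =>
      ⟨h ⟨hp.1.1, hp.2⟩, h' ⟨hp.1.2, hp.2⟩⟩⟩

omit [X.Over SC] [LocallyOfFiniteType (X ↘ SC)] in
lemma exists_open_of_locallyConstructible {T : Type*} [TopologicalSpace T] {s : Set T}
    (hs : IsLocallyConstructible s) {ξ : T} (hξ : ξ ∈ s) :
    ∃ V : Set T, IsOpen V ∧ ξ ∈ V ∧ V ∩ closure {ξ} ⊆ s := by
  obtain ⟨U, hU, hUo, hUc⟩ := hs ξ
  obtain ⟨V, hV, hξV, h⟩ := (exists_open_of_constructible hUc).1 ⟨ξ, mem_of_mem_nhds hU⟩ hξ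
  refine ⟨Subtype.val '' V, hUo.isOpenMap_subtype_val V hV, ⟨_, hξV, rfl⟩, ?_⟩
  rintro _ ⟨⟨p, hpV, rfl⟩, hp⟩
  refine h ⟨hpV, ?_⟩
  rw [closure_subtype, Set.image_singleton]
  exact hp

lemma exists_pt_mem_constructible {T : Set X} (hT : IsLocallyConstructible T) (hne : T.Nonempty) :
    ∃ x : Pts X, x.pt ∈ T := by
  obtain ⟨ξ, hξ⟩ := hne
  obtain ⟨V, hV, hξV, hsub⟩ := exists_open_of_locallyConstructible hT hξ
  obtain ⟨x, hx⟩ := exists_pt_mem (X := X) (Z := V ∩ closure {ξ})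
    ⟨ξ, hξV, subset_closure rfl⟩ (hV.isLocallyClosed.inter isClosed_closure.isLocallyClosed)
  exact ⟨x, hsub hx⟩

omit [X.Over SC] [LocallyOfFiniteType (X ↘ SC)] in
lemma isRetrocompact_open {T : Type*} [TopologicalSpace T] [NoetherianSpace T] (U : Set T) :
    IsRetrocompact U := fun _V _ _ => NoetherianSpace.isCompact _

lemma noetherianSpace_affine {U : X.Opens} (hU : IsAffineOpen U) : NoetherianSpace U := by
  have := finiteType_sec hU
  have : IsNoetherianRing Γ(X, U) := Algebra.FiniteType.isNoetherianRing ℂ _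
  exact noetherianSpace_of_isAffineOpen U hU

lemma isLocallyConstructible_open {U : Set X} (hU : IsOpen U) : IsLocallyConstructible U := by
  intro p
  obtain ⟨V, hV, hpV⟩ : ∃ V : X.Opens, IsAffineOpen V ∧ p ∈ V := by
    obtain ⟨V, hV, hpV, -⟩ := Opens.isBasis_iff_nbhd.mp X.isBasis_affineOpens
      (show p ∈ (⊤ : X.Opens) from trivial)
    exact ⟨V, hV, hpV⟩
  have : NoetherianSpace (V : Set X) := noetherianSpace_affine hV
  exact ⟨V, V.2.mem_nhds hpV, V.2,
    (isRetrocompact_open _).isConstructible (hU.preimage continuous_subtype_val)⟩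

omit [X.Over SC] [LocallyOfFiniteType (X ↘ SC)] in
lemma isLocallyConstructible_compl {T : Set X} (hT : IsLocallyConstructible T) :
    IsLocallyConstructible Tᶜ := by
  intro p
  obtain ⟨U, hU, hUo, hUc⟩ := hT p
  exact ⟨U, hU, hUo, hUc.compl⟩

lemma isLocallyConstructible_closed {Z : Set X} (hZ : IsClosed Z) : IsLocallyConstructible Z := by
  simpa using isLocallyConstructible_compl (isLocallyConstructible_open hZ.isOpen_compl)

lemma isLocallyConstructible_locClosed {Z : Set X} (hZ : IsLocallyClosed Z) :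
    IsLocallyConstructible Z := by
  obtain ⟨U, V, hU, hV, rfl⟩ := hZ
  exact (isLocallyConstructible_open hU).inter (isLocallyConstructible_closed hV)

omit [X.Over SC] [LocallyOfFiniteType (X ↘ SC)] in
/-- The prime of a point in the sections over an open containing it. -/
def primeAt {U : X.Opens} (ξ : X) (h : ξ ∈ U) : Ideal Γ(X, U) :=
  (IsLocalRing.maximalIdeal (X.presheaf.stalk ξ)).comap (X.presheaf.germ U ξ h).hom

omit [X.Over SC] [LocallyOfFiniteType (X ↘ SC)] in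
instance primeAt_isPrime {U : X.Opens} (ξ : X) (h : ξ ∈ U) : (primeAt ξ h).IsPrime :=
  Ideal.comap_isPrime _ _

omit [X.Over SC] [LocallyOfFiniteType (X ↘ SC)] in
lemma mem_primeAt {U : X.Opens} (ξ : X) (h : ξ ∈ U) (f : Γ(X, U)) :
    f ∈ primeAt ξ h ↔ ξ ∉ X.basicOpen f := by
  rw [Scheme.mem_basicOpen _ _ _ h, primeAt, Ideal.mem_comap, IsLocalRing.mem_maximalIdeal]
  rfl

omit [LocallyOfFiniteType (X ↘ SC)] in
lemma le_ker_iff {U : X.Opens} (hU : IsAffineOpen U) (ξ : X) (hξ : ξ ∈ U) (x : Pts X)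
    (hx : x.pt ∈ U) : primeAt ξ hξ ≤ RingHom.ker (toHom x U hx) ↔ x.pt ∈ closure {ξ} := by
  constructor
  · intro h
    rw [mem_closure_iff]
    intro V hV hxV
    obtain ⟨f, hfV, hxf⟩ := hU.exists_basicOpen_le (V := ⟨V, hV⟩) ⟨_, hxV⟩ hx
    refine ⟨ξ, hfV ?_, rfl⟩
    by_contra hξf
    exact (mem_basicOpen_iff x hx f).mp hxf (h ((mem_primeAt ξ hξ f).mpr hξf))
  · intro h f hf
    by_contra hne
    obtain ⟨p, hp, rfl : p = ξ⟩ := mem_closure_iff.mp h _ (X.basicOpen f).2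
      ((mem_basicOpen_iff x hx f).mpr hne)
    exact (mem_primeAt p hξ f).mp hf hp

/-- The complex closure of the points of a constructible set. -/
theorem preimage_closure {T : Set X} (hT : IsLocallyConstructible T) :
    (An.Pts.pt ⁻¹' closure T : Set (Pts X)) = closure (An.Pts.pt ⁻¹' T) := by
  refine le_antisymm (fun x hx => ?_) (An.Pts.continuous_pt.closure_preimage_subset T)
  -- a point of `T` generalising `x.pt`
  obtain ⟨U, hU, hxU⟩ : ∃ U : X.Opens, IsAffineOpen U ∧ x.pt ∈ U := by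
    obtain ⟨U, hU, hxU, -⟩ := Opens.isBasis_iff_nbhd.mp X.isBasis_affineOpens
      (show x.pt ∈ (⊤ : X.Opens) from trivial)
    exact ⟨U, hU, hxU⟩
  have := noetherianSpace_affine hU
  let P : Closeds U → Prop := fun Z =>
    (⟨x.pt, hxU⟩ : U) ∈ closure ((Subtype.val ⁻¹' T) ∩ (Z : Set U))
  have htop : P ⊤ := by
    simp only [P, Closeds.coe_top, Set.inter_univ]
    exact (U.2.isOpenMap_subtype_val.preimage_closure_eq_closure_preimage
      continuous_subtype_val T).le hx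
  obtain ⟨Z, hZ, hmin⟩ := (wellFounded_lt (α := Closeds U)).has_min {Z | P Z} ⟨⊤, htop⟩
  have hxZ : (⟨x.pt, hxU⟩ : U) ∈ (Z : Set U) :=
    (closure_minimal Set.inter_subset_right Z.2) hZ
  have hirr : IsIrreducible (Z : Set U) := by
    refine ⟨⟨_, hxZ⟩, isPreirreducible_iff_isClosed_union_isClosed.mpr fun A B hA hB hsub => ?_⟩
    by_contra hcon
    push Not at hcon
    have h1 : ¬ P (Z ⊓ ⟨A, hA⟩) := fun h => hmin _ h (lt_of_le_of_ne inf_le_left fun e =>
      hcon.1 (fun p hp => ((e.symm.le hp : _)).2))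
    have h2 : ¬ P (Z ⊓ ⟨B, hB⟩) := fun h => hmin _ h (lt_of_le_of_ne inf_le_left fun e =>
      hcon.2 (fun p hp => ((e.symm.le hp : _)).2))
    have : (⟨x.pt, hxU⟩ : U) ∈ closure
        ((Subtype.val ⁻¹' T) ∩ (Z ∩ A : Set U) ∪ (Subtype.val ⁻¹' T) ∩ (Z ∩ B : Set U)) := by
      refine closure_mono ?_ hZ
      rintro p ⟨hpT, hpZ⟩
      rcases hsub hpZ with h | h
      · exact Or.inl ⟨hpT, hpZ, h⟩
      · exact Or.inr ⟨hpT, hpZ, h⟩
    rw [closure_union] at this
    exact this.elim h1 h2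
  obtain ⟨η, hη⟩ := QuasiSober.sober hirr Z.2
  have hηT : η.1 ∈ T := by
    by_contra hηT
    obtain ⟨V, hV, hηV, hVsub⟩ :=
      exists_open_of_locallyConstructible (isLocallyConstructible_compl hT) hηT
    let Z' : Closeds U := Z ⊓ ⟨(Subtype.val ⁻¹' V)ᶜ, (hV.preimage continuous_subtype_val).isClosed_compl⟩
    refine hmin Z' ?_ (lt_of_le_of_ne inf_le_left fun e => ?_)
    · refine closure_mono ?_ hZ
      rintro p ⟨hpT, hpZ⟩
      refine ⟨hpT, hpZ, fun hpV => hVsub ⟨hpV, ?_⟩ hpT⟩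
      have : p ∈ closure ({η} : Set U) := by rw [hη.def]; exact hpZ
      rw [closure_subtype, Set.image_singleton] at this
      exact this
    · have : η ∈ (Z : Set U) := hη.mem
      exact (e.symm.le this : _).2 hηV
  have hxη : x.pt ∈ closure ({η.1} : Set X) := by
    have : (⟨x.pt, hxU⟩ : U) ∈ closure ({η} : Set U) := by rw [hη.def]; exact hxZ
    rwa [closure_subtype, Set.image_singleton] at this
  obtain ⟨V, hV, hηV, hVsub⟩ := exists_open_of_locallyConstructible hT hηT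
  obtain ⟨h, hhV, hηh⟩ := hU.exists_basicOpen_le (V := ⟨V, hV⟩) ⟨_, hηV⟩ η.2
  have := finiteType_sec hU
  have hh : h ∉ primeAt η.1 η.2 := fun hmem => (mem_primeAt η.1 η.2 h).mp hmem hηh
  have hmem := mem_closure_ne_zero (primeAt η.1 η.2) hh (toHom x U hxU)
    ((le_ker_iff hU η.1 η.2 x hxU).mpr hxη)
  rw [← ofHom_toHom x hU hxU]
  refine map_mem_closure (continuous_ofHom hU) hmem fun φ ⟨hφq, hφh⟩ => ?_
  have e := toHom_ofHom hU φ
  refine hVsub ⟨hhV ((mem_basicOpen_iff _ (pt_ofHom hU φ) h).mpr ?_), ?_⟩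
  · rw [← toHom_apply, e]; exact hφh
  · rw [← le_ker_iff hU η.1 η.2 _ (pt_ofHom hU φ), e]; exact hφq

/-- A constructible set is closed when its points are closed. -/
theorem isClosed_of_pts {T : Set X} (hT : IsLocallyConstructible T)
    (h : IsClosed (An.Pts.pt ⁻¹' T : Set (Pts X))) : IsClosed T := by
  rw [← closure_subset_iff_isClosed]
  intro p hp
  by_contra hpT
  obtain ⟨x, hx⟩ := exists_pt_mem_constructible
    ((isLocallyConstructible_closed (isClosed_closure (s := T))).inter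
      (isLocallyConstructible_compl hT)) ⟨p, hp, hpT⟩
  have h1 : x ∈ (An.Pts.pt ⁻¹' closure T : Set (Pts X)) := hx.1
  rw [preimage_closure hT, h.closure_eq] at h1
  exact hx.2 h1

theorem isOpen_iff_pts {T : Set X} (hT : IsLocallyConstructible T) :
    IsOpen T ↔ IsOpen (An.Pts.pt ⁻¹' T : Set (Pts X)) := by
  refine ⟨fun h => h.preimage An.Pts.continuous_pt, fun h => ?_⟩
  rw [← isClosed_compl_iff] at h ⊢
  exact isClosed_of_pts (isLocallyConstructible_compl hT) (by simpa using h)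

theorem dense_iff_pts {T : Set X} (hT : IsLocallyConstructible T) :
    Dense T ↔ Dense (An.Pts.pt ⁻¹' T : Set (Pts X)) := by
  rw [dense_iff_closure_eq, dense_iff_closure_eq, ← preimage_closure hT]
  refine ⟨fun h => by rw [h, Set.preimage_univ], fun h => ?_⟩
  by_contra hne
  obtain ⟨x, hx⟩ := exists_pt_mem (X := X) (Set.nonempty_compl.mpr hne)
    isClosed_closure.isOpen_compl.isLocallyClosed
  exact hx (show x ∈ (An.Pts.pt ⁻¹' closure T : Set (Pts X)) by rw [h]; trivial)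

end

end Groth.Agent.AnLib
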